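import Groth.Agent.KRRReg.Main
import Groth.Agent.QCoh.HHExact
import Groth.Agent.AmpleVan.Tw
import Groth.Agent.KFlatLib.Scheme.GlueD

/-!
# Regularity in short exact sequences
-/

set_option linter.style.haveILetI false
set_option linter.unusedSectionVars false
set_option backward.isDefEq.respectTransparency false
set_option backward.isDefEq.respectTransparency.types false
set_option maxHeartbeats 1000000
set_option autoImplicit false

universe u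

open CategoryTheory CategoryTheory.Limits AlgebraicGeometry TopologicalSpace Opposite
open CategoryTheory.Abelian
open Groth.Agent.H23.PicMul

noncomputable section

namespace Groth.Agent.KRRReg

open Groth.Agent

variable {X : Scheme.{u}}

theorem subsingleton_H_X₁' {Y : TopCat.{u}} {T : ShortComplex (CohTop.Ab Y)} (hT : T.ShortExact)
    (n : ℕ) (h₂ : Subsingleton (CohTop.H T.X₂ (n + 1))) (h₃ : Subsingleton (CohTop.H T.X₃ n)) :
    Subsingleton (CohTop.H T.X₁ (n + 1)) := by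
  refine subsingleton_of_forall_eq 0 fun x => ?_
  obtain ⟨y, hy⟩ := Ext.covariant_sequence_exact₁ _ hT x (h₂.elim _ _) rfl
  rw [← hy, h₃.elim y 0]
  exact Ext.zero_comp _ _ _ _ _

theorem subsingleton_HH_X₁' {S : ShortComplex X.Modules} (hS : S.ShortExact) (n : ℕ)
    (h₂ : Subsingleton (Coh.HH X S.X₂ (n + 1))) (h₃ : Subsingleton (Coh.HH X S.X₃ n)) :
    Subsingleton (Coh.HH X S.X₁ (n + 1)) :=
  subsingleton_H_X₁' (Y := X.toPresheafedSpace.carrier) (T := S.map (QCoh.toAbFunctor X))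
    (QCoh.toAb_shortExact hS) n h₂ h₃

theorem subsingleton_HH_X₁_one {S : ShortComplex X.Modules} (hS : S.ShortExact)
    (h₂ : Subsingleton (Coh.HH X S.X₂ 1)) (hs : Function.Surjective (S.g.app ⊤)) :
    Subsingleton (Coh.HH X S.X₁ 1) := by
  let T := S.map (QCoh.toAbFunctor X)
  have hT : T.ShortExact := QCoh.toAb_shortExact hS
  refine subsingleton_of_forall_eq 0 fun x => ?_
  obtain ⟨y, hy⟩ := Ext.covariant_sequence_exact₁ _ hT x (h₂.elim _ _) rfl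
  obtain ⟨z, hz⟩ := hs (Sheaf.H.equiv₀ T.X₃ isTerminalTop y)
  have hy' : y = Sheaf.H.map T.g 0 ((Sheaf.H.equiv₀ T.X₂ isTerminalTop).symm z) := by
    refine (Sheaf.H.equiv₀ T.X₃ isTerminalTop).injective ?_
    refine Eq.trans ?_ (Sheaf.H.equiv₀_naturality isTerminalTop T.g _)
    rw [AddEquiv.apply_symm_apply]
    exact hz.symm
  rw [← hy, hy']
  show (((Sheaf.H.equiv₀ T.X₂ isTerminalTop).symm z).comp (Ext.mk₀ T.g) (add_zero 0)).comp hT.extClass rfl = 0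
  rw [Ext.comp_assoc_of_second_deg_zero, hT.comp_extClass, Ext.comp_zero]

variable {n : ℕ}

theorem shortExact_tw {g : X ⟶ Pz n} {S : ShortComplex X.Modules} (hS : S.ShortExact) (d : ℤ) :
    (S.map (AmpleVan.tw (O g d))).ShortExact := by
  haveI := AmpleVan.isEquivalence_tw (P := O g d)
    (PicClLib.isInvertible_pullback g (TwistFlat.isInvertible_twistProjSpace n d))
  exact hS.map_of_exact _

variable {g : X ⟶ Pz n} {S : ShortComplex X.Modules}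

theorem reg_X₂ (hS : S.ShortExact) (h₁ : Reg g S.X₁) (h₃ : Reg g S.X₃) : Reg g S.X₂ := fun q hq =>
  QCoh.subsingleton_HH_X₂ (shortExact_tw hS _) q (h₁ q hq) (h₃ q hq)

theorem reg_X₃ (hS : S.ShortExact) (h₂ : Reg g S.X₂)
    (h₁ : ∀ q : ℕ, 1 ≤ q → Subsingleton (Coh.HH X (tw g S.X₁ (1 - (q : ℤ))) q)) : Reg g S.X₃ := fun q hq =>
  PnCoh.Finite.subsingleton_HH_X₃ (shortExact_tw hS _) q (h₂ q hq) (by
    have h := h₁ (q + 1) (by omega)
    rwa [show (1 : ℤ) - ((q + 1 : ℕ) : ℤ) = -(q : ℤ) by omega] at h)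

theorem reg_X₁ (hS : S.ShortExact)
    (h₂ : ∀ q : ℕ, 1 ≤ q → Subsingleton (Coh.HH X (tw g S.X₂ (1 - (q : ℤ))) q)) (h₃ : Reg g S.X₃)
    (hs : Function.Surjective (S.g.app ⊤)) (q : ℕ) (hq : 1 ≤ q) :
    Subsingleton (Coh.HH X (tw g S.X₁ (1 - (q : ℤ))) q) := by
  match q, hq with
  | 1, _ =>
    have hz : (1 : ℤ) - ((1 : ℕ) : ℤ) = 0 := by norm_num
    rw [hz]
    have h2 := h₂ 1 le_rfl
    rw [hz] at h2
    refine subsingleton_HH_X₁_one (shortExact_tw hS 0) h2 ?_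
    obtain ⟨ε⟩ := iso_O_zero g
    let θ : ∀ M : X.Modules, M ≅ tw g M 0 := fun M =>
      (AmpleVan.twUnit.app M).symm ≪≫ (DCoh.tensorBi.obj M).mapIso ε
    have hnat : (θ S.X₂).hom ≫ (AmpleVan.tw (O g 0)).map S.g = S.g ≫ (θ S.X₃).hom := by
      simp only [θ, Iso.trans_hom, Functor.mapIso_hom, Category.assoc]
      show (AmpleVan.twUnit.app S.X₂).inv ≫ (DCoh.tensorBi.obj S.X₂).map ε.hom ≫ (DCoh.tensorBi.map S.g).app (O g 0) = _
      rw [(DCoh.tensorBi.map S.g).naturality, ← Category.assoc, ← Category.assoc]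
      refine congrArg (· ≫ _) ?_
      exact (AmpleVan.twUnit.inv.naturality S.g).symm
    intro w
    obtain ⟨v, hv⟩ := (ConcreteCategory.bijective_of_isIso ((θ S.X₃).hom.app ⊤)).2 w
    obtain ⟨s, rfl⟩ := hs v
    exact ⟨(θ S.X₂).hom.app ⊤ s, (congr(($hnat).app ⊤ s)).trans hv⟩
  | p + 2, _ =>
    refine subsingleton_HH_X₁' (shortExact_tw hS _) (p + 1) (h₂ (p + 2) (by omega)) ?_
    have h := h₃ (p + 1) (by omega)
    rwa [show -((p + 1 : ℕ) : ℤ) = 1 - ((p + 2 : ℕ) : ℤ) by omega] at h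

variable {T : Scheme.{u}} {S' : ShortComplex (KRR.PY n T).Modules}

theorem shortExact_UV (hS : S'.ShortExact) (V : T.Opens) :
    (S'.map (Scheme.Modules.restrictFunctor (UV n V).ι)).ShortExact :=
  hS.map_of_exact _

theorem isRegSheaf_one_iff {F : (KRR.PY n T).Modules} (hF : Coh.IsQCoh F) :
    KRR.IsRegSheaf n T (KRR.twF n T 1 F) ↔ ∀ V : T.affineOpens, ∀ q : ℕ, 1 ≤ q →
      Subsingleton (Coh.HH (UV n V.1).toScheme (tw (gV n V.1) (F.restrict (UV n V.1).ι) (1 - (q : ℤ))) q) := by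
  constructor
  · intro h V q hq
    obtain ⟨p, rfl⟩ := Nat.exists_eq_add_of_le' hq
    refine QCoh.subsingleton_HH_of_iso (twF_restrict_iso F V.1 _).some _
      ((isZero_RpushAb_iff _ (isQCoh_twF hF _) p).1 ?_ V)
    refine isZero_RpushAb_of_iso ((twF_twF F _ _).some ≪≫ eqToIso (congrArg (fun a => KRR.twF n T a F) ?_)) _
      (h (p + 1) hq)
    omega
  · intro h q hq
    obtain ⟨p, rfl⟩ := Nat.exists_eq_add_of_le' hq
    refine isZero_RpushAb_of_iso ((twF_twF F _ _).some ≪≫ eqToIso (congrArg (fun a => KRR.twF n T a F)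
        (show -((p + 1 : ℕ) : ℤ) + 1 = 1 - ((p + 1 : ℕ) : ℤ) by omega))).symm _ ?_
    exact (isZero_RpushAb_iff _ (isQCoh_twF hF _) p).2 fun V =>
      QCoh.subsingleton_HH_of_iso (twF_restrict_iso F V.1 _).some.symm _ (h V (p + 1) hq)

theorem isRegSheaf_X₂ (hS : S'.ShortExact) (h₁ : Coh.IsQCoh S'.X₁) (h₂ : Coh.IsQCoh S'.X₂)
    (h₃ : Coh.IsQCoh S'.X₃) (r₁ : KRR.IsRegSheaf n T S'.X₁) (r₃ : KRR.IsRegSheaf n T S'.X₃) :
    KRR.IsRegSheaf n T S'.X₂ :=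
  (isRegSheaf_iff h₂).2 fun V =>
    reg_X₂ (S := S'.map (Scheme.Modules.restrictFunctor (UV n V.1).ι)) (g := gV n V.1) (shortExact_UV hS V.1) ((isRegSheaf_iff h₁).1 r₁ V) ((isRegSheaf_iff h₃).1 r₃ V)

theorem isRegSheaf_X₃ (hS : S'.ShortExact) (h₁ : Coh.IsQCoh S'.X₁) (h₂ : Coh.IsQCoh S'.X₂)
    (h₃ : Coh.IsQCoh S'.X₃) (r₂ : KRR.IsRegSheaf n T S'.X₂) (r₁ : KRR.IsRegSheaf n T (KRR.twF n T 1 S'.X₁)) :
    KRR.IsRegSheaf n T S'.X₃ :=
  (isRegSheaf_iff h₃).2 fun V =>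
    reg_X₃ (S := S'.map (Scheme.Modules.restrictFunctor (UV n V.1).ι)) (g := gV n V.1) (shortExact_UV hS V.1) ((isRegSheaf_iff h₂).1 r₂ V) ((isRegSheaf_one_iff h₁).1 r₁ V)

theorem isRegSheaf_one_X₁ (hS : S'.ShortExact) (h₁ : Coh.IsQCoh S'.X₁) (h₂ : Coh.IsQCoh S'.X₂)
    (h₃ : Coh.IsQCoh S'.X₃) (r₂ : KRR.IsRegSheaf n T (KRR.twF n T 1 S'.X₂)) (r₃ : KRR.IsRegSheaf n T S'.X₃)
    (hs : ∀ V : T.affineOpens, Function.Surjective (S'.g.app (UV n V.1))) :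
    KRR.IsRegSheaf n T (KRR.twF n T 1 S'.X₁) :=
  (isRegSheaf_one_iff h₁).2 fun V =>
    reg_X₁ (S := S'.map (Scheme.Modules.restrictFunctor (UV n V.1).ι)) (g := gV n V.1) (shortExact_UV hS V.1) ((isRegSheaf_one_iff h₂).1 r₂ V) ((isRegSheaf_iff h₃).1 r₃ V) (by
      have hW : (UV n V.1).ι ''ᵁ (⊤ : (UV n V.1).toScheme.Opens) = UV n V.1 := by simp
      show Function.Surjective (S'.g.app ((UV n V.1).ι ''ᵁ ⊤))
      rw [hW]
      exact hs V)

theorem isRegSheaf_one_X₁_of_epi (hS : S'.ShortExact) (h₁ : Coh.IsQCoh S'.X₁) (h₂ : Coh.IsQCoh S'.X₂)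
    (h₃ : Coh.IsQCoh S'.X₃) (r₂ : KRR.IsRegSheaf n T (KRR.twF n T 1 S'.X₂)) (r₃ : KRR.IsRegSheaf n T S'.X₃)
    (hepi : Epi ((Scheme.Modules.pushforward (KRR.pr n T)).map S'.g)) :
    KRR.IsRegSheaf n T (KRR.twF n T 1 S'.X₁) := by
  haveI := isProper_pr (n := n) (T := T)
  exact isRegSheaf_one_X₁ hS h₁ h₂ h₃ r₂ r₃ fun V =>
    QCoh.app_surjective_of_epi (QCoh.isQCoh_pushforward _ h₂) (QCoh.isQCoh_pushforward _ h₃)
      ((Scheme.Modules.pushforward (KRR.pr n T)).map S'.g) V.2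

end Groth.Agent.KRRReg
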