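import Groth.Agent.KRRReg.Main
import Groth.Agent.S0017
import Groth.Agent.AmpleDev.Basic
import Groth.Agent.QCoh.AffineCohom
import Groth.Agent.KFlatLib.Scheme.TildePush
import Groth.Agent.PnCoh.Finite.SerreVanishing
import Mathlib.Algebra.TrivSqZeroExt.Basic

/-!
# Modules pulled back from the base are regular
-/

set_option linter.style.haveILetI false
set_option linter.unusedSectionVars false
set_option backward.isDefEq.respectTransparency false
set_option backward.isDefEq.respectTransparency.types false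
set_option maxHeartbeats 1000000
set_option autoImplicit false

universe u

open CategoryTheory CategoryTheory.Limits AlgebraicGeometry TopologicalSpace Opposite
open Groth.Agent.H23.PicMul

noncomputable section

namespace Groth.Agent.KRRReg

open Groth.Agent

variable {n : ℕ}

theorem subsingleton_HH_retract {X : Scheme.{u}} {E E' : X.Modules} (s : E ⟶ E') (r : E' ⟶ E)
    (h : s ≫ r = 𝟙 E) (q : ℕ) (h' : Subsingleton (Coh.HH X E' q)) : Subsingleton (Coh.HH X E q) :=
  PnCoh.Finite.subsingleton_HH_of_decomposition (fun _ : PUnit.{1} => E') (fun _ => s) (fun _ => r)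
    (by simpa using h) q fun _ => h'

/-- A module is a retract of the square zero extension it defines. -/
theorem exists_retract_tilde {A : CommRingCat.{u}} (M : ModuleCat.{u} A) [Module Aᵐᵒᵖ M] [IsCentralScalar A M] :
    let f := Spec.map (CommRingCat.ofHom (algebraMap A (TrivSqZeroExt A M)))
    ∃ (s : (tilde.functor A).obj M ⟶ (Coh.push f).obj (Coh.structureModule _))
      (r : (Coh.push f).obj (Coh.structureModule _) ⟶ (tilde.functor A).obj M), s ≫ r = 𝟙 _ := by
  intro f
  let B : CommRingCat.{u} := CommRingCat.of (TrivSqZeroExt A M)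
  let φ : A ⟶ B := CommRingCat.ofHom (algebraMap A (TrivSqZeroExt A M))
  let NB := (Coh.push f).obj (Coh.structureModule (Spec B))
  let e : (tilde.functor A).obj ((ModuleCat.restrictScalars φ.hom).obj (ModuleCat.of B B)) ≅ NB :=
    (KFlatLib.pushTildeIso φ).symm.app (ModuleCat.of B B) ≪≫ (Coh.push f).mapIso (tildeSelf (R := B))
  let i₀ : M ⟶ (ModuleCat.restrictScalars φ.hom).obj (ModuleCat.of B B) :=
    ModuleCat.ofHom (Y := (ModuleCat.restrictScalars φ.hom).obj (ModuleCat.of B B))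
      { toFun := fun m => (TrivSqZeroExt.inr m : TrivSqZeroExt A M)
        map_add' := fun a b => TrivSqZeroExt.inr_add A a b
        map_smul' := fun c a => by
          show (TrivSqZeroExt.inr (c • a) : TrivSqZeroExt A M) = (TrivSqZeroExt.inl c * TrivSqZeroExt.inr a : TrivSqZeroExt A M)
          exact (TrivSqZeroExt.inl_mul_inr c a).symm }
  have hp : ∀ (c : A) (b : TrivSqZeroExt A M),
      TrivSqZeroExt.snd (TrivSqZeroExt.inl c * b) = c • TrivSqZeroExt.snd b := fun c b => by
    rw [TrivSqZeroExt.snd_mul, TrivSqZeroExt.fst_inl, TrivSqZeroExt.snd_inl, smul_zero, add_zero]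
  let p₀ : (ModuleCat.restrictScalars φ.hom).obj (ModuleCat.of B B) ⟶ M :=
    ModuleCat.ofHom (X := (ModuleCat.restrictScalars φ.hom).obj (ModuleCat.of B B))
      { toFun := fun b => TrivSqZeroExt.snd (b : TrivSqZeroExt A M)
        map_add' := fun a b => rfl
        map_smul' := fun c b => hp c b }
  refine ⟨(tilde.functor A).map i₀ ≫ e.hom, e.inv ≫ (tilde.functor A).map p₀, ?_⟩
  rw [Category.assoc, e.hom_inv_id_assoc, ← Functor.map_comp,
    show i₀ ≫ p₀ = 𝟙 M from ModuleCat.hom_ext (LinearMap.ext fun m => TrivSqZeroExt.snd_inr A m),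
    CategoryTheory.Functor.map_id]

section Affine

variable {A : CommRingCat.{u}} {P : Scheme.{u}} (π : P ⟶ Spec A) (g : P ⟶ Pz n)

theorem HH_pullback_tilde
    (hsq : IsPullback g π (CohB1.ProjSpace.toSpec n Zu.{u}) (specULiftZIsTerminal.from (Spec A)))
    (M : ModuleCat.{u} A) (d : ℤ) (q : ℕ) (hd : ¬ ((q = 0 ∧ 0 ≤ d) ∨ (q = n ∧ d ≤ -((n : ℤ) + 1)))) :
    Subsingleton (Coh.HH P (tw g ((Scheme.Modules.pullback π).obj ((tilde.functor A).obj M)) d) q) := by
  letI : Module Aᵐᵒᵖ M := Module.compHom M ((RingHom.id A).fromOpposite mul_comm)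
  haveI : IsCentralScalar A M := ⟨fun _ _ => rfl⟩
  let B : CommRingCat.{u} := CommRingCat.of (TrivSqZeroExt A M)
  let φ : A ⟶ B := CommRingCat.ofHom (algebraMap A (TrivSqZeroExt A M))
  let f := Spec.map φ
  let P' := pullback π f
  let f' : P' ⟶ P := pullback.fst π f
  let π' : P' ⟶ Spec B := pullback.snd π f
  haveI : IsAffineHom f' := MorphismProperty.pullback_fst (P := @IsAffineHom) _ _ inferInstance
  letI : P'.Over (Spec (CommRingCat.of B)) := ⟨π'⟩
  have hsq' : IsPullback (f' ≫ g) π' (CohB1.ProjSpace.toSpec n Zu.{u})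
      (Spec.map (CommRingCat.ofHom ((Int.castRingHom B).comp (ULift.ringEquiv (R := ℤ)).toRingHom))) := by
    have h := (IsPullback.of_hasPullback π f).paste_horiz hsq
    rwa [specULiftZIsTerminal.hom_ext (f ≫ specULiftZIsTerminal.from (Spec A))
      (Spec.map (CommRingCat.ofHom ((Int.castRingHom B).comp (ULift.ringEquiv (R := ℤ)).toRingHom)))] at h
  have h0 := CohBasic.subsingleton_HH_bc (B := (B : Type u)) n d ((Int.castRingHom B).comp (ULift.ringEquiv (R := ℤ)).toRingHom) (f' ≫ g) hsq' q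
    (S0844.result Zu.{u} n d q (fun c => hd (Or.inl c)) (fun c => hd (Or.inr c)))
  have hO : Coh.IsQCoh (O (f' ≫ g) d) := isQCoh_O _ d
  obtain ⟨e₀⟩ := QCoh.HH_push_of_isAffineHom f' hO q
  haveI : Subsingleton (Coh.HH P ((Coh.push f').obj (O (f' ≫ g) d)) q) := e₀.symm.toEquiv.subsingleton
  let N := (tilde.functor A).obj M
  let NB := (Coh.push f).obj (Coh.structureModule (Spec B))
  obtain ⟨s, r, hsr⟩ : ∃ (s : N ⟶ NB) (r : NB ⟶ N), s ≫ r = 𝟙 N := exists_retract_tilde M
  let G := (DCoh.tensorBi.flip.obj (O g d) : P.Modules ⥤ P.Modules)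
  let F := Scheme.Modules.pullback π ⋙ G
  refine subsingleton_HH_retract (F.map s) (F.map r) (by rw [← Functor.map_comp, hsr]; exact F.map_id N) q ?_
  haveI : Coh.IsQCoh (Coh.structureModule (Spec B)) := QCoh.isQCoh_structureModule
  obtain ⟨e₁⟩ := S0017.result f π π' f' (IsPullback.of_hasPullback π f).flip (Coh.structureModule (Spec B))
  obtain ⟨e₂⟩ := PicClLib.nonempty_pullback_structureModule π'
  obtain ⟨e₃⟩ := AmpleDev.push_tensor_iso f' (PicClLib.isInvertible_pullback g
    (TwistFlat.isInvertible_twistProjSpace n d)) (Coh.structureModule P')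
  obtain ⟨e₄⟩ : Nonempty (CohB1.tensorMod (Coh.structureModule P') ((Scheme.Modules.pullback f').obj (O g d)) ≅
      O (f' ≫ g) d) := cl_eq_iff.1 (by
    rw [cl_tensor]
    refine (one_mul _).trans ?_
    show PicF.pullCl f' (PicF.pullCl g (PicF.cl (Twist.twistProjSpace n Zu.{u} d))) =
      PicF.pullCl (f' ≫ g) (PicF.cl (Twist.twistProjSpace n Zu.{u} d))
    exact PicClLib.pullCl_comp _ _ _)
  let e : F.obj NB ≅ (Coh.push f').obj (O (f' ≫ g) d) :=
    G.mapIso (e₁ ≪≫ (Coh.push f').mapIso e₂) ≪≫ e₃ ≪≫ (Coh.push f').mapIso e₄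
  exact QCoh.subsingleton_HH_of_iso e.symm q inferInstance

end Affine

variable {T : Scheme.{u}}

theorem isPullback_gV (V : T.affineOpens) :
    IsPullback (gV n V.1) (QCoh.overSpec (KRR.pr n T) V.2) (CohB1.ProjSpace.toSpec n Zu.{u})
      (specULiftZIsTerminal.from (Spec Γ(T, V.1))) := by
  have h := (QCoh.isPullback_overSpec (f := KRR.pr n T) V.2).paste_horiz
    (IsPullback.of_hasPullback (CohB1.ProjSpace.toSpec n Zu.{u}) (specULiftZIsTerminal.from T))
  rwa [specULiftZIsTerminal.hom_ext (V.2.fromSpec ≫ specULiftZIsTerminal.from T)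
    (specULiftZIsTerminal.from (Spec Γ(T, V.1)))] at h

/-- `R^q p_* (p^* N ⊗ O(d))` vanishes as soon as the cohomology of `O(d)` does. -/
theorem HH_UV_pullback {N : T.Modules} (hN : Coh.IsQCoh N) (V : T.affineOpens) (d : ℤ) (q : ℕ)
    (hd : ¬ ((q = 0 ∧ 0 ≤ d) ∨ (q = n ∧ d ≤ -((n : ℤ) + 1)))) :
    Subsingleton (Coh.HH (UV n V.1).toScheme
      (tw (gV n V.1) (((Scheme.Modules.pullback (KRR.pr n T)).obj N).restrict (UV n V.1).ι) d) q) := by
  obtain ⟨M, ⟨eM⟩⟩ := QCoh.isQCoh_spec_iff.1 (QCoh.isQCoh_pullback V.2.fromSpec hN)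
  let π := QCoh.overSpec (KRR.pr n T) V.2
  let e : (Scheme.Modules.pullback π).obj ((tilde.functor _).obj M) ≅
      ((Scheme.Modules.pullback (KRR.pr n T)).obj N).restrict (UV n V.1).ι :=
    (Scheme.Modules.pullback π).mapIso eM ≪≫ (Scheme.Modules.pullbackComp π V.2.fromSpec).app N ≪≫
      (Scheme.Modules.pullbackCongr (QCoh.overSpec_fromSpec (f := KRR.pr n T) V.2)).app N ≪≫
      ((Scheme.Modules.pullbackComp (UV n V.1).ι (KRR.pr n T)).symm.app N) ≪≫
      ((Scheme.Modules.restrictFunctorIsoPullback (UV n V.1).ι).app _).symm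
  exact QCoh.subsingleton_HH_of_iso ((DCoh.tensorBi.flip.obj (O (gV n V.1) d)).mapIso e) q
    (HH_pullback_tilde π (gV n V.1) (isPullback_gV V) M d q hd)

theorem isZero_RpushAb_pullback {N : T.Modules} (hN : Coh.IsQCoh N) (d : ℤ) (q : ℕ) (hq : 1 ≤ q)
    (hd : -(n : ℤ) ≤ d) :
    IsZero ((Coh.RpushAb (KRR.pr n T) q).obj
      (Coh.toAb (KRR.twF n T d ((Scheme.Modules.pullback (KRR.pr n T)).obj N)))) := by
  obtain ⟨p, rfl⟩ := Nat.exists_eq_add_of_le' hq
  exact (isZero_RpushAb_iff _ (isQCoh_twF (QCoh.isQCoh_pullback _ hN) _) p).2 fun V =>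
    QCoh.subsingleton_HH_of_iso (twF_restrict_iso _ V.1 _).some.symm _
      (HH_UV_pullback hN V d (p + 1) (by rintro (⟨h, -⟩ | ⟨-, h⟩) <;> omega))

theorem isRegSheaf_pullback {N : T.Modules} (hN : Coh.IsQCoh N) :
    KRR.IsRegSheaf n T ((Scheme.Modules.pullback (KRR.pr n T)).obj N) :=
  (isRegSheaf_iff (QCoh.isQCoh_pullback _ hN)).2 fun V q hq =>
    HH_UV_pullback hN V _ q (by rintro (⟨h, -⟩ | ⟨h, h'⟩) <;> omega)

theorem isRegSheaf_one_pullback {N : T.Modules} (hN : Coh.IsQCoh N) :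
    KRR.IsRegSheaf n T (KRR.twF n T 1 ((Scheme.Modules.pullback (KRR.pr n T)).obj N)) :=
  isRegSheaf_twF (QCoh.isQCoh_pullback _ hN) (isRegSheaf_pullback hN) 1

end Groth.Agent.KRRReg
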