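import Groth.Agent.KRRReg.Main
import Groth.Agent.TwistFlat.Main
import Groth.Agent.AmpleVan.LiftFibre
import Mathlib.AlgebraicGeometry.Morphisms.Flat

/-!
# Flatness of `P^n_T` and local freeness of pushforwards of regular sheaves
-/

set_option linter.style.haveILetI false
set_option linter.unusedSectionVars false
set_option backward.isDefEq.respectTransparency false
set_option backward.isDefEq.respectTransparency.types false
set_option maxHeartbeats 1000000
set_option synthInstance.maxHeartbeats 200000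
set_option autoImplicit false

universe u

open CategoryTheory CategoryTheory.Limits AlgebraicGeometry TopologicalSpace Opposite
open Groth.Agent.H23.PicMul

attribute [-instance] ULift.module ULift.smulLeft ULift.mulAction ULift.smulZeroClass ULift.distribSMul
  ULift.distribMulAction ULift.smulWithZero ULift.mulActionWithZero

noncomputable section

namespace Groth.Agent.KRRReg

open Groth.Agent

theorem zsmul_eq_zero_Pz (n : ℕ) (U : (Pz.{u} n).Opens) (a : ℤ) (ha : a ≠ 0) (s : Γ(Pz.{u} n, U))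
    (h : a • s = 0) : s = 0 := by
  obtain ⟨e⟩ := iso_O_zero (𝟙 (Pz.{u} n))
  let e' : Coh.structureModule (Pz.{u} n) ≅ Twist.twistProjSpace n Zu.{u} 0 :=
    e ≪≫ (Scheme.Modules.pullbackId (Pz.{u} n)).app _
  let φ : Γ(Coh.structureModule (Pz.{u} n), U) →+ Γ(Twist.twistProjSpace n Zu.{u} 0, U) := (e'.hom.app U).hom
  refine (ConcreteCategory.bijective_of_isIso (e'.hom.app U)).1 ?_
  show φ (show Γ(Coh.structureModule (Pz.{u} n), U) from s) = φ 0
  rw [map_zero]
  refine CohBasic.sections_tf n 0 U a ha _ ?_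
  rw [← map_zsmul]
  exact (congrArg φ h).trans (map_zero φ)

instance flat_toSpec (n : ℕ) : Flat (CohB1.ProjSpace.toSpec n Zu.{u}) := by
  refine IsZariskiLocalAtSource.of_openCover (P := @Flat) (Pz.{u} n).affineCover fun i => ?_
  obtain ⟨φ, hφ⟩ := Spec.map_surjective ((Pz.{u} n).affineCover.f i ≫ CohB1.ProjSpace.toSpec n Zu.{u})
  rw [← hφ, HasRingHomProperty.Spec_iff (P := @Flat)]
  let R := ((Pz.{u} n).affineCover.X i)
  letI := φ.hom.toAlgebra
  show Module.Flat _ _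
  refine CohBasic.flat_of_tf _ fun a m ham => or_iff_not_imp_left.2 fun ha => ?_
  let j := (Pz.{u} n).affineCover.f i
  let ψ : Γ(Pz.{u} n, j.opensRange) ⟶ _ := j.app j.opensRange ≫ (((Pz.{u} n).affineCover.X i).presheaf.map
    (homOfLE (show (⊤ : ((Pz.{u} n).affineCover.X i).Opens) ≤ j ⁻¹ᵁ j.opensRange from
      j.preimage_opensRange.ge)).op) ≫ (Scheme.ΓSpecIso _).hom
  have hψ : Function.Bijective ψ := by
    haveI : IsIso (j.app j.opensRange) := j.isIso_app _ le_rfl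
    haveI : IsIso (homOfLE (show (⊤ : ((Pz.{u} n).affineCover.X i).Opens) ≤ j ⁻¹ᵁ j.opensRange from
      j.preimage_opensRange.ge)) := ⟨homOfLE le_top, Subsingleton.elim _ _, Subsingleton.elim _ _⟩
    haveI : IsIso ψ := inferInstance
    exact ConcreteCategory.bijective_of_isIso ψ
  obtain ⟨s, rfl⟩ := hψ.2 m
  rw [CohBasic.down_smul, ← map_zsmul] at ham
  rw [zsmul_eq_zero_Pz n _ a.down (CohBasic.down_ne ha) s (hψ.1 (ham.trans (map_zero ψ.hom).symm))]
  exact map_zero ψ.hom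

variable {n : ℕ} {Y : Scheme.{u}}

instance flat_pr : Flat (KRR.pr n Y) :=
  MorphismProperty.pullback_snd (P := @Flat) _ _ (flat_toSpec n)

theorem isFlatOver_finLocFree {F : (KRR.PY n Y).Modules} (hF : FlatMod.IsFinLocFree F) :
    FlatMod.IsFlatOver (KRR.pr n Y) F := fun x => by
  show FlatMod.IsFlatOverAt (KRR.pr n Y) F x
  unfold FlatMod.IsFlatOverAt
  letI := FlatMod.moduleStalkOver (KRR.pr n Y) F x
  letI : Algebra (Y.presheaf.stalk ((KRR.pr n Y).base x)) ((KRR.PY n Y).presheaf.stalk x) :=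
    ((KRR.pr n Y).stalkMap x).hom.toAlgebra
  haveI : IsScalarTower (Y.presheaf.stalk ((KRR.pr n Y).base x)) ((KRR.PY n Y).presheaf.stalk x) (F.presheaf.stalk x) :=
    IsScalarTower.of_algebraMap_smul fun _ _ => rfl
  haveI : Module.Flat (Y.presheaf.stalk ((KRR.pr n Y).base x)) ((KRR.PY n Y).presheaf.stalk x) :=
    Flat.stalkMap (KRR.pr n Y) x
  haveI := QCoh.free_stalk_of_isFinLocFree hF x
  exact Module.Flat.trans _ ((KRR.PY n Y).presheaf.stalk x) _

theorem isCoh_of_finLocFree {X : Scheme.{u}} {F : X.Modules} (hF : FlatMod.IsFinLocFree F) : Coh.IsCoh F :=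
  ⟨QCoh.isQCoh_of_isFinLocFree hF, QCoh.isFT_of_isFP (QCoh.isFP_of_isFinLocFree hF)⟩

/-- Pushforwards of flat regular sheaves are locally free. -/
theorem isFinLocFree_push [IsNoetherian Y] {F : (KRR.PY n Y).Modules} (hF : Coh.IsCoh F)
    (hfl : FlatMod.IsFlatOver (KRR.pr n Y) F) (hreg : KRR.IsRegSheaf n Y F) :
    FlatMod.IsFinLocFree ((Scheme.Modules.pushforward (KRR.pr n Y)).obj F) := by
  let f := KRR.pr n Y
  haveI := isProper_pr (n := n) (T := Y)
  have key : ∀ V : Y.affineOpens,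
      Module.Flat Γ(Y, V.1) Γ((Scheme.Modules.pushforward f).obj F, V.1) := fun V => by
    let W := f ⁻¹ᵁ V.1
    letI : W.toScheme.Over (Spec (CommRingCat.of Γ(Y, V.1))) := ⟨QCoh.overSpec f V.2⟩
    haveI : IsProper (W.toScheme ↘ Spec (CommRingCat.of Γ(Y, V.1))) :=
      inferInstanceAs (IsProper ((f ∣_ V.1) ≫ V.2.isoSpec.hom))
    haveI : CompactSpace W.toScheme := AmpleVan.compactSpace_of_proper (A := Γ(Y, V.1))
    haveI := AmpleVan.isSeparated_of_proper (X := W.toScheme) (A := Γ(Y, V.1))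
    refine (TwistFlat.flat_top_iff f V.2 _).1 (TwistFlat.flat_top_of_flat_HH (A := Γ(Y, V.1)) _ ?_)
    refine TwistFlat.flat_HH_zero (A := Γ(Y, V.1)) (QCoh.isQCoh_restrict W.ι hF.1)
      (TwistFlat.isFlatOver_overSpec f V.2 hF.1 hfl) fun p hp => ?_
    obtain ⟨q, rfl⟩ : ∃ q, p = q + 1 := ⟨p - 1, by omega⟩
    exact (isZero_RpushAb_iff F hF.1 q).1 (isZero_RpushAb_of_reg hF.1 hreg (q + 1) (by omega)) V
  refine QCoh.isFlat_and_isFP_iff.1 ⟨?_, ?_⟩
  · refine (KFlatLib.isFlatOver_id_iff _).1 fun y => ?_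
    obtain ⟨_, ⟨V, hV, rfl⟩, hy, -⟩ := Y.isBasis_affineOpens.exists_subset_of_mem_open (Set.mem_univ y) isOpen_univ
    exact (TwistFlat.flat_sections_iff (ExistEasy.isCoh_pushforward_proper f hF).1 hV).1 (key ⟨V, hV⟩) y hy
  · exact QCoh.isCoh_iff_isFP.1 (ExistEasy.isCoh_pushforward_proper f hF)

theorem eventually_isFinLocFree_push [IsNoetherian Y] {F : (KRR.PY n Y).Modules} (hF : FlatMod.IsFinLocFree F) :
    ∃ m₀ : ℕ, ∀ m : ℕ, m₀ ≤ m →
      FlatMod.IsFinLocFree ((Scheme.Modules.pushforward (KRR.pr n Y)).obj (KRR.twF n Y (m : ℤ) F)) := by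
  obtain ⟨N, hN⟩ := TwistFlat.exists_forall_isFinLocFree n (𝟙 (KRR.PY n Y)) (isCoh_of_finLocFree hF)
    (by rw [Category.id_comp]; exact isFlatOver_finLocFree hF)
  refine ⟨N, fun m hm => ?_⟩
  have h := hN m hm
  rw [Category.id_comp] at h
  intro y
  obtain ⟨U, r, hy, ⟨φ⟩⟩ := h y
  refine ⟨U, r, hy, ⟨(Scheme.Modules.restrictFunctor U.ι).mapIso
    ((Scheme.Modules.pushforward (KRR.pr n Y)).mapIso (cl_eq_iff.1 ?_).some) ≪≫ φ⟩⟩
  rw [cl_tensor, cl_twF, mul_comm]
  exact congrArg (PicF.cl F * ·) (PicClLib.pullCl_id _).symm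

end Groth.Agent.KRRReg
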