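import Groth.Agent.KRRReg.PushCl
import Groth.Agent.QCoh.DevissageP
import Groth.Agent.KFlatLib.Scheme.ProjModule
import Groth.Agent.Lib.CurveTensor
import Groth.Agent.ZClosLib.CohDescent

/-!
# Operations on the push-forward along regular closed immersions
-/

set_option linter.style.haveILetI false
set_option linter.unusedSectionVars false
set_option backward.isDefEq.respectTransparency false
set_option backward.isDefEq.respectTransparency.types false
set_option maxHeartbeats 1000000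
set_option autoImplicit false

universe u v

open CategoryTheory CategoryTheory.Limits AlgebraicGeometry TopologicalSpace Opposite ZeroObject

noncomputable section

namespace Groth.Agent.KRRReg

open Groth.Agent

variable {X Y Z : Scheme.{u}}

/-- Devissage for modules with finite locally free resolutions. -/
theorem pdlt_induction [IsNoetherian Y] (hY : KRR.HasEnoughLocFree Y) {Q : Y.Modules → Prop}
    (hvb : ∀ E : Y.Modules, FlatMod.IsFinLocFree E → Q E)
    (hcok : ∀ S : ShortComplex Y.Modules, S.ShortExact → Coh.IsCoh S.X₁ → Coh.IsCoh S.X₂ → Coh.IsCoh S.X₃ →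
      Q S.X₁ → Q S.X₂ → Q S.X₃) {A : Y.Modules} (hA : KZ.LFRes.P₁ Y A) : Q A := by
  obtain ⟨n, hn⟩ := KZ.LFRes.exists_pdlt hA.2
  clear hA
  induction n generalizing A with
  | zero => exact hvb A (KZ.LFRes.pdlt_one_iff.1 hn)
  | succ n ih =>
    obtain ⟨E, p, hE, hp⟩ := hY A hn.1
    let S := ShortComplex.mk (kernel.ι p) p (kernel.condition p)
    have hS : S.ShortExact := { exact := ShortComplex.exact_kernel _, mono_f := inferInstance, epi_g := hp }
    have hk : KZ.LFRes.PDLT (n + 1) S.X₁ :=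
      KZ.LFRes.PDLT.kernel_of hS ((KZ.LFRes.pdlt_one_iff.2 hE).mono (by omega)) hn
    exact hcok S hS hk.1 (KZ.LFRes.flf_isCoh hE) hn.1 (ih hk) (hvb E hE)

/-- Direct image along a closed immersion is exact on quasi-coherent modules. -/
theorem shortExact_pushClosed {f : X ⟶ Y} [IsClosedImmersion f] {S : ShortComplex X.Modules} (hS : S.ShortExact)
    (h₂ : Coh.IsQCoh S.X₂) (h₃ : Coh.IsQCoh S.X₃) :
    (S.map (Scheme.Modules.pushforward f)).ShortExact := by
  haveI : PreservesFiniteLimits (Scheme.Modules.pushforward f) := QCoh.preservesFiniteLimits_push _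
  haveI := hS.mono_f
  haveI := hS.epi_g
  haveI hm : Mono ((Scheme.Modules.pushforward f).map S.f) := inferInstance
  haveI he : Epi ((Scheme.Modules.pushforward f).map S.g) := AmpleVan.epi_push f h₂ h₃ S.g
  exact ShortComplex.ShortExact.mk' (hS.exact.map_of_mono_of_preservesKernel _ inferInstance inferInstance) hm he

theorem p₁_iso [IsNoetherian Y] (hY : KRR.HasEnoughLocFree Y) {A B : Y.Modules} (e : A ≅ B)
    (h : KZ.LFRes.P₁ Y A) : KZ.LFRes.P₁ Y B :=
  (KZ.LFRes.resSetup hY).iso₁.of_iso e h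

theorem p₁_vb [IsNoetherian Y] (hY : KRR.HasEnoughLocFree Y) {E : Y.Modules} (h : FlatMod.IsFinLocFree E) :
    KZ.LFRes.P₁ Y E :=
  (KZ.LFRes.resSetup hY).le _ h

/-- Direct image along a regular closed immersion preserves finite projective dimension. -/
theorem p₁_push [IsNoetherian Y] [IsNoetherian Z] (hY : KRR.HasEnoughLocFree Y) (hZ : KRR.HasEnoughLocFree Z)
    {g : Y ⟶ Z} (hg : Mor2.IsRegularClosedImmersion g) {A : Y.Modules} (hA : KZ.LFRes.P₁ Y A) :
    KZ.LFRes.P₁ Z ((Scheme.Modules.pushforward g).obj A) := by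
  haveI := hg.1
  obtain ⟨m, hm⟩ := pdlt_induction hY (Q := fun A => ∃ m, KZ.LFRes.PDLT (m + 1) ((Scheme.Modules.pushforward g).obj A))
    (fun E hE => exists_pdlt_push hg hE)
    (fun S hS _ c₂ c₃ ⟨m₁, h₁⟩ ⟨m₂, h₂⟩ =>
      ⟨m₁ + m₂ + 1, KZ.LFRes.PDLT.cokernel_of (shortExact_pushClosed hS c₂.1 c₃.1)
        (ExistEasy.isCoh_pushforward_proper g c₃) (h₁.mono (by omega)) (h₂.mono (by omega))⟩) hA
  exact ⟨hm.1, KZ.LFRes.hasLFRes hZ m _ hm⟩

/-- Tensor product with a bundle preserves finite projective dimension. -/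
theorem p₁_tensor [IsNoetherian Y] (hY : KRR.HasEnoughLocFree Y) {E : Y.Modules} (hE : FlatMod.IsFinLocFree E)
    {A : Y.Modules} (hA : KZ.LFRes.P₁ Y A) : KZ.LFRes.P₁ Y ((DCoh.tensorBi.obj E).obj A) := by
  obtain ⟨m, hm⟩ := pdlt_induction hY (Q := fun A => ∃ m, KZ.LFRes.PDLT (m + 1) ((DCoh.tensorBi.obj E).obj A))
    (fun L hL => ⟨0, KZ.LFRes.pdlt_one_iff.2 (KFlatLib.isFinLocFree_tensor hE hL)⟩)
    (fun S hS _ _ c₃ ⟨m₁, h₁⟩ ⟨m₂, h₂⟩ =>
      ⟨m₁ + m₂ + 1, KZ.LFRes.PDLT.cokernel_of (CurveTensor.shortExact_tensor hE S.f S.g S.zero hS)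
        (CurveTensor.isCoh_tensor hE c₃) (h₁.mono (by omega)) (h₂.mono (by omega))⟩) hA
  exact ⟨hm.1, KZ.LFRes.hasLFRes hY m _ hm⟩

/-- The inverse of the comparison from bundles to resolvable modules. -/
theorem exists_bundleClass [IsNoetherian Y] (hY : KRR.HasEnoughLocFree Y) :
    ∃ e : KZero.K0sub (KZ.LFRes.P₁ Y) →+ SGA6.Kvb Y,
      ∀ E, FlatMod.IsFinLocFree E → e (KZero.clSub (KZ.LFRes.P₁ Y) E) = KRR.cl Y E := by
  obtain ⟨ι, hι⟩ := KZ.exists_liftSub (G := KZero.K0sub (KZ.LFRes.P₁ Y)) (KRR.vbP Y)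
    (fun M => KZero.clSub (KZ.LFRes.P₁ Y) M) fun S hS h₁ h₂ h₃ =>
      KZ.clSub_ses _ hS (p₁_vb hY h₁) (p₁_vb hY h₂) (p₁_vb hY h₃)
  let eι := AddEquiv.ofBijective ι (KZ.LFRes.bijective_resolvable hY ι hι)
  exact ⟨eι.symm.toAddMonoidHom, fun E hE =>
    (congrArg eι.symm (hι E hE).symm).trans (eι.symm_apply_apply _)⟩

/-- Additive functions on resolvable modules agreeing on bundles agree. -/
theorem p₁_hom_ext [IsNoetherian Y] (hY : KRR.HasEnoughLocFree Y) {G : Type*} [AddCommGroup G]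
    {a b : KZero.K0sub (KZ.LFRes.P₁ Y) →+ G}
    (h : ∀ E, FlatMod.IsFinLocFree E → a (KZero.clSub (KZ.LFRes.P₁ Y) E) = b (KZero.clSub (KZ.LFRes.P₁ Y) E)) :
    a = b := by
  obtain ⟨ι, hι⟩ := KZ.exists_liftSub (G := KZero.K0sub (KZ.LFRes.P₁ Y)) (KRR.vbP Y)
    (fun M => KZero.clSub (KZ.LFRes.P₁ Y) M) fun S hS h₁ h₂ h₃ =>
      KZ.clSub_ses _ hS (p₁_vb hY h₁) (p₁_vb hY h₂) (p₁_vb hY h₃)
  have key : a.comp ι = b.comp ι := KZ.K0sub_hom_ext (KRR.vbP Y) fun E hE => by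
    simp only [AddMonoidHom.comp_apply, hι E hE]
    exact h E hE
  refine AddMonoidHom.ext fun z => ?_
  obtain ⟨y, rfl⟩ := (KZ.LFRes.bijective_resolvable hY ι hι).2 z
  exact DFunLike.congr_fun key y

theorem clSub_p₁_iso [IsNoetherian Y] (hY : KRR.HasEnoughLocFree Y) {A B : Y.Modules} (e : A ≅ B)
    (h : KZ.LFRes.P₁ Y A) : KZero.clSub (KZ.LFRes.P₁ Y) A = KZero.clSub (KZ.LFRes.P₁ Y) B :=
  KZ.clSub_iso _ e h (p₁_iso hY e h) (isZero_zero _)
    (p₁_vb hY (KZ.LFRes.pdlt_one_iff.1 ((KZ.LFRes.pdlt_of_isZero (isZero_zero _)).mono (Nat.zero_le 1))))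

variable {KX : Type*} {KY : Type*} {KT : Type*} [CommRing KX] [CommRing KY] [CommRing KT]

/-- The push-forward of a bundle class is the class of the direct image. -/
theorem pushCl_apply [IsNoetherian Y] (hY : KRR.HasEnoughLocFree Y)
    {e : KZero.K0sub (KZ.LFRes.P₁ Y) →+ SGA6.Kvb Y}
    (he : ∀ E, FlatMod.IsFinLocFree E → e (KZero.clSub (KZ.LFRes.P₁ Y) E) = KRR.cl Y E)
    {f : X ⟶ Y} {φX : SGA6.Kvb X →+ KX} {φY : SGA6.Kvb Y →+ KY} {h : KX →+ KY}
    (hh : KRR.IsPushCl f φX φY h) {F : X.Modules} (hF : FlatMod.IsFinLocFree F)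
    (hP : KZ.LFRes.P₁ Y ((Scheme.Modules.pushforward f).obj F)) :
    h (φX (KRR.cl X F)) = φY (e (KZero.clSub (KZ.LFRes.P₁ Y) ((Scheme.Modules.pushforward f).obj F))) := by
  obtain ⟨n, L, π, hres⟩ := hP.2
  rw [hh F hF n L π hres, cl_eq_altsum hY hres, map_sum, map_sum]
  refine Finset.sum_congr rfl fun k _ => ?_
  rw [map_zsmul, map_zsmul, he _ (hres.finLocFree k)]

/-- Functoriality of the push-forward along regular closed immersions. -/
theorem pushCl_comp [IsNoetherian X] [IsNoetherian Y] [IsNoetherian Z] (hY : KRR.HasEnoughLocFree Y)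
    (hZ : KRR.HasEnoughLocFree Z) {f : X ⟶ Y} {g : Y ⟶ Z} (hf : Mor2.IsRegularClosedImmersion f)
    (hg : Mor2.IsRegularClosedImmersion g) {φX : SGA6.Kvb X →+ KX} (hφ : Function.Bijective φX)
    {φY : SGA6.Kvb Y →+ KY} {φZ : SGA6.Kvb Z →+ KT} {a : KX →+ KY} (ha : KRR.IsPushCl f φX φY a)
    {b : KY →+ KT} (hb : KRR.IsPushCl g φY φZ b) {c : KX →+ KT} (hc : KRR.IsPushCl (f ≫ g) φX φZ c) :
    c = b.comp a := by
  haveI := hf.1
  haveI := hg.1
  obtain ⟨eY, heY⟩ := exists_bundleClass hY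
  obtain ⟨eZ, heZ⟩ := exists_bundleClass hZ
  obtain ⟨Φ, hΦ⟩ := KZ.exists_liftSub (KZ.LFRes.P₁ Y)
    (fun A => φZ (eZ (KZero.clSub (KZ.LFRes.P₁ Z) ((Scheme.Modules.pushforward g).obj A)))) fun S hS h₁ h₂ h₃ => by
      have := KZ.clSub_ses _ (shortExact_pushClosed (f := g) hS h₂.1.1 h₃.1.1) (p₁_push hY hZ hg h₁)
        (p₁_push hY hZ hg h₂) (p₁_push hY hZ hg h₃)
      exact (congrArg (φZ.comp eZ) this).trans (map_add _ _ _)
  have key : (b.comp φY).comp eY = Φ := p₁_hom_ext hY fun E hE => by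
    show b (φY (eY (KZero.clSub (KZ.LFRes.P₁ Y) E))) = _
    rw [heY E hE, hΦ E (p₁_vb hY hE)]
    exact pushCl_apply hZ heZ hb hE (p₁_push hY hZ hg (p₁_vb hY hE))
  refine AddMonoidHom.ext fun z => ?_
  obtain ⟨x, rfl⟩ := hφ.2 z
  refine DFunLike.congr_fun (KZ.K0sub_hom_ext (KRR.vbP X) (f := c.comp φX) (g := (b.comp a).comp φX)
    fun F hF => ?_) x
  have hP : KZ.LFRes.P₁ Y ((Scheme.Modules.pushforward f).obj F) :=
    ⟨(exists_pdlt_push hf hF).choose_spec.1, hasLFRes_push hY hf hF⟩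
  let ε := ((Scheme.Modules.pushforwardComp f g).app F).symm
  have hP' := p₁_push hY hZ hg hP
  show c (φX (KRR.cl X F)) = b (a (φX (KRR.cl X F)))
  rw [pushCl_apply hY heY ha hF hP, pushCl_apply hZ heZ hc hF (p₁_iso hZ ε.symm hP')]
  refine Eq.trans ?_ (DFunLike.congr_fun key _).symm
  rw [hΦ _ hP, ← clSub_p₁_iso hZ ε.symm hP']
  rfl

/-- The projection formula for a regular closed immersion. -/
theorem pushCl_mul_pull [IsNoetherian X] [IsNoetherian Y]
    (hY : KRR.HasEnoughLocFree Y) {f : X ⟶ Y} (hf : Mor2.IsRegularClosedImmersion f) {φX : SGA6.Kvb X →+ KX} (hKX : IsRingModel X KX φX) {φY : SGA6.Kvb Y →+ KY} (hKY : IsRingModel Y KY φY)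
    {g : KY →+ KX} (hg : KRR.IsPull f φY φX g) {h : KX →+ KY} (hh : KRR.IsPushCl f φX φY h)
    (x : KX) (y : KY) : h (x * g y) = h x * y := by
  haveI := hf.1
  obtain ⟨eY, heY⟩ := exists_bundleClass hY
  have hP : ∀ F : X.Modules, FlatMod.IsFinLocFree F → KZ.LFRes.P₁ Y ((Scheme.Modules.pushforward f).obj F) :=
    fun F hF => ⟨(exists_pdlt_push hf hF).choose_spec.1, hasLFRes_push hY hf hF⟩
  have key : ∀ (F : X.Modules), FlatMod.IsFinLocFree F → ∀ E : Y.Modules, FlatMod.IsFinLocFree E →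
      h (φX (KRR.cl X F) * g (φY (KRR.cl Y E))) = h (φX (KRR.cl X F)) * φY (KRR.cl Y E) := by
    intro F hF E hE
    obtain ⟨Ψ, hΨ⟩ := KZ.exists_liftSub (KZ.LFRes.P₁ Y)
      (fun A => φY (eY (KZero.clSub (KZ.LFRes.P₁ Y) ((DCoh.tensorBi.obj E).obj A)))) fun S hS h₁ h₂ h₃ => by
        have := KZ.clSub_ses _ (CurveTensor.shortExact_tensor hE S.f S.g S.zero hS) (p₁_tensor hY hE h₁)
          (p₁_tensor hY hE h₂) (p₁_tensor hY hE h₃)
        exact (congrArg (φY.comp eY) this).trans (map_add _ _ _)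
    have hΨ' : (AddMonoidHom.mulRight (φY (KRR.cl Y E))).comp (φY.comp eY) = Ψ := p₁_hom_ext hY fun L hL => by
      show φY (eY (KZero.clSub (KZ.LFRes.P₁ Y) L)) * φY (KRR.cl Y E) = _
      rw [heY L hL, hΨ L (p₁_vb hY hL), heY _ (KFlatLib.isFinLocFree_tensor hE hL), mul_comm, hKY.map_mul E L hE hL]
    haveI := KFlatLib.isIso_projMod_of_isClosedImmersion f F E
    have hFE := KFlatLib.isFinLocFree_tensor hF (KFlatLib.isFinLocFree_pullback f hE)
    let ε := CurveTensor.commIso E ((Scheme.Modules.pushforward f).obj F) ≪≫ asIso (KFlatLib.projMod f F E)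
    rw [hg E hE, hKX.map_mul _ _ hF (KFlatLib.isFinLocFree_pullback f hE), pushCl_apply hY heY hh hFE (hP _ hFE),
      pushCl_apply hY heY hh hF (hP F hF)]
    refine Eq.trans ?_ (DFunLike.congr_fun hΨ' _).symm
    rw [hΨ _ (hP F hF)]
    exact congrArg (fun t => φY (eY t)) (clSub_p₁_iso hY ε (p₁_tensor hY hE (hP F hF))).symm
  obtain ⟨x, rfl⟩ := hKX.bijective.2 x
  obtain ⟨y, rfl⟩ := hKY.bijective.2 y
  refine DFunLike.congr_fun (KZ.K0sub_hom_ext (KRR.vbP X)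
    (f := h.comp ((AddMonoidHom.mulRight (g (φY y))).comp φX))
    (g := (AddMonoidHom.mulRight (φY y)).comp (h.comp φX)) fun F hF => ?_) x
  exact DFunLike.congr_fun (KZ.K0sub_hom_ext (KRR.vbP Y)
    (f := h.comp ((AddMonoidHom.mulLeft (φX (KRR.cl X F))).comp (g.comp φY)))
    (g := (AddMonoidHom.mulLeft (h (φX (KRR.cl X F)))).comp φY) fun E hE => key F hF E hE) y

end Groth.Agent.KRRReg
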