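import Groth.Agent.Synt29.ConormalStalk
import Groth.Agent.Lib.CurveTensor
import Groth.Agent.KRegLib.Closed
import Groth.Agent.KRegLib.Elem
import Groth.Agent.KRegLib.WeakReg
import Mathlib.RingTheory.Ideal.KrullsHeightTheorem
import Mathlib.RingTheory.KrullDimension.Regular

/-!
# The rank of the conormal sheaf and minimal generators of the ideal in the local ring
-/

set_option autoImplicit false
set_option linter.style.haveILetI false
set_option linter.unusedSectionVars false
set_option backward.isDefEq.respectTransparency false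
set_option backward.isDefEq.respectTransparency.types false
set_option maxHeartbeats 1000000

universe u

open CategoryTheory CategoryTheory.Limits AlgebraicGeometry TopologicalSpace Opposite IsLocalRing
open scoped TensorProduct
open RingTheory.Sequence

namespace Groth.Agent.KRRReg

open Groth.Agent Synt29.ConormalStalk Synt29.OmegaStalk

/-- The kernel of `1 ⊗ -` along a surjection. -/
theorem mem_smul_top_of_one_tmul_eq_zero {R S : Type u} [CommRing R] [CommRing S] [Algebra R S]
    (hs : Function.Surjective (algebraMap R S)) {M : Type u} [AddCommGroup M] [Module R M] (m : M)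
    (h : (1 : S) ⊗ₜ[R] m = 0) : m ∈ (RingHom.ker (algebraMap R S) • ⊤ : Submodule R M) := by
  let K := RingHom.ker (algebraMap R S)
  let e : (R ⧸ K) ≃ₐ[R] S := Ideal.quotientKerAlgEquivOfSurjective (f := Algebra.ofId R S) hs
  have h1 : (1 : R ⧸ K) ⊗ₜ[R] m = 0 := by
    refine (LinearEquiv.rTensor M e.toLinearEquiv).injective ?_
    rw [map_zero, LinearEquiv.rTensor_tmul]
    show e 1 ⊗ₜ[R] m = 0
    rw [map_one, h]
  have h2 := congrArg (TensorProduct.quotTensorEquivQuotSMul M K) h1
  rw [map_zero] at h2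
  have h3 : TensorProduct.quotTensorEquivQuotSMul M K ((Ideal.Quotient.mk K (1 : R)) ⊗ₜ[R] m) =
      Submodule.Quotient.mk ((1 : R) • m) := TensorProduct.quotTensorEquivQuotSMul_mk_tmul ..
  rw [one_smul, map_one] at h3
  exact (Submodule.Quotient.mk_eq_zero _).1 (h3.symm.trans h2)

variable {Z X : Scheme.{u}} (i : Z ⟶ X) [IsClosedImmersion i]

theorem exists_basis_conormal [IsLocallyNoetherian Z] {d : ℕ}
    (hC : FlatMod.IsFinLocFreeOfRank d (Omega.conormal i)) (x : Z) :
    ∃ b : Fin d → St (I i) (i x), (∀ t, ∃ c : Fin d → Z.presheaf.stalk x, ∑ k, c k • unit1 i x (b k) = t) ∧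
      (∀ n (v : Fin n → St (I i) (i x)), (Submodule.span (X.presheaf.stalk (i x)) (Set.range v) = ⊤) → d ≤ n) := by
  obtain ⟨bC⟩ := CurveTensor.exists_basis_stalk hC x
  let bC' : Module.Basis (Fin d) (Z.presheaf.stalk x) (St (Omega.conormal i) x) := bC
  let P := ((KFlatLib.stalkPullbackIso i x).app (I i)).toLinearEquiv
  let bT : Module.Basis (Fin d) (Z.presheaf.stalk x)
      ((ModuleCat.extendScalars (i.stalkMap x).hom).obj (St (I i) (i x))) := bC'.map P
  choose b hb using fun k => unit1_surjective i x (bT k)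
  refine ⟨b, fun t => ⟨fun k => bT.repr t k, ?_⟩, fun n v hv => ?_⟩
  · simp only [hb]
    exact bT.sum_repr t
  · have hspan : Submodule.span (Z.presheaf.stalk x) (Set.range fun k => unit1 i x (v k)) = ⊤ := by
      refine top_le_iff.1 fun t ht => ?_
      clear ht
      obtain ⟨m, rfl⟩ := unit1_surjective i x t
      have hm : m ∈ Submodule.span (X.presheaf.stalk (i x)) (Set.range v) := hv ▸ trivial
      induction hm using Submodule.span_induction with
      | mem m hm => obtain ⟨k, rfl⟩ := hm; exact Submodule.subset_span ⟨k, rfl⟩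
      | zero => rw [show unit1 i x 0 = 0 from map_zero _]; exact zero_mem _
      | add a b _ _ ha hb => rw [show unit1 i x (a + b) = unit1 i x a + unit1 i x b from map_add _ a b]
                             exact add_mem ha hb
      | smul a m _ hm => rw [unit1_smul]; exact Submodule.smul_mem _ _ hm
    have h := finrank_range_le_card (R := Z.presheaf.stalk x) fun k => unit1 i x (v k)
    rw [Set.finrank, hspan, finrank_top, Module.finrank_eq_card_basis bT] at h
    simpa using h

variable [IsLocallyNoetherian X] [IsLocallyNoetherian Z]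

/-- Any generating family of the ideal in the local ring has at least the rank many elements. -/
theorem rank_le_card_gens {d : ℕ} (hC : FlatMod.IsFinLocFreeOfRank d (Omega.conormal i)) (x : Z) {n : ℕ}
    (a : Fin n → X.presheaf.stalk (i x)) (ha : Ideal.span (Set.range a) = RingHom.ker (i.stalkMap x).hom) :
    d ≤ n := by
  obtain ⟨-, -, hlow⟩ := exists_basis_conormal i hC x
  choose v hv using fun k => exists_rep i (a := a k) (RingHom.mem_ker.1 (ha ▸ Ideal.subset_span ⟨k, rfl⟩))
  refine hlow n v (top_le_iff.1 fun m _ => ?_)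
  obtain ⟨r, hr⟩ := rep_exists i (i x) m
  obtain ⟨c, rfl⟩ := Ideal.mem_span_range_iff_exists_fun.1 (ha.symm ▸ RingHom.mem_ker.2 (rep_mem i hr) :
    r ∈ Ideal.span (Set.range a))
  have key : ∀ s : Finset (Fin n), Rep i (i x) (∑ k ∈ s, c k • v k) (∑ k ∈ s, c k * a k) := by
    classical
    intro s
    induction s using Finset.induction_on with
    | empty => simpa using rep_zero i (i x)
    | insert k s hk ih =>
      rw [Finset.sum_insert hk, Finset.sum_insert hk]
      exact rep_add i (rep_smul i (hv k) (c k)) ih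
  rw [rep_inj i hr (key Finset.univ)]
  exact Submodule.sum_mem _ fun k _ => Submodule.smul_mem _ _ (Submodule.subset_span ⟨k, rfl⟩)

/-- The ideal in the local ring is generated by rank many elements. -/
theorem exists_gens_card_rank {d : ℕ} (hC : FlatMod.IsFinLocFreeOfRank d (Omega.conormal i)) (x : Z) :
    ∃ a : Fin d → X.presheaf.stalk (i x), Ideal.span (Set.range a) = RingHom.ker (i.stalkMap x).hom := by
  obtain ⟨b, hgen, -⟩ := exists_basis_conormal i hC x
  choose a ha using fun k => rep_exists i (i x) (b k)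
  let J := RingHom.ker (i.stalkMap x).hom
  refine ⟨a, le_antisymm (Ideal.span_le.2 (Set.range_subset_iff.2 fun k => rep_mem i (ha k))) ?_⟩
  haveI : IsNoetherianRing (X.presheaf.stalk (i x)) := inferInstance
  have hJm : J ≤ maximalIdeal (X.presheaf.stalk (i x)) := le_maximalIdeal (RingHom.ker_ne_top _)
  refine Submodule.le_of_le_smul_of_le_jacobson_bot (I := J) (IsNoetherian.noetherian J)
    (hJm.trans (IsLocalRing.jacobson_eq_maximalIdeal ⊥ bot_ne_top).ge) (fun r hr => ?_)
  obtain ⟨m, hm⟩ := exists_rep i (a := r) (RingHom.mem_ker.1 hr)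
  obtain ⟨c, hc⟩ := hgen (unit1 i x m)
  choose c' hc' using fun k => i.stalkMap_surjective x (c k)
  let u₁ := ((ModuleCat.extendRestrictScalarsAdj (i.stalkMap x).hom).unit.app (St (I i) (i x))).hom
  have h0 : unit1 i x (m - ∑ k, c' k • b k) = 0 := by
    show u₁ (m - ∑ k, c' k • b k) = 0
    rw [map_sub, map_sum, sub_eq_zero]
    refine hc.symm.trans (Finset.sum_congr rfl fun k _ => ?_)
    refine Eq.trans ?_ (unit1_smul i x (c' k) (b k)).symm
    rw [hc']
  have h1 : m - ∑ k, c' k • b k ∈ (J • ⊤ : Submodule (X.presheaf.stalk (i x)) (St (I i) (i x))) := by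
    letI := (i.stalkMap x).hom.toAlgebra
    exact mem_smul_top_of_one_tmul_eq_zero (S := Z.presheaf.stalk x) (i.stalkMap_surjective x) _ h0
  have hsum : ∀ s : Finset (Fin d), Rep i (i x) (∑ k ∈ s, c' k • b k) (∑ k ∈ s, c' k * a k) := by
    classical
    intro s
    induction s using Finset.induction_on with
    | empty => simpa using rep_zero i (i x)
    | insert k s hk ih =>
      rw [Finset.sum_insert hk, Finset.sum_insert hk]
      exact rep_add i (rep_smul i (ha k) (c' k)) ih
  have h2 : ∀ t ∈ (J • ⊤ : Submodule (X.presheaf.stalk (i x)) (St (I i) (i x))),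
      ∃ q ∈ J • J, Rep i (i x) t q := by
    intro t ht
    refine Submodule.smul_induction_on ht (fun q hq z _ => ?_) fun z w ⟨q, hq, hz⟩ ⟨q', hq', hw⟩ =>
      ⟨q + q', add_mem hq hq', rep_add i hz hw⟩
    obtain ⟨p, hp⟩ := rep_exists i (i x) z
    exact ⟨q * p, Submodule.smul_mem_smul hq (rep_mem i hp), rep_smul i hp q⟩
  obtain ⟨q, hq, hrep⟩ := h2 _ h1
  obtain ⟨U, hy, k', hk', hr'⟩ := rep_add i hrep (hsum Finset.univ)
  have hinj : r = q + ∑ k, c' k * a k := by
    obtain ⟨U₁, hy₁, k₁, hk₁, rfl⟩ := hm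
    rw [sub_add_cancel] at hk'
    rw [← hr']
    obtain ⟨W, hW, j, j', e⟩ := (I i).presheaf.germ_eq (i x) hy hy₁ k' k₁ (hk'.trans hk₁.symm)
    refine (X.presheaf.germ_res_apply j' (i x) hW _).symm.trans
      (Eq.trans ?_ (X.presheaf.germ_res_apply j (i x) hW _))
    erw [← OmegaLib.idealSect_map, ← OmegaLib.idealSect_map]
    exact congrArg _ (congrArg _ e.symm)
  rw [hinj, add_comm]
  exact Submodule.add_mem_sup (Ideal.mem_span_range_iff_exists_fun.2 ⟨c', rfl⟩) hq

/-- Regular generators of the ideal in the local ring number the rank. -/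
theorem length_eq_rank {d : ℕ} (hC : FlatMod.IsFinLocFreeOfRank d (Omega.conormal i)) (x : Z)
    {rs : List (X.presheaf.stalk (i x))} (hrs : IsRegular (X.presheaf.stalk (i x)) rs)
    (hI : RingHom.ker (i.stalkMap x).hom = Ideal.ofList rs) : rs.length = d := by
  refine le_antisymm ?_ (rank_le_card_gens i hC x rs.get (by
    rw [hI, Ideal.ofList]
    refine congrArg Ideal.span (Set.ext fun r => ?_)
    exact List.mem_iff_get.symm))
  obtain ⟨a, ha⟩ := exists_gens_card_rank i hC x
  let R := X.presheaf.stalk (i x)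
  have h1 := ringKrullDim_add_length_eq_ringKrullDim_of_isRegular rs hrs
  have h2 := ringKrullDim_le_ringKrullDim_quotient_add_spanFinrank (R := R) (Ideal.ofList rs)
    (hI ▸ (IsLocalRing.ringJacobson_eq_maximalIdeal (R := R)).symm ▸ le_maximalIdeal (RingHom.ker_ne_top _))
  have h3 : (Ideal.ofList rs).spanFinrank ≤ d := by
    rw [← hI, ← ha]
    refine (Submodule.spanFinrank_span_le_ncard_of_finite (Set.finite_range a)).trans ?_
    rw [← Set.image_univ]
    exact (Set.ncard_image_le (Set.toFinite _)).trans (by simp)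
  have hne : Ideal.ofList rs ≠ ⊤ := hI ▸ RingHom.ker_ne_top _
  haveI : Nontrivial (R ⧸ Ideal.ofList rs) := Ideal.Quotient.nontrivial_iff.2 hne
  haveI : IsLocalRing (R ⧸ Ideal.ofList rs) :=
    IsLocalRing.of_surjective' _ (Ideal.Quotient.mk_surjective (I := Ideal.ofList rs))
  obtain ⟨q, hq⟩ : ∃ q : ℕ, ringKrullDim (R ⧸ Ideal.ofList rs) = q := by
    obtain ⟨hb, ht⟩ := finiteRingKrullDim_iff_ne_bot_and_top.1
      (inferInstance : FiniteRingKrullDim (R ⧸ Ideal.ofList rs))
    obtain ⟨e, he⟩ := WithBot.ne_bot_iff_exists.1 hb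
    obtain ⟨q, rfl⟩ := ENat.ne_top_iff_exists.1 (show e ≠ ⊤ from fun h => ht (by rw [← he, h]; rfl))
    exact ⟨q, he.symm⟩
  rw [← h1, hq] at h2
  have h4 : ((q + rs.length : ℕ) : WithBot ℕ∞) ≤ ((q + (Ideal.ofList rs).spanFinrank : ℕ) : WithBot ℕ∞) := by
    push_cast
    exact h2
  have h5 := Nat.cast_le.1 h4
  omega

/-- A minimal generating family of an ideal generated by a regular sequence of the same length is weakly regular. -/
theorem isWeaklyRegular_of_span_eq {B : Type u} [CommRing B] [IsLocalRing B] [IsNoetherianRing B] {d : ℕ}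
    (f g : Fin d → B) (hf : IsWeaklyRegular B (List.ofFn f)) (hm : Ideal.span (Set.range f) ≤ maximalIdeal B)
    (hspan : Ideal.span (Set.range g) = Ideal.span (Set.range f))
    (hmin : ∀ (n : ℕ) (a : Fin n → B), Ideal.span (Set.range a) = Ideal.span (Set.range f) → d ≤ n) :
    IsWeaklyRegular B (List.ofFn g) := by
  have hrel : ∀ a : Fin d → B, ∑ j, a j * f j = 0 → ∀ j, a j ∈ maximalIdeal B := by
    intro a ha j
    by_contra hj
    obtain ⟨u, hu⟩ : IsUnit (a j) := not_not.1 hj
    obtain ⟨d', rfl⟩ : ∃ d', d = d' + 1 := ⟨d - 1, by have := j.2; omega⟩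
    have : d' + 1 ≤ d' := by
      refine hmin d' (fun k => f (j.succAbove k)) (le_antisymm (Ideal.span_mono fun r ⟨k, hk⟩ => ⟨_, hk⟩) ?_)
      rw [Ideal.span_le, Set.range_subset_iff]
      intro k
      obtain rfl | ⟨k, rfl⟩ := j.eq_self_or_eq_succAbove k
      · rw [Fin.sum_univ_succAbove _ k, ← hu] at ha
        have h : f k = ∑ l, (-(↑u⁻¹ * a (k.succAbove l))) * f (k.succAbove l) := by
          simp only [neg_mul, Finset.sum_neg_distrib, mul_assoc, ← Finset.mul_sum]
          rw [eq_neg_of_add_eq_zero_right ha, mul_neg, neg_neg, Units.inv_mul_cancel_left]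
        rw [h]
        exact Ideal.mem_span_range_iff_exists_fun.2 ⟨_, rfl⟩
      · exact Ideal.subset_span ⟨k, rfl⟩
    omega
  choose C hC using fun j => Ideal.mem_span_range_iff_exists_fun.1 (hspan.symm ▸ Ideal.subset_span ⟨j, rfl⟩ :
    f j ∈ Ideal.span (Set.range g))
  choose D hD using fun j => Ideal.mem_span_range_iff_exists_fun.1 (hspan ▸ Ideal.subset_span ⟨j, rfl⟩ :
    g j ∈ Ideal.span (Set.range f))
  let C' : Matrix (Fin d) (Fin d) B := Matrix.of C
  let D' : Matrix (Fin d) (Fin d) B := Matrix.of D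
  have hprod : ∀ i j, residue B ((C' * D' - 1) i j) = 0 := fun i j => by
    rw [residue_eq_zero_iff]
    refine hrel (fun l => (C' * D' - 1) i l) ?_ j
    simp only [Matrix.sub_apply, sub_mul, Finset.sum_sub_distrib, Matrix.mul_apply, Finset.sum_mul,
      Matrix.one_apply, ite_mul, one_mul, zero_mul, Finset.sum_ite_eq, Finset.mem_univ, if_true]
    rw [Finset.sum_comm, sub_eq_zero]
    refine Eq.trans ?_ (hC i)
    refine Finset.sum_congr rfl fun k _ => ?_
    rw [← hD k, Finset.mul_sum]
    exact Finset.sum_congr rfl fun l _ => mul_assoc _ _ _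
  have hdet : IsUnit C'.det := by
    refine not_not.1 fun hu => one_ne_zero (α := ResidueField B) ?_
    have h : (C' * D').map (residue B) = 1 := by
      ext i j
      have := hprod i j
      rw [Matrix.sub_apply, map_sub, sub_eq_zero] at this
      rw [Matrix.map_apply, this, Matrix.one_apply, Matrix.one_apply]
      split_ifs <;> simp
    have h' := congrArg Matrix.det h
    rw [Matrix.det_one, ← RingHom.mapMatrix_apply, ← RingHom.map_det, Matrix.det_mul, map_mul,
      (residue_eq_zero_iff _).2 hu, zero_mul] at h'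
    exact h'.symm
  exact KRegLib.isWeaklyRegular_of_isExact_local g (fun k => hm (hspan ▸ Ideal.subset_span ⟨k, rfl⟩))
    (KRegLib.isExact_of_isUnit_det (KRegLib.isExact_of_isWeaklyRegular f hf) C' hdet fun j => (hC j).symm)

end Groth.Agent.KRRReg
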