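import Groth.Agent.KRRReg.KZero
import Groth.Agent.Lib.CurveTensor

/-!
# Ring models of `K(X)`

A model of the ring `K(X)` of bundles, without λ-operations; every scheme has one.
-/

set_option linter.style.haveILetI false
set_option linter.unusedSectionVars false
set_option backward.isDefEq.respectTransparency false
set_option backward.isDefEq.respectTransparency.types false
set_option maxHeartbeats 1000000
set_option autoImplicit false

universe u v

open CategoryTheory CategoryTheory.Limits AlgebraicGeometry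
open Groth.Agent.H23.PicMul

noncomputable section

namespace Groth.Agent.KRRReg

open Groth.Agent

variable {X : Scheme.{u}}

/-- `φ : Kvb X → K` is an additive bijection carrying `[O]` to `1` and `⊗` to multiplication. -/
structure IsRingModel (X : Scheme.{u}) (K : Type v) [CommRing K] (φ : SGA6.Kvb X →+ K) : Prop where
  bijective : Function.Bijective φ
  map_one : φ (KRR.cl X (Coh.structureModule X)) = 1
  map_mul : ∀ E F : X.Modules, FlatMod.IsFinLocFree E → FlatMod.IsFinLocFree F →
    φ (KRR.cl X E) * φ (KRR.cl X F) = φ (KRR.cl X (((DCoh.tensorBi (X := X)).obj E).obj F))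

theorem toRingModel {K : Type v} [CommRing K] [LambdaRing.LambdaOps K] {P : LambdaRing.PosStructure K}
    {φ : SGA6.Kvb X →+ K} (h : KRR.IsModel X K P φ) : IsRingModel X K φ :=
  ⟨h.bijective, h.map_one, h.map_mul⟩

theorem cl_of_picCl {A B : X.Modules} (h : PicF.cl A = PicF.cl B) (hA : FlatMod.IsFinLocFree A) :
    KRR.cl X A = KRR.cl X B :=
  cl_iso (cl_eq_iff.1 h).some hA

theorem exists_mulHom (X : Scheme.{u}) : ∃ m : SGA6.Kvb X →+ SGA6.Kvb X →+ SGA6.Kvb X,
    ∀ E F : X.Modules, FlatMod.IsFinLocFree E → FlatMod.IsFinLocFree F →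
      m (KRR.cl X E) (KRR.cl X F) = KRR.cl X ((DCoh.tensorBi.obj E).obj F) := by
  have hE : ∀ E : {E : X.Modules // FlatMod.IsFinLocFree E}, ∃ t : SGA6.Kvb X →+ SGA6.Kvb X,
      ∀ F, FlatMod.IsFinLocFree F → t (KRR.cl X F) = KRR.cl X ((DCoh.tensorBi.obj E.1).obj F) := fun E =>
    KZ.exists_liftSub (KRR.vbP X) (fun F => KRR.cl X ((DCoh.tensorBi.obj E.1).obj F)) fun S hS h₁ h₂ h₃ =>
      KZ.clSub_ses (KRR.vbP X) (CurveTensor.shortExact_tensor E.2 S.f S.g S.zero hS)
        (KFlatLib.isFinLocFree_tensor E.2 h₁) (KFlatLib.isFinLocFree_tensor E.2 h₂)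
        (KFlatLib.isFinLocFree_tensor E.2 h₃)
  choose t ht using hE
  classical
  let T : X.Modules → (SGA6.Kvb X →+ SGA6.Kvb X) := fun E => if h : FlatMod.IsFinLocFree E then t ⟨E, h⟩ else 0
  have hT : ∀ E F, FlatMod.IsFinLocFree E → FlatMod.IsFinLocFree F →
      T E (KRR.cl X F) = KRR.cl X ((DCoh.tensorBi.obj E).obj F) := fun E F hE hF => by
    simp only [T, dif_pos hE]
    exact ht ⟨E, hE⟩ F hF
  have hc : ∀ E F, FlatMod.IsFinLocFree E → FlatMod.IsFinLocFree F →
      KRR.cl X ((DCoh.tensorBi.obj E).obj F) = KRR.cl X ((DCoh.tensorBi.obj F).obj E) := fun E F hE hF =>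
    cl_iso (CurveTensor.commIso E F) (KFlatLib.isFinLocFree_tensor hE hF)
  obtain ⟨m, hm⟩ := KZ.exists_liftSub (KRR.vbP X) T fun S hS h₁ h₂ h₃ =>
    KZ.K0sub_hom_ext (KRR.vbP X) fun F hF => by
      show T S.X₂ (KRR.cl X F) = T S.X₁ (KRR.cl X F) + T S.X₃ (KRR.cl X F)
      rw [hT _ _ h₁ hF, hT _ _ h₂ hF, hT _ _ h₃ hF, hc _ _ h₁ hF, hc _ _ h₂ hF, hc _ _ h₃ hF]
      exact KZ.clSub_ses (KRR.vbP X) (CurveTensor.shortExact_tensor hF S.f S.g S.zero hS)
        (KFlatLib.isFinLocFree_tensor hF h₁) (KFlatLib.isFinLocFree_tensor hF h₂)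
        (KFlatLib.isFinLocFree_tensor hF h₃)
  exact ⟨m, fun E F hE hF => by rw [hm E hE]; exact hT E F hE hF⟩

/-- Every scheme has a ring model of `K(X)`. -/
theorem exists_ringModel (X : Scheme.{u}) :
    ∃ (K : Type (u + 1)) (_ : CommRing K) (φ : SGA6.Kvb X →+ K), IsRingModel X K φ := by
  obtain ⟨m, hm⟩ := exists_mulHom X
  let o := KRR.cl X (Coh.structureModule X)
  have hcomm : ∀ a b, m a b = m b a := fun a b => by
    refine DFunLike.congr_fun (DFunLike.congr_fun (show m = m.flip from ?_) a) b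
    refine KZ.K0sub_hom_ext (KRR.vbP X) fun E hE => KZ.K0sub_hom_ext (KRR.vbP X) fun F hF => ?_
    show m (KRR.cl X E) (KRR.cl X F) = m (KRR.cl X F) (KRR.cl X E)
    rw [hm E F hE hF, hm F E hF hE]
    exact cl_iso (CurveTensor.commIso E F) (KFlatLib.isFinLocFree_tensor hE hF)
  have hassoc : ∀ a b c, m (m a b) c = m a (m b c) := fun a b c => by
    refine DFunLike.congr_fun (KZ.K0sub_hom_ext (KRR.vbP X) (f := (m.flip c).comp (m.flip b))
      (g := m.flip (m b c)) fun E hE => ?_) a
    refine DFunLike.congr_fun (KZ.K0sub_hom_ext (KRR.vbP X) (f := (m.flip c).comp (m (KRR.cl X E)))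
      (g := (m (KRR.cl X E)).comp (m.flip c)) fun F hF => ?_) b
    refine DFunLike.congr_fun (KZ.K0sub_hom_ext (KRR.vbP X) (f := m (m (KRR.cl X E) (KRR.cl X F)))
      (g := (m (KRR.cl X E)).comp (m (KRR.cl X F))) fun G hG => ?_) c
    show m (m (KRR.cl X E) (KRR.cl X F)) (KRR.cl X G) = m (KRR.cl X E) (m (KRR.cl X F) (KRR.cl X G))
    rw [hm E F hE hF, hm F G hF hG, hm _ G (KFlatLib.isFinLocFree_tensor hE hF) hG,
      hm E _ hE (KFlatLib.isFinLocFree_tensor hF hG)]
    exact cl_of_picCl (mul_assoc (PicF.cl E) (PicF.cl F) (PicF.cl G))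
      (KFlatLib.isFinLocFree_tensor (KFlatLib.isFinLocFree_tensor hE hF) hG)
  have hone : ∀ a, m o a = a := fun a => by
    refine DFunLike.congr_fun (KZ.K0sub_hom_ext (KRR.vbP X) (f := m o) (g := AddMonoidHom.id _) fun F hF => ?_) a
    show m o (KRR.cl X F) = KRR.cl X F
    rw [hm _ F (isFinLocFree_structure X) hF]
    exact cl_iso (CurveTensor.structureTensorIso F) (KFlatLib.isFinLocFree_tensor (isFinLocFree_structure X) hF)
  letI inst : CommRing (SGA6.Kvb X) :=
    { (inferInstance : AddCommGroup (SGA6.Kvb X)) with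
      mul := fun a b => m a b
      one := o
      mul_assoc := hassoc
      mul_comm := hcomm
      one_mul := hone
      mul_one := fun a => (hcomm a o).trans (hone a)
      left_distrib := fun a b c => (m a).map_add b c
      right_distrib := fun a b c => DFunLike.congr_fun (m.map_add a b) c
      zero_mul := fun a => DFunLike.congr_fun m.map_zero a
      mul_zero := fun a => (m a).map_zero }
  exact ⟨SGA6.Kvb X, inst, AddMonoidHom.id _, Function.bijective_id, rfl, fun E F hE hF => hm E F hE hF⟩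

end Groth.Agent.KRRReg
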