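import Groth.Agent.KRRReg.KZero
import Groth.Agent.KRRReg.RingModel
import Groth.Agent.KFlatLib.Scheme.ProjLocFree
import Groth.Agent.KFlatLib.Perfect.LocFree

/-!
# Pull-back and push-forward on `K`
-/

set_option linter.style.haveILetI false
set_option linter.unusedSectionVars false
set_option backward.isDefEq.respectTransparency false
set_option backward.isDefEq.respectTransparency.types false
set_option maxHeartbeats 1000000
set_option autoImplicit false

universe u v

open CategoryTheory CategoryTheory.Limits AlgebraicGeometry TopologicalSpace Opposite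
open Groth.Agent.H23.PicMul

noncomputable section

namespace Groth.Agent.KRRReg

open Groth.Agent

theorem mono_of_stalks {X : Scheme.{u}} {M N : X.Modules} (f : M ⟶ N)
    (h : ∀ x, Mono ((DerSch.stalkFunctor X x).map f)) : Mono f := by
  refine Preadditive.mono_of_cancel_zero _ fun {W} z hz => ?_
  refine Scheme.Modules.hom_ext _ _ fun U => ?_
  ext s
  refine TopCat.Presheaf.section_ext ⟨M.presheaf, M.isSheaf⟩ _ _ _ fun x hx => ?_
  haveI := h x
  haveI : (DerSch.stalkFunctor X x).Additive := Functor.additive_of_preserves_binary_products _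
  have h0 : (DerSch.stalkFunctor X x).map z = 0 := by
    rw [← cancel_mono ((DerSch.stalkFunctor X x).map f), ← CategoryTheory.Functor.map_comp, hz, Functor.map_zero,
      zero_comp]
  refine ((DerSch.stalkFunctor_map_germ x z U hx s).symm.trans ?_).trans (map_zero (M.presheaf.germ U x hx).hom).symm
  rw [h0]
  rfl

/-- Pull-back is exact on short exact sequences with locally free quotient. -/
theorem shortExact_pullback_vb {X Y : Scheme.{u}} (f : X ⟶ Y) {S : ShortComplex Y.Modules} (hS : S.ShortExact)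
    (h₃ : FlatMod.IsFinLocFree S.X₃) : (S.map (Scheme.Modules.pullback f)).ShortExact := by
  have hr := ((Functor.preservesFiniteColimits_tfae (Scheme.Modules.pullback f)).out 3 0 rfl rfl).1
    (inferInstance : PreservesFiniteColimits (Scheme.Modules.pullback f)) S hS
  haveI : Mono ((Scheme.Modules.pullback f).map S.f) := by
    refine mono_of_stalks _ fun x => ?_
    haveI : (DerSch.stalkFunctor Y (f.base x)).Additive := Functor.additive_of_preserves_binary_products _
    have hx := hS.map_of_exact (DerSch.stalkFunctor Y (f.base x))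
    haveI : Projective (S.map (DerSch.stalkFunctor Y (f.base x))).X₃ := by
      haveI : Module.Free (Y.presheaf.stalk (f.base x)) ((DerSch.stalkFunctor Y (f.base x)).obj S.X₃) :=
        QCoh.free_stalk_of_isFinLocFree h₃ (f.base x)
      haveI : Module.Projective (Y.presheaf.stalk (f.base x)) ((DerSch.stalkFunctor Y (f.base x)).obj S.X₃) :=
        Module.Projective.of_free
      exact (IsProjective.iff_projective (R := Y.presheaf.stalk (f.base x)) _).1 this
    let σ := hx.splittingOfProjective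
    haveI : IsSplitMono ((DerSch.stalkFunctor Y (f.base x)).map S.f) := ⟨⟨⟨σ.r, σ.f_r⟩⟩⟩
    haveI : IsSplitMono ((DerSch.stalkFunctor Y (f.base x) ⋙ ModuleCat.extendScalars (f.stalkMap x).hom).map S.f) :=
      inferInstanceAs (IsSplitMono ((ModuleCat.extendScalars (f.stalkMap x).hom).map
        ((DerSch.stalkFunctor Y (f.base x)).map S.f)))
    let ω := KFlatLib.stalkPullbackIso f x
    show Mono ((Scheme.Modules.pullback f ⋙ DerSch.stalkFunctor X x).map S.f)
    have hm : Mono ((DerSch.stalkFunctor Y (f.base x) ⋙ ModuleCat.extendScalars (f.stalkMap x).hom).map S.f) :=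
      IsSplitMono.mono _
    rw [← NatIso.naturality_2 ω S.f]
    exact @mono_comp _ _ _ _ _ _ (IsIso.mono_of_iso _) _ (@mono_comp _ _ _ _ _ _ hm _ (IsIso.mono_of_iso _))
  exact ShortComplex.ShortExact.mk' hr.1 ‹_› hr.2

variable {n : ℕ} {Y : Scheme.{u}} [IsNoetherian Y]

theorem shortExact_push_rb {S : ShortComplex (KRR.PY n Y).Modules} (hS : S.ShortExact) (h₁ : RB n Y S.X₁)
    (h₂ : RB n Y S.X₂) (h₃ : RB n Y S.X₃) :
    (S.map (Scheme.Modules.pushforward (KRR.pr n Y))).ShortExact := by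
  haveI := isProper_pr (n := n) (T := Y)
  haveI := hS.mono_f
  haveI : Mono ((Scheme.Modules.pushforward (KRR.pr n Y)).map S.f) := inferInstance
  have hsurj : ∀ V : Y.affineOpens, Function.Surjective (S.g.app (UV n V.1)) := fun V => by
    have hz := (isZero_RpushAb_iff S.X₁ (isQCoh_vb h₁.1) 0).1 (isZero_RpushAb_of_reg (isQCoh_vb h₁.1) h₁.2 1 le_rfl) V
    have h := QCoh.app_top_surjective_of_HH_one (shortExact_UV hS V.1) hz
    have hW : (UV n V.1).ι ''ᵁ (⊤ : (UV n V.1).toScheme.Opens) = UV n V.1 := by simp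
    have h' : Function.Surjective (S.g.app ((UV n V.1).ι ''ᵁ ⊤)) := h
    rwa [hW] at h'
  haveI : Epi ((Scheme.Modules.pushforward (KRR.pr n Y)).map S.g) := by
    refine Preadditive.epi_of_cancel_zero _ fun {W} z hz => ?_
    refine Scheme.Modules.hom_ext _ _ fun U => ?_
    ext s
    refine TopCat.Presheaf.section_ext ⟨W.presheaf, W.isSheaf⟩ _ _ _ fun y hy => ?_
    obtain ⟨_, ⟨V, hV, rfl⟩, hyV, hVU⟩ :=
      Y.isBasis_affineOpens.exists_subset_of_mem_open hy U.isOpen
    have hres : ∀ t, z.app V t = 0 := fun t => by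
      obtain ⟨r, hr⟩ := hsurj ⟨V, hV⟩ t
      rw [← hr]
      exact congr(($hz).app V r)
    let i : V ⟶ U := homOfLE hVU
    refine Eq.trans (W.presheaf.germ_res_apply i y hyV (z.app U s)).symm ?_
    refine Eq.trans ?_ (map_zero (W.presheaf.germ U y hy).hom).symm
    refine (congrArg (W.presheaf.germ V y hyV) ?_).trans (map_zero (W.presheaf.germ V y hyV).hom)
    exact (QCoh.map_app_comm z i s).symm.trans (hres _)
  haveI : PreservesFiniteLimits (Scheme.Modules.pushforward (KRR.pr n Y)) := QCoh.preservesFiniteLimits_push _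
  exact ShortComplex.ShortExact.mk' (hS.exact.map_of_mono_of_preservesKernel _ inferInstance inferInstance) ‹_› ‹_›

/-- Push-forward on regular bundles. -/
theorem exists_pushHom :
    ∃ χ : KZero.K0sub (RB n Y) →+ SGA6.Kvb Y, ∀ F, RB n Y F →
      χ (KZero.clSub (RB n Y) F) = KRR.cl Y ((Scheme.Modules.pushforward (KRR.pr n Y)).obj F) := by
  have hlf : ∀ F, RB n Y F → FlatMod.IsFinLocFree ((Scheme.Modules.pushforward (KRR.pr n Y)).obj F) := fun F hF =>
    isFinLocFree_push (isCoh_of_finLocFree hF.1) (isFlatOver_finLocFree hF.1) hF.2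
  exact KZ.exists_liftSub (RB n Y) _ fun S hS h₁ h₂ h₃ =>
    KZ.clSub_ses (KRR.vbP Y) (shortExact_push_rb hS h₁ h₂ h₃) (hlf _ h₁) (hlf _ h₂) (hlf _ h₃)

theorem vbHom_ext {G : Type*} [AddCommGroup G] {f g : SGA6.Kvb (KRR.PY n Y) →+ G}
    (h : ∀ F, RB n Y F → f (KRR.cl _ F) = g (KRR.cl _ F)) : f = g := by
  have hb := bijective_mapSub (n := n) (Y := Y) fun M hM => hM.1
  have key : f.comp (SGA6.mapSub (𝟭 (KRR.PY n Y).Modules) (RB n Y) (KRR.vbP (KRR.PY n Y)) fun M hM => hM.1) =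
      g.comp (SGA6.mapSub (𝟭 (KRR.PY n Y).Modules) (RB n Y) (KRR.vbP (KRR.PY n Y)) fun M hM => hM.1) :=
    KZ.K0sub_hom_ext (RB n Y) fun M hM => by
      simp only [AddMonoidHom.comp_apply, mapSub_clSub _ hM]
      exact h M hM
  refine AddMonoidHom.ext fun x => ?_
  obtain ⟨y, rfl⟩ := hb.2 x
  exact DFunLike.congr_fun key y

theorem existsUnique_isPushPr {KP : Type*} {KY : Type*} [CommRing KP] [CommRing KY]
    {φP : SGA6.Kvb (KRR.PY n Y) →+ KP} (hφ : Function.Bijective φP) (φY : SGA6.Kvb Y →+ KY) :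
    ∃! g : KP →+ KY, KRR.IsPushPr n Y φP φY g := by
  obtain ⟨χ, hχ⟩ := exists_pushHom (n := n) (Y := Y)
  let e := AddEquiv.ofBijective (SGA6.mapSub (𝟭 (KRR.PY n Y).Modules) (RB n Y) (KRR.vbP (KRR.PY n Y)) fun M hM => hM.1)
    (bijective_mapSub fun M hM => hM.1)
  let eP := AddEquiv.ofBijective φP hφ
  refine ⟨φY.comp (χ.comp (e.symm.toAddMonoidHom.comp eP.symm.toAddMonoidHom)), fun F hF hreg => ?_, fun g hg => ?_⟩
  · show φY (χ (e.symm (eP.symm (eP (KRR.cl _ F))))) = _
    rw [eP.symm_apply_apply, ← mapSub_clSub (fun M hM => hM.1) (⟨hF, hreg⟩ : RB n Y F)]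
    show φY (χ (e.symm (e (KZero.clSub (RB n Y) F)))) = _
    rw [e.symm_apply_apply, hχ F ⟨hF, hreg⟩]
  · refine AddMonoidHom.ext fun z => ?_
    obtain ⟨x, rfl⟩ := hφ.2 z
    refine DFunLike.congr_fun (vbHom_ext (f := g.comp φP) (g := (φY.comp (χ.comp
      (e.symm.toAddMonoidHom.comp eP.symm.toAddMonoidHom))).comp φP) fun F hF => ?_) x
    show g (φP (KRR.cl _ F)) = φY (χ (e.symm (eP.symm (eP (KRR.cl _ F)))))
    rw [hg F hF.1 hF.2, eP.symm_apply_apply, ← mapSub_clSub (fun M hM => hM.1) hF]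
    show _ = φY (χ (e.symm (e (KZero.clSub (RB n Y) F))))
    rw [e.symm_apply_apply, hχ F hF]

theorem existsUnique_isPull {X Y : Scheme.{u}} (f : X ⟶ Y)
    {KX : Type*} {KY : Type*} [CommRing KX] [CommRing KY]
    (φX : SGA6.Kvb X →+ KX) {φY : SGA6.Kvb Y →+ KY} (hφ : Function.Bijective φY) :
    ∃! g : KY →+ KX, KRR.IsPull f φY φX g := by
  obtain ⟨χ, hχ⟩ := KZ.exists_liftSub (KRR.vbP Y) (fun E => KRR.cl X ((Scheme.Modules.pullback f).obj E))
    fun S hS h₁ h₂ h₃ => KZ.clSub_ses (KRR.vbP X) (shortExact_pullback_vb f hS h₃)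
      (KFlatLib.isFinLocFree_pullback f h₁) (KFlatLib.isFinLocFree_pullback f h₂)
      (KFlatLib.isFinLocFree_pullback f h₃)
  let eY := AddEquiv.ofBijective φY hφ
  refine ⟨φX.comp (χ.comp eY.symm.toAddMonoidHom), fun E hE => ?_, fun g hg => ?_⟩
  · show φX (χ (eY.symm (eY (KRR.cl Y E)))) = _
    rw [eY.symm_apply_apply]
    exact congrArg φX (hχ E hE)
  · refine AddMonoidHom.ext fun z => ?_
    obtain ⟨x, rfl⟩ := hφ.2 z
    refine DFunLike.congr_fun (KZ.K0sub_hom_ext (f := g.comp φY)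
      (g := (φX.comp (χ.comp eY.symm.toAddMonoidHom)).comp φY) (KRR.vbP Y) fun E hE => ?_) x
    show g (φY (KRR.cl Y E)) = φX (χ (eY.symm (eY (KRR.cl Y E))))
    rw [hg E hE, eY.symm_apply_apply]
    exact (congrArg φX (hχ E hE)).symm

section ProjFormula

theorem projFormula {F : (KRR.PY n Y).Modules} (hF : RB n Y F) {E : Y.Modules} (hE : FlatMod.IsFinLocFree E) :
    RB n Y (CohB1.tensorMod ((Scheme.Modules.pullback (KRR.pr n Y)).obj E) F) ∧
    Nonempty ((Scheme.Modules.pushforward (KRR.pr n Y)).obj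
        (CohB1.tensorMod ((Scheme.Modules.pullback (KRR.pr n Y)).obj E) F) ≅
      CohB1.tensorMod E ((Scheme.Modules.pushforward (KRR.pr n Y)).obj F)) := by
  let p := KRR.pr n Y
  haveI := isProper_pr (n := n) (T := Y)
  haveI := SpObjSS.enoughInjectives_of_hasInjectiveResolutions (C := (KRR.PY n Y).Modules)
  haveI := QCoh.preservesFiniteLimits_push p
  have hE' := KFlatLib.isFinLocFree_pullback p hE
  refine ⟨⟨KFlatLib.isFinLocFree_tensor hE' hF.1, fun q hq => ?_⟩, ?_⟩
  · obtain ⟨k, rfl⟩ := Nat.exists_eq_add_of_le' hq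
    let G := KRR.twF n Y (-((k + 1 : ℕ) : ℤ)) F
    obtain ⟨α⟩ : Nonempty (CohB1.tensorMod ((Scheme.Modules.pullback p).obj E) G ≅
        KRR.twF n Y (-((k + 1 : ℕ) : ℤ)) (CohB1.tensorMod ((Scheme.Modules.pullback p).obj E) F)) :=
      cl_eq_iff.1 (by rw [cl_tensor, cl_twF, cl_twF, cl_tensor, mul_left_comm])
    refine isZero_RpushAb_of_iso α _ ?_
    obtain ⟨a⟩ := QCoh.nonempty_Rpush_iso p G k
    obtain ⟨b⟩ := QCoh.nonempty_RpushAb_iso p G k
    obtain ⟨c⟩ := KFlatLib.nonempty_rpush_tensor_finLocFree p G E hE (k + 1)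
    obtain ⟨a'⟩ := QCoh.nonempty_Rpush_iso p (CohB1.tensorMod ((Scheme.Modules.pullback p).obj E) G) k
    obtain ⟨b'⟩ := QCoh.nonempty_RpushAb_iso p (CohB1.tensorMod ((Scheme.Modules.pullback p).obj E) G) k
    have h0 : IsZero ((QCoh.toAbFunctor Y).obj (QCoh.rpushModel p G k)) := (hF.2 (k + 1) hq).of_iso b.symm
    have h1 : IsZero (QCoh.rpushModel p G k) := by
      haveI : (QCoh.toAbFunctor Y).Faithful := inferInstanceAs (SheafOfModules.toSheaf Y.ringCatSheaf).Faithful
      exact (IsZero.iff_id_eq_zero _).2 ((QCoh.toAbFunctor Y).map_injective (h0.eq_of_src _ _))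
    refine (Functor.map_isZero (QCoh.toAbFunctor Y) ?_).of_iso b'
    exact ((DCoh.tensorBi.obj E).map_isZero (h1.of_iso a)).of_iso (a'.symm ≪≫ c.symm)
  · obtain ⟨c⟩ := KFlatLib.nonempty_rpush_tensor_finLocFree p F E hE 0
    let e := (Scheme.Modules.pushforward p).rightDerivedZeroIsoSelf
    let e₁ := e.app (CohB1.tensorMod ((Scheme.Modules.pullback p).obj E) F)
    let e₂ := (DCoh.tensorBi.obj E).mapIso (e.app F)
    exact ⟨e₁.symm ≪≫ c.symm ≪≫ e₂⟩

end ProjFormula

theorem pushPr_mul_pull_cl {KP : Type*} [CommRing KP]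
    {φP : SGA6.Kvb (KRR.PY n Y) →+ KP} (hKP : IsRingModel (KRR.PY n Y) KP φP)
    {KY : Type*} [CommRing KY]
    {φY : SGA6.Kvb Y →+ KY} (hKY : IsRingModel Y KY φY)
    {g : KP →+ KY} (hg : KRR.IsPushPr n Y φP φY g) {q : KY →+ KP} (hq : KRR.IsPull (KRR.pr n Y) φY φP q)
    {F : (KRR.PY n Y).Modules} (hF : RB n Y F) {E : Y.Modules} (hE : FlatMod.IsFinLocFree E) :
    g (φP (KRR.cl (KRR.PY n Y) F) * q (φY (KRR.cl Y E))) =
      g (φP (KRR.cl (KRR.PY n Y) F)) * φY (KRR.cl Y E) := by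
  obtain ⟨hR, ⟨ε⟩⟩ := projFormula hF hE
  have hpush := isFinLocFree_push (isCoh_of_finLocFree hF.1) (isFlatOver_finLocFree hF.1) hF.2
  have hEF := KFlatLib.isFinLocFree_tensor hE hpush
  rw [hq E hE, mul_comm (φP (KRR.cl (KRR.PY n Y) F)),
    hKP.map_mul _ _ (KFlatLib.isFinLocFree_pullback _ hE) hF.1]
  refine (hg _ hR.1 hR.2).trans ?_
  rw [cl_iso ε (isFinLocFree_iso ε.symm hEF), hg F hF.1 hF.2, mul_comm, hKY.map_mul _ _ hE hpush]
  rfl

theorem pushPr_mul_pull {KP : Type*} [CommRing KP]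
    {φP : SGA6.Kvb (KRR.PY n Y) →+ KP} (hKP : IsRingModel (KRR.PY n Y) KP φP)
    {KY : Type*} [CommRing KY]
    {φY : SGA6.Kvb Y →+ KY} (hKY : IsRingModel Y KY φY)
    {g : KP →+ KY} (hg : KRR.IsPushPr n Y φP φY g) {q : KY →+ KP} (hq : KRR.IsPull (KRR.pr n Y) φY φP q)
    (x : KP) (y : KY) : g (x * q y) = g x * y := by
  obtain ⟨x, rfl⟩ := hKP.bijective.2 x
  obtain ⟨y, rfl⟩ := hKY.bijective.2 y
  let A₁ : SGA6.Kvb (KRR.PY n Y) →+ KY := g.comp ((AddMonoidHom.mulRight (q (φY y))).comp φP)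
  let A₂ : SGA6.Kvb (KRR.PY n Y) →+ KY := (AddMonoidHom.mulRight (φY y)).comp (g.comp φP)
  have hA : A₁ = A₂ := vbHom_ext fun F hF => by
    let B₁ : SGA6.Kvb Y →+ KY :=
      g.comp ((AddMonoidHom.mulLeft (φP (KRR.cl (KRR.PY n Y) F))).comp (q.comp φY))
    let B₂ : SGA6.Kvb Y →+ KY := (AddMonoidHom.mulLeft (g (φP (KRR.cl (KRR.PY n Y) F)))).comp φY
    have hB : B₁ = B₂ := KZ.K0sub_hom_ext (KRR.vbP Y) fun E hE => pushPr_mul_pull_cl hKP hKY hg hq hF hE
    exact DFunLike.congr_fun hB y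
  exact DFunLike.congr_fun hA x

end Groth.Agent.KRRReg
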