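import Groth.Agent.KRRReg.UnitSurj
import Groth.Agent.KRRReg.LocFree
import Groth.Agent.S3582
import Groth.Agent.QCoh.LocFree
import Groth.Agent.H23.PullPush
import Groth.Agent.KZ.Basic

/-!
# `p_* O = O` for projective space over any scheme
-/

set_option linter.style.haveILetI false
set_option linter.unusedSectionVars false
set_option backward.isDefEq.respectTransparency false
set_option backward.isDefEq.respectTransparency.types false
set_option maxHeartbeats 1000000
set_option autoImplicit false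

universe u

open CategoryTheory CategoryTheory.Limits AlgebraicGeometry TopologicalSpace Opposite

noncomputable section

namespace Groth.Agent.KRRReg

open Groth.Agent

theorem appV_injective {X Y : Scheme.{u}} (p : X ⟶ Y) [Flat p] [Surjective p] (V : Y.Opens) :
    Function.Injective (p.app V) := by
  refine (injective_iff_map_eq_zero (p.app V).hom).2 fun a ha => ?_
  refine TopCat.Presheaf.section_ext Y.sheaf _ _ _ fun y hy => ?_
  obtain ⟨x, rfl⟩ := p.surjective y
  letI : Algebra (Y.presheaf.stalk (p x)) (X.presheaf.stalk x) := (p.stalkMap x).hom.toAlgebra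
  haveI : Module.Flat (Y.presheaf.stalk (p x)) (X.presheaf.stalk x) := Flat.stalkMap p x
  haveI : IsLocalHom (algebraMap (Y.presheaf.stalk (p x)) (X.presheaf.stalk x)) :=
    inferInstanceAs (IsLocalHom (p.stalkMap x).hom)
  haveI : Module.FaithfullyFlat (Y.presheaf.stalk (p x)) (X.presheaf.stalk x) :=
    Module.FaithfullyFlat.of_flat_of_isLocalHom
  refine (FaithfulSMul.algebraMap_injective (Y.presheaf.stalk (p x)) (X.presheaf.stalk x)) ?_
  show (p.stalkMap x) (Y.presheaf.germ V (p x) hy a) = (p.stalkMap x) (Y.presheaf.germ V (p x) hy 0)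
  rw [Scheme.Hom.germ_stalkMap_apply, Scheme.Hom.germ_stalkMap_apply]
  exact congrArg _ (ha.trans (map_zero _).symm)

theorem structure_pullSec_open {X Y : Scheme.{u}} (π : X ⟶ Y) :
    ∃ e : (Scheme.Modules.pullback π).obj (Coh.structureModule Y) ≅ Coh.structureModule X,
      ∀ (V : Y.Opens) (x : Γ(Y, V)), e.hom.app (π ⁻¹ᵁ V)
        (QCoh.pullSec π (Coh.structureModule Y) (le_rfl : π ⁻¹ᵁ V ≤ π ⁻¹ᵁ V) x) = π.app V x := by
  let φ := π.toRingCatSheafHom
  let e : (Scheme.Modules.pullback π).obj (Coh.structureModule Y) ⟶ Coh.structureModule X :=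
    SheafOfModules.pullbackObjUnitToUnit φ
  have : IsIso e := inferInstanceAs (IsIso (SheafOfModules.pullbackObjUnitToUnit φ))
  refine ⟨asIso e, fun V x => ?_⟩
  have h1 : (Scheme.Modules.pullbackPushforwardAdjunction π).unit.app _ ≫ (Scheme.Modules.pushforward π).map e =
      SheafOfModules.unitToPushforwardObjUnit φ :=
    ((Scheme.Modules.pullbackPushforwardAdjunction π).homEquiv_unit _ _ e).symm.trans (Equiv.apply_symm_apply _ _)
  have h2 : e.app (π ⁻¹ᵁ V) (((Scheme.Modules.pullbackPushforwardAdjunction π).unit.app (Coh.structureModule Y)).app V x) =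
      π.app V x := congrArg (fun t => Scheme.Modules.Hom.app t V x) h1
  refine Eq.trans ?_ h2
  exact congrArg (e.app (π ⁻¹ᵁ V)) (QCoh.map_id' (M := (Scheme.Modules.pullback π).obj (Coh.structureModule Y)) _ _)

variable (n : ℕ) (T : Scheme.{u})

/-- `p_* O_P = O_T`. -/
theorem nonempty_push_structure_iso :
    Nonempty ((Scheme.Modules.pushforward (KRR.pr n T)).obj (Coh.structureModule (KRR.PY n T)) ≅
      Coh.structureModule T) := by
  let p := KRR.pr n T
  haveI : Surjective p := S3582.result n T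
  let η : Coh.structureModule T ⟶ (Scheme.Modules.pushforward p).obj (Coh.structureModule (KRR.PY n T)) :=
    SheafOfModules.unitToPushforwardObjUnit p.toRingCatSheafHom
  haveI : IsIso η := by
    refine QCoh.isIso_of_isBasis η (B := {V | IsAffineOpen V}) T.isBasis_affineOpens fun V hV => ?_
    refine ⟨appV_injective p V, fun z => ?_⟩
    obtain ⟨e, he⟩ := structure_pullSec_open p
    obtain ⟨w, hw⟩ := (ConcreteCategory.bijective_of_isIso (e.hom.app (p ⁻¹ᵁ V))).2 z
    obtain ⟨x, rfl⟩ := surjective_pullSec_pr QCoh.isQCoh_structureModule ⟨V, hV⟩ w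
    exact ⟨x, (he V x).symm.trans hw⟩
  exact ⟨(asIso η).symm⟩

theorem isRegSheaf_of_iso {F F' : (KRR.PY n T).Modules} (ε : F ≅ F') (h : KRR.IsRegSheaf n T F) :
    KRR.IsRegSheaf n T F' := fun q hq =>
  isZero_RpushAb_of_iso ((DCoh.tensorBi.obj (Twist.twistOver n T (-(q : ℤ)))).mapIso ε) q (h q hq)

theorem isRegSheaf_structure : KRR.IsRegSheaf n T (Coh.structureModule (KRR.PY n T)) :=
  isRegSheaf_of_iso n T (PicClLib.nonempty_pullback_structureModule (KRR.pr n T)).some
    (isRegSheaf_pullback QCoh.isQCoh_structureModule)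

theorem isFinLocFree_structure (X : Scheme.{u}) : FlatMod.IsFinLocFree (Coh.structureModule X) :=
  H23.PullPush.isFinLocFree_of_isInvertible InvX.isInvertible_structureModule

theorem isFinLocFree_iso {X : Scheme.{u}} {M N : X.Modules} (e : M ≅ N) (h : FlatMod.IsFinLocFree M) :
    FlatMod.IsFinLocFree N := fun x => by
  obtain ⟨U, r, hx, ⟨φ⟩⟩ := h x
  exact ⟨U, r, hx, ⟨(Scheme.Modules.restrictFunctor U.ι).mapIso e.symm ≪≫ φ⟩⟩

theorem isFinLocFree_zero {X : Scheme.{u}} {Z : X.Modules} (hZ : IsZero Z) : FlatMod.IsFinLocFree Z := fun x =>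
  ⟨⊤, 0, trivial, ⟨((Scheme.Modules.restrictFunctor (⊤ : X.Opens).ι).map_isZero hZ).iso
    ((IsZero.iff_id_eq_zero _).2 (Sigma.hom_ext _ _ fun j => j.elim0))⟩⟩

theorem cl_iso {X : Scheme.{u}} {M N : X.Modules} (e : M ≅ N) (h : FlatMod.IsFinLocFree M) :
    KRR.cl X M = KRR.cl X N :=
  KZ.clSub_iso _ e h (isFinLocFree_iso e h) (isZero_zero _) (isFinLocFree_zero (isZero_zero _))

end Groth.Agent.KRRReg
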