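import Groth.Agent.ExtPowSh.Model
import Groth.Agent.KRRReg.KMaps
import Groth.Prelude.Def_KRR

/-!
# Pull-back on `K` is a λ-homomorphism
-/

set_option linter.style.haveILetI false
set_option linter.unusedSectionVars false
set_option backward.isDefEq.respectTransparency false
set_option backward.isDefEq.respectTransparency.types false
set_option maxHeartbeats 1000000
set_option autoImplicit false

universe v w u

open CategoryTheory CategoryTheory.Limits AlgebraicGeometry
open Groth.Agent.H23.PicMul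

noncomputable section

namespace Groth.Agent.KRRReg

variable {X Y : Scheme.{u}} {KX : Type v} [CommRing KX] [LambdaRing.LambdaOps KX] {KY : Type w} [CommRing KY]
  [LambdaRing.LambdaOps KY] {PX : LambdaRing.PosStructure KX} {PY : LambdaRing.PosStructure KY}
  {φX : SGA6.Kvb X →+ KX} {φY : SGA6.Kvb Y →+ KY} {f : X ⟶ Y} {g : KY →+ KX}

/-- Inverse image commutes with tensor products. -/
def pullTensor (f : X ⟶ Y) (E F : Y.Modules) :
    (Scheme.Modules.pullback f).obj ((DCoh.tensorBi.obj E).obj F) ≅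
      (DCoh.tensorBi.obj ((Scheme.Modules.pullback f).obj E)).obj ((Scheme.Modules.pullback f).obj F) :=
  (cl_eq_iff.1 (show PicF.pullCl f (PicF.cl (CohB1.tensorMod E F)) = PicF.cl (CohB1.tensorMod _ _) by
    rw [cl_tensor, pullCl_mul, cl_tensor]; rfl)).some

theorem isFinLocFreeOfRank_pullback (f : X ⟶ Y) {r : ℕ} {M : Y.Modules} (hM : FlatMod.IsFinLocFreeOfRank r M) :
    FlatMod.IsFinLocFreeOfRank r ((Scheme.Modules.pullback f).obj M) := fun x => by
  obtain ⟨U, hx, ⟨e⟩⟩ := hM (f x)
  exact ⟨f ⁻¹ᵁ U, hx, ⟨((H23.PullPush.pullRestrictIso f U).app M).symm ≪≫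
    (Scheme.Modules.pullback (f ∣_ U)).mapIso e ≪≫ KFlatLib.pullFreeIso _ r⟩⟩

theorem hom_ext_model (hY : KRR.IsModel Y KY PY φY) {G : Type*} [AddCommGroup G] {a b : KY →+ G}
    (h : ∀ E, FlatMod.IsFinLocFree E → a (φY (KRR.cl Y E)) = b (φY (KRR.cl Y E))) : a = b :=
  AddMonoidHom.ext fun k => by
    obtain ⟨z, rfl⟩ := hY.bijective.2 k
    exact DFunLike.congr_fun (KZ.K0sub_hom_ext (KRR.vbP Y) (f := a.comp φY) (g := b.comp φY) h) z

theorem pull_mul (hX : KRR.IsModel X KX PX φX) (hY : KRR.IsModel Y KY PY φY) (hg : KRR.IsPull f φY φX g)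
    (a b : KY) : g (a * b) = g a * g b := by
  refine DFunLike.congr_fun (hom_ext_model hY (a := g.comp (AddMonoidHom.mulRight b))
    (b := (AddMonoidHom.mulRight (g b)).comp g) fun E hE => ?_) a
  refine DFunLike.congr_fun (hom_ext_model hY (a := g.comp (AddMonoidHom.mulLeft (φY (KRR.cl Y E))))
    (b := (AddMonoidHom.mulLeft (g (φY (KRR.cl Y E)))).comp g) fun F hF => ?_) b
  show g (φY (KRR.cl Y E) * φY (KRR.cl Y F)) = g (φY (KRR.cl Y E)) * g (φY (KRR.cl Y F))
  rw [hY.map_mul E F hE hF, hg E hE, hg F hF, hg _ (KFlatLib.isFinLocFree_tensor hE hF),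
    hX.map_mul _ _ (KFlatLib.isFinLocFree_pullback f hE) (KFlatLib.isFinLocFree_pullback f hF)]
  exact congrArg φX (cl_iso (pullTensor f E F)
    (KFlatLib.isFinLocFree_pullback f (KFlatLib.isFinLocFree_tensor hE hF)))

theorem pull_one (hX : KRR.IsModel X KX PX φX) (hY : KRR.IsModel Y KY PY φY) (hg : KRR.IsPull f φY φX g) :
    g 1 = 1 := by
  rw [← hY.map_one, hg _ (isFinLocFree_structure Y), ← hX.map_one]
  exact congrArg φX (cl_iso (PicClLib.nonempty_pullback_structureModule f).some
    (KFlatLib.isFinLocFree_pullback f (isFinLocFree_structure Y)))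

/-- The pull-back as a ring homomorphism. -/
def pullRingHom (hX : KRR.IsModel X KX PX φX) (hY : KRR.IsModel Y KY PY φY) (hg : KRR.IsPull f φY φX g) :
    KY →+* KX :=
  { g with map_one' := pull_one hX hY hg, map_mul' := pull_mul hX hY hg }

theorem pull_lam (hX : KRR.IsModel X KX PX φX) (hY : KRR.IsModel Y KY PY φY) (hg : KRR.IsPull f φY φX g)
    (i : ℕ) (y : KY) : g (LambdaRing.LambdaOps.lam i y) = LambdaRing.LambdaOps.lam i (g y) := by
  let G := pullRingHom hX hY hg
  have hcl : ∀ E, FlatMod.IsFinLocFree E → ∀ j, G (LambdaRing.LambdaOps.lam j (φY (KRR.cl Y E))) =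
      LambdaRing.LambdaOps.lam j (G (φY (KRR.cl Y E))) := fun E hE j => by
    have hq := QCoh.isQCoh_of_isFinLocFree hE
    have h := ExtPowSh.isExtPow E j hq
    show g _ = LambdaRing.LambdaOps.lam j (g (φY (KRR.cl Y E)))
    rw [hg E hE, hY.map_lam j E _ hE (ExtPowSh.isFinLocFree hE) h, hg _ (ExtPowSh.isFinLocFree hE),
      hX.map_lam j _ _ (KFlatLib.isFinLocFree_pullback f hE)
        (KFlatLib.isFinLocFree_pullback f (ExtPowSh.isFinLocFree hE))
        (ExtPowSh.isExtPow_pullback f hq h)]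
  have hsum : ∀ a b : KY, (∀ j, G (LambdaRing.LambdaOps.lam j a) = LambdaRing.LambdaOps.lam j (G a)) →
      (∀ j, G (LambdaRing.LambdaOps.lam j b) = LambdaRing.LambdaOps.lam j (G b)) →
      ∀ j, G (LambdaRing.LambdaOps.lam j (a + b)) = LambdaRing.LambdaOps.lam j (G (a + b)) := fun a b ha hb j => by
    simp only [LambdaRing.LambdaOps.lam_add, map_add, map_sum, map_mul, ha, hb]
  have hneg : ∀ a b : KY, (∀ j, G (LambdaRing.LambdaOps.lam j b) = LambdaRing.LambdaOps.lam j (G b)) →
      (∀ j, G (LambdaRing.LambdaOps.lam j (a + b)) = LambdaRing.LambdaOps.lam j (G (a + b))) →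
      ∀ j, G (LambdaRing.LambdaOps.lam j a) = LambdaRing.LambdaOps.lam j (G a) := fun a b hb hab j => by
    induction j using Nat.strong_induction_on with
    | _ j ih =>
      have h := hab j
      rw [map_add, LambdaRing.LambdaOps.lam_add, LambdaRing.LambdaOps.lam_add, map_sum,
        Finset.sum_range_succ, Finset.sum_range_succ, Finset.sum_congr rfl (fun i hi => by
          rw [map_mul, ih i (Finset.mem_range.1 hi), hb])] at h
      have h' := add_left_cancel h
      rwa [Nat.sub_self, LambdaRing.LambdaOps.lam_zero, LambdaRing.LambdaOps.lam_zero, mul_one, mul_one] at h'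
  obtain ⟨z, rfl⟩ := hY.bijective.2 y
  obtain ⟨A, B, hA, hB, rfl⟩ := ExtPowSh.exists_sub_cl z
  exact hneg _ (φY (KRR.cl Y B)) (hcl B hB) (by rw [← map_add, sub_add_cancel]; exact hcl A hA) i

theorem pull_aug [Nonempty X] (hX : KRR.IsModel X KX PX φX) (hY : KRR.IsModel Y KY PY φY)
    (hg : KRR.IsPull f φY φX g) (y : KY) : PX.aug (g y) = PY.aug y := by
  have h : ∀ e ∈ PY.pos, PX.aug (g e) = PY.aug e := fun e he => by
    obtain ⟨n, E, -, hE, rfl⟩ := (hY.mem_pos_iff e).1 he
    rw [hg E (ExtPowSh.flf_of_rank hE), hY.aug_cl n E hE, hX.aug_cl n _ (isFinLocFreeOfRank_pullback f hE)]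
  obtain ⟨a, b, ha, hb, rfl⟩ := PY.exists_sub y
  rw [map_sub, map_sub, map_sub, h a ha, h b hb]

theorem gamma_map {R S : Type*} [CommRing R] [LambdaRing.LambdaOps R] [CommRing S] [LambdaRing.LambdaOps S]
    (G : R →+* S) (hG : ∀ j x, G (LambdaRing.LambdaOps.lam j x) = LambdaRing.LambdaOps.lam j (G x)) (k : ℕ) (x : R) :
    G (LambdaRing.gamma k x) = LambdaRing.gamma k (G x) := by
  unfold LambdaRing.gamma
  split
  · exact map_one G
  · rw [map_sum]
    refine Finset.sum_congr rfl fun j _ => ?_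
    rw [map_mul, map_natCast]
    split
    · rw [map_zero]
    · rw [hG]

/-- λ-homomorphisms respect the γ-filtrations. -/
theorem map_gammaFiltration {R S : Type*} [CommRing R] [LambdaRing.LambdaOps R] [CommRing S] [LambdaRing.LambdaOps S]
    {P : LambdaRing.PosStructure R} {Q : LambdaRing.PosStructure S} (G : R →+* S)
    (hG : ∀ j x, G (LambdaRing.LambdaOps.lam j x) = LambdaRing.LambdaOps.lam j (G x))
    (ha : ∀ x, Q.aug (G x) = P.aug x) (k : ℕ) {x : R} (hx : x ∈ LambdaRing.gammaFiltration P k) :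
    G x ∈ LambdaRing.gammaFiltration Q k := by
  unfold LambdaRing.gammaFiltration at hx ⊢
  split_ifs with h
  · trivial
  · rw [if_neg h] at hx
    induction hx using AddSubgroup.closure_induction with
    | mem y hy =>
      obtain ⟨l, hl, hk, rfl⟩ := hy
      refine AddSubgroup.subset_closure ⟨l.map fun p => (p.1, G p.2), ?_, ?_, ?_⟩
      · intro p hp
        obtain ⟨q, hq, rfl⟩ := List.mem_map.1 hp
        rw [ha]
        exact hl q hq
      · rw [List.map_map]; exact hk
      · rw [map_list_prod, List.map_map, List.map_map]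
        exact congrArg List.prod (List.map_congr_left fun p _ => gamma_map G hG p.1 p.2)
    | zero => rw [map_zero]; exact zero_mem _
    | add a b _ _ iha ihb => rw [map_add]; exact add_mem iha ihb
    | neg a _ iha => rw [map_neg]; exact neg_mem iha

end Groth.Agent.KRRReg
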