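import Groth.Agent.KRRReg.SecBC
import Groth.Agent.KRRReg.PushOne
import Groth.Agent.KFlatLib.Perfect.LocFree

/-!
# Base change of regular bundles on projective space
-/

set_option linter.style.haveILetI false
set_option linter.unusedSectionVars false
set_option backward.isDefEq.respectTransparency false
set_option backward.isDefEq.respectTransparency.types false
set_option maxHeartbeats 1000000
set_option synthInstance.maxHeartbeats 200000
set_option autoImplicit false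

universe u

open CategoryTheory CategoryTheory.Limits AlgebraicGeometry TopologicalSpace Opposite
open Groth.Agent.H23.PicMul

noncomputable section

namespace Groth.Agent.KRRReg

open Groth.Agent

theorem isFlatOver_of_flat {X Y : Scheme.{u}} (f : X ⟶ Y) [Flat f] {F : X.Modules}
    (hF : FlatMod.IsFinLocFree F) : FlatMod.IsFlatOver f F := fun x => by
  show FlatMod.IsFlatOverAt f F x
  unfold FlatMod.IsFlatOverAt
  letI := FlatMod.moduleStalkOver f F x
  letI : Algebra (Y.presheaf.stalk (f.base x)) (X.presheaf.stalk x) := (f.stalkMap x).hom.toAlgebra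
  haveI : IsScalarTower (Y.presheaf.stalk (f.base x)) (X.presheaf.stalk x) (F.presheaf.stalk x) :=
    IsScalarTower.of_algebraMap_smul fun _ _ => rfl
  haveI : Module.Flat (Y.presheaf.stalk (f.base x)) (X.presheaf.stalk x) := Flat.stalkMap f x
  haveI := QCoh.free_stalk_of_isFinLocFree hF x
  exact Module.Flat.trans _ (X.presheaf.stalk x) _

theorem bijective_pullSec_ι {X : Scheme.{u}} (U : X.Opens) (G : X.Modules) :
    Function.Bijective (QCoh.pullSec U.ι G (U.ι_preimage_self.ge : (⊤ : U.toScheme.Opens) ≤ U.ι ⁻¹ᵁ U)) := by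
  refine ⟨injective_pullSec_ι U G, fun z => ?_⟩
  let e := Scheme.Modules.restrictFunctorIsoPullback U.ι
  let P := (Scheme.Modules.pullback U.ι).obj G
  let ha : (⊤ : U.toScheme.Opens) ≤ U.ι ⁻¹ᵁ U := U.ι_preimage_self.ge
  haveI : IsIso (homOfLE ha) := ⟨homOfLE le_top, Subsingleton.elim _ _, Subsingleton.elim _ _⟩
  obtain ⟨z₁, rfl⟩ := (ConcreteCategory.bijective_of_isIso (P.presheaf.map (homOfLE ha).op)).2 z
  obtain ⟨z₂, rfl⟩ := (ConcreteCategory.bijective_of_isIso ((e.hom.app G).app (U.ι ⁻¹ᵁ U))).2 z₁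
  have hu := (Scheme.Modules.restrictAdjunction U.ι).unit_leftAdjointUniq_hom_app
    (Scheme.Modules.pullbackPushforwardAdjunction U.ι) G
  have hU : U.ι ''ᵁ (U.ι ⁻¹ᵁ U) = U := by simp
  obtain ⟨t, rfl⟩ : ∃ t : Γ(G, U), ((Scheme.Modules.restrictAdjunction U.ι).unit.app G).app U t = z₂ := by
    have hle : U ≤ U.ι ''ᵁ (U.ι ⁻¹ᵁ U) := hU.ge
    refine ⟨G.presheaf.map (homOfLE hle).op z₂, ?_⟩
    refine (QCoh.map_map (M := G) (homOfLE hU.le) (homOfLE hle) _).trans ?_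
    exact QCoh.map_id' (M := G) _ _
  exact ⟨t, congrArg (P.presheaf.map (homOfLE ha).op) (congrArg (fun φ => Scheme.Modules.Hom.app φ U t) hu).symm⟩

/-- The action on sections over an affine of the base, seen globally over the spectrum. -/
theorem toGlobal_overSpec {X S : Scheme.{u}} (f : X ⟶ S) {V : S.Opens} (hV : IsAffineOpen V) (a : Γ(S, V)) :
    Coh.toGlobal (QCoh.overSpec f hV) a =
      (f ⁻¹ᵁ V : X.Opens).ι.appLE (f ⁻¹ᵁ V) ⊤ (f ⁻¹ᵁ V : X.Opens).ι_preimage_self.ge (f.app V a) := by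
  let j := (f ⁻¹ᵁ V : X.Opens).ι
  let π := QCoh.overSpec f hV
  have h1 : hV.fromSpec.appLE V ⊤ hV.fromSpec_preimage_self.ge = (Scheme.ΓSpecIso Γ(S, V)).inv := by
    rw [Scheme.Hom.appLE, hV.fromSpec_app_self, Category.assoc, ← Functor.map_comp]
    convert Category.comp_id _
    exact (Spec Γ(S, V)).presheaf.map_id _
  have h2 : hV.fromSpec.appLE V ⊤ hV.fromSpec_preimage_self.ge ≫ π.appLE ⊤ ⊤ le_top =
      f.appLE V (f ⁻¹ᵁ V) le_rfl ≫ j.appLE (f ⁻¹ᵁ V) ⊤ (f ⁻¹ᵁ V : X.Opens).ι_preimage_self.ge := by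
    rw [Scheme.Hom.appLE_comp_appLE, Scheme.Hom.appLE_comp_appLE]
    simp only [π, j, QCoh.overSpec_fromSpec]
  rw [h1, ← Scheme.Hom.app_eq_appLE] at h2
  refine Eq.trans ?_ congr($h2 a)
  show π.appTop ((Scheme.ΓSpecIso Γ(S, V)).inv a) = π.appLE ⊤ ⊤ le_top ((Scheme.ΓSpecIso Γ(S, V)).inv a)
  rw [Scheme.Hom.appLE]
  exact (QCoh.ringMap_id _ _).symm

variable {n : ℕ} {Y Y₁ : Scheme.{u}} (φ : Y₁ ⟶ Y)

theorem projSpaceMap_gfst : KRR.projSpaceMap n φ ≫ gfst n Y = gfst n Y₁ := by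
  simp [KRR.projSpaceMap, gfst]

theorem isPullback_projSpaceMap (hsq : KRR.projSpaceMap n φ ≫ KRR.pr n Y = KRR.pr n Y₁ ≫ φ) :
    IsPullback (KRR.projSpaceMap n φ) (KRR.pr n Y₁) (KRR.pr n Y) φ := by
  refine IsPullback.of_right ?_ hsq
    (IsPullback.of_hasPullback (CohB1.ProjSpace.toSpec n Zu.{u}) (specULiftZIsTerminal.from Y))
  rw [show φ ≫ specULiftZIsTerminal.from Y = specULiftZIsTerminal.from Y₁ from specULiftZIsTerminal.hom_ext _ _]
  show IsPullback (KRR.projSpaceMap n φ ≫ gfst n Y) _ _ _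
  rw [projSpaceMap_gfst]
  exact IsPullback.of_hasPullback _ _

theorem twF_pullback_iso (F : (KRR.PY n Y).Modules) (d : ℤ) :
    Nonempty (KRR.twF n Y₁ d ((Scheme.Modules.pullback (KRR.projSpaceMap n φ)).obj F) ≅
      (Scheme.Modules.pullback (KRR.projSpaceMap n φ)).obj (KRR.twF n Y d F)) := by
  refine cl_eq_iff.1 ?_
  show _ = PicF.pullCl (KRR.projSpaceMap n φ) (PicF.cl (KRR.twF n Y d F))
  rw [cl_twF, cl_twF, pullCl_mul]
  refine congrArg (· * PicF.pullCl (KRR.projSpaceMap n φ) (PicF.cl F)) ?_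
  show PicF.pullCl (gfst n Y₁) (PicF.cl (Twist.twistProjSpace n Zu.{u} d)) = PicF.pullCl (KRR.projSpaceMap n φ)
    (PicF.pullCl (gfst n Y) (PicF.cl (Twist.twistProjSpace n Zu.{u} d)))
  rw [PicClLib.pullCl_comp, projSpaceMap_gfst]

variable (hsq : KRR.projSpaceMap n φ ≫ KRR.pr n Y = KRR.pr n Y₁ ≫ φ)
  {U : Y.Opens} (hU : IsAffineOpen U) {W : Y₁.Opens} (hW : IsAffineOpen W) (hle : W ≤ φ ⁻¹ᵁ U)

include hsq hle in
theorem le_preimage_UV : UV n W ≤ KRR.projSpaceMap n φ ⁻¹ᵁ UV n U := by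
  rw [← Scheme.Hom.comp_preimage, hsq, Scheme.Hom.comp_preimage]
  exact (KRR.pr n Y₁).preimage_mono hle

/-- The map of projective spaces over affines of the bases. -/
def ΨW : (UV n W).toScheme ⟶ (UV n U).toScheme :=
  (KRR.projSpaceMap n φ).resLE (UV n U) (UV n W) (le_preimage_UV φ hsq hle)

theorem ΨW_ι : ΨW φ hsq hle ≫ (UV n U).ι = (UV n W).ι ≫ KRR.projSpaceMap n φ :=
  Scheme.Hom.resLE_comp_ι _ _

theorem isPullback_ΨW :
    IsPullback (ΨW φ hsq hle) (QCoh.overSpec (KRR.pr n Y₁) hW) (QCoh.overSpec (KRR.pr n Y) hU)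
      (Spec.map (φ.appLE U W hle)) := by
  have hbig := (QCoh.isPullback_overSpec (f := KRR.pr n Y₁) hW).paste_horiz (isPullback_projSpaceMap φ hsq)
  refine IsPullback.of_right ?_ ?_ (QCoh.isPullback_overSpec (f := KRR.pr n Y) hU)
  · rw [ΨW_ι, IsAffineOpen.SpecMap_appLE_fromSpec φ hU hW hle]
    exact hbig
  · rw [← cancel_mono hU.fromSpec, Category.assoc, Category.assoc, QCoh.overSpec_fromSpec,
      IsAffineOpen.SpecMap_appLE_fromSpec φ hU hW hle, ← Category.assoc (ΨW φ hsq hle), ΨW_ι,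
      Category.assoc, hsq,
      ← Category.assoc, ← Category.assoc, QCoh.overSpec_fromSpec]

variable {φ}

/-- The pullback of the restriction is the restriction of the pullback. -/
def restrictIso (G : (KRR.PY n Y).Modules) :
    (Scheme.Modules.pullback (ΨW φ hsq hle)).obj ((Scheme.Modules.pullback (UV n U).ι).obj G) ≅
      (Scheme.Modules.pullback (UV n W).ι).obj ((Scheme.Modules.pullback (KRR.projSpaceMap n φ)).obj G) :=
  (Scheme.Modules.pullbackComp (ΨW φ hsq hle) (UV n U).ι).app G ≪≫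
    (Scheme.Modules.pullbackCongr (ΨW_ι φ hsq hle)).app G ≪≫
    ((Scheme.Modules.pullbackComp (UV n W).ι (KRR.projSpaceMap n φ)).app G).symm

theorem restrictIso_pullSec (G : (KRR.PY n Y).Modules) (m : Γ(G, UV n U)) :
    (restrictIso hsq hle G).hom.app ⊤
        (QCoh.pullSec (ΨW φ hsq hle) ((Scheme.Modules.pullback (UV n U).ι).obj G)
          (show (⊤ : (UV n W).toScheme.Opens) ≤ ΨW φ hsq hle ⁻¹ᵁ ⊤ from fun _ _ => trivial)
          (QCoh.pullSec (UV n U).ι G ((UV n U).ι_preimage_self.ge) m)) =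
      QCoh.pullSec (UV n W).ι _ ((UV n W).ι_preimage_self.ge)
        (QCoh.pullSec (KRR.projSpaceMap n φ) G (le_preimage_UV φ hsq hle) m) := by
  let c := (Scheme.Modules.pullbackComp (UV n W).ι (KRR.projSpaceMap n φ)).app G
  refine (ConcreteCategory.bijective_of_isIso (c.hom.app ⊤)).1 ?_
  refine Eq.trans ?_ (ExistEasy.pullSec_comp (UV n W).ι (KRR.projSpaceMap n φ) G
    (le_preimage_UV φ hsq hle) (UV n W).ι_preimage_self.ge m).symm
  have hc : (restrictIso hsq hle G).hom ≫ c.hom =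
      (Scheme.Modules.pullbackComp (ΨW φ hsq hle) (UV n U).ι).hom.app G ≫
        (Scheme.Modules.pullbackCongr (ΨW_ι φ hsq hle)).hom.app G := by
    simp only [restrictIso, c, Iso.trans_hom, Iso.app_hom, Iso.symm_hom, Iso.app_inv, Category.assoc,
      Iso.inv_hom_id_app]
    rw [Category.comp_id]
  have hs := ExistEasy.pullSec_comp (ΨW φ hsq hle) (UV n U).ι G (UV n U).ι_preimage_self.ge
    (show (⊤ : (UV n W).toScheme.Opens) ≤ ΨW φ hsq hle ⁻¹ᵁ ⊤ from fun _ _ => trivial) m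
  let z := QCoh.pullSec (ΨW φ hsq hle) ((Scheme.Modules.pullback (UV n U).ι).obj G)
    (show (⊤ : (UV n W).toScheme.Opens) ≤ ΨW φ hsq hle ⁻¹ᵁ ⊤ from fun _ _ => trivial)
    (QCoh.pullSec (UV n U).ι G (UV n U).ι_preimage_self.ge m)
  have h3 : c.hom.app ⊤ ((restrictIso hsq hle G).hom.app ⊤ z) =
      ((restrictIso hsq hle G).hom ≫ c.hom).app ⊤ z := rfl
  refine h3.trans ?_
  rw [hc]
  refine Eq.trans ?_ (ExistEasy.pullSec_congr (ΨW_ι φ hsq hle) G
    (show (⊤ : (UV n W).toScheme.Opens) ≤ (ΨW φ hsq hle ≫ (UV n U).ι) ⁻¹ᵁ UV n U from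
      fun x _ => (ΨW φ hsq hle x).2) m)
  exact congrArg (((Scheme.Modules.pullbackCongr (ΨW_ι φ hsq hle)).hom.app G).app ⊤) hs

theorem flat_overSpec : Flat (QCoh.overSpec (KRR.pr n Y) hU) :=
  MorphismProperty.of_isPullback (P := @Flat) (QCoh.isPullback_overSpec (f := KRR.pr n Y) hU) (flat_pr (n := n))

include hsq hU hW hle in
theorem subsingleton_HH_pullback {G : (KRR.PY n Y).Modules} (hG : FlatMod.IsFinLocFree G) {q : ℕ}
    (hvan : ∀ p : ℕ, q < p → IsZero ((Coh.RpushAb (KRR.pr n Y) p).obj (Coh.toAb G))) (p : ℕ) (hp : q < p) :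
    Subsingleton (Coh.HH (UV n W).toScheme
      (((Scheme.Modules.pullback (KRR.projSpaceMap n φ)).obj G).restrict (UV n W).ι) p) := by
  letI : Algebra Γ(Y, U) Γ(Y₁, W) := (φ.appLE U W hle).hom.toAlgebra
  letI : (UV n U).toScheme.Over (Spec (CommRingCat.of Γ(Y, U))) := ⟨QCoh.overSpec (KRR.pr n Y) hU⟩
  letI : (UV n W).toScheme.Over (Spec (CommRingCat.of Γ(Y₁, W))) := ⟨QCoh.overSpec (KRR.pr n Y₁) hW⟩
  haveI := isProper_pr (n := n) (T := Y)
  haveI : IsProper ((UV n U).toScheme ↘ Spec (CommRingCat.of Γ(Y, U))) :=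
    inferInstanceAs (IsProper ((KRR.pr n Y ∣_ U) ≫ hU.isoSpec.hom))
  haveI : CompactSpace (UV n U).toScheme := AmpleVan.compactSpace_of_proper (A := Γ(Y, U))
  haveI := AmpleVan.isSeparated_of_proper (X := (UV n U).toScheme) (A := Γ(Y, U))
  haveI : Flat (QCoh.overSpec (KRR.pr n Y) hU) := flat_overSpec hU
  let GU := (Scheme.Modules.pullback (UV n U).ι).obj G
  have hGU : FlatMod.IsFinLocFree GU := KFlatLib.isFinLocFree_pullback _ hG
  have hv : ∀ p : ℕ, q < p → Subsingleton (Coh.HH (UV n U).toScheme GU p) := fun p hp => by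
    obtain ⟨k, rfl⟩ : ∃ k, p = k + 1 := ⟨p - 1, by omega⟩
    exact QCoh.subsingleton_HH_of_iso ((Scheme.Modules.restrictFunctorIsoPullback (UV n U).ι).app G) _
      ((isZero_RpushAb_iff G (QCoh.isQCoh_of_isFinLocFree hG) k).1 (hvan _ hp) ⟨U, hU⟩)
  have h := subsingleton_HH_baseChange (A := Γ(Y, U)) (B := Γ(Y₁, W)) (φ := ΨW φ hsq hle)
    (isPullback_ΨW φ hsq hU hW hle) (QCoh.isQCoh_of_isFinLocFree hGU)
    (isFlatOver_of_flat (QCoh.overSpec (KRR.pr n Y) hU) hGU) hv p hp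
  exact QCoh.subsingleton_HH_of_iso (restrictIso hsq hle G ≪≫
    ((Scheme.Modules.restrictFunctorIsoPullback (UV n W).ι).app _).symm) p h

variable (φ)

include hsq in
theorem exists_affine_le (y : Y₁) :
    ∃ p : {p : Y.affineOpens × Y₁.affineOpens // p.2.1 ≤ φ ⁻¹ᵁ p.1.1}, y ∈ p.1.2.1 := by
  obtain ⟨_, ⟨U, hU, rfl⟩, hyU, -⟩ :=
    Y.isBasis_affineOpens.exists_subset_of_mem_open (Set.mem_univ (φ y)) isOpen_univ
  obtain ⟨_, ⟨W, hW, rfl⟩, hyW, hWle⟩ := Y₁.isBasis_affineOpens.exists_subset_of_mem_open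
    (show y ∈ φ ⁻¹ᵁ U from hyU) (φ ⁻¹ᵁ U).isOpen
  exact ⟨⟨(⟨U, hU⟩, ⟨W, hW⟩), hWle⟩, hyW⟩

include hsq in
/-- Regularity survives base change. -/
theorem isRegSheaf_pullback_projSpaceMap {F : (KRR.PY n Y).Modules} (hF : FlatMod.IsFinLocFree F)
    (hreg : KRR.IsRegSheaf n Y F) :
    KRR.IsRegSheaf n Y₁ ((Scheme.Modules.pullback (KRR.projSpaceMap n φ)).obj F) := by
  intro q hq
  obtain ⟨k, rfl⟩ := Nat.exists_eq_add_of_le' hq
  let G := KRR.twF n Y (-((k + 1 : ℕ) : ℤ)) F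
  have hO : FlatMod.IsFinLocFree (O (gfst n Y) (-((k + 1 : ℕ) : ℤ))) :=
    H23.PullPush.isFinLocFree_of_isInvertible
      (PicClLib.isInvertible_pullback _ (TwistFlat.isInvertible_twistProjSpace n _))
  have hG : FlatMod.IsFinLocFree G := KFlatLib.isFinLocFree_tensor hO hF
  refine isZero_RpushAb_of_iso (twF_pullback_iso φ F _).some.symm _ ?_
  haveI := isProper_pr (n := n) (T := Y₁)
  refine CohBasic.isZero_RpushAb_of_HH (KRR.pr n Y₁)
    (QCoh.isQCoh_pullback _ (QCoh.isQCoh_of_isFinLocFree hG)) k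
    (fun p : {p : Y.affineOpens × Y₁.affineOpens // p.2.1 ≤ φ ⁻¹ᵁ p.1.1} => p.1.2.1) (fun p => p.1.2.2)
    (exists_affine_le φ hsq) fun p => ?_
  exact subsingleton_HH_pullback hsq p.1.1.2 p.1.2.2 p.2 hG (q := k)
    (fun i hi => isZero_RpushAb_twF (QCoh.isQCoh_of_isFinLocFree hF) hreg _ i (by omega) (by omega)) (k + 1)
    (Nat.lt_succ_self k)

/-- The base change map on sections. -/
theorem bcMap_pullSec (F : (KRR.PY n Y).Modules) (hle : W ≤ φ ⁻¹ᵁ U) (m : Γ(F, UV n U)) :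
    (KRR.bcMap n φ hsq F).app W
        (QCoh.pullSec φ ((Scheme.Modules.pushforward (KRR.pr n Y)).obj F) hle m) =
      (show Γ((Scheme.Modules.pushforward (KRR.pr n Y₁)).obj
          ((Scheme.Modules.pullback (KRR.projSpaceMap n φ)).obj F), W) from
        QCoh.pullSec (KRR.projSpaceMap n φ) F (le_preimage_UV φ hsq hle) m) := by
  let p := KRR.pr n Y
  let p₁ := KRR.pr n Y₁
  let ψ := KRR.projSpaceMap n φ
  let N := (Scheme.Modules.pushforward p).obj F
  let adj := Scheme.Modules.pullbackPushforwardAdjunction p₁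
  let γ := (Scheme.Modules.pullbackComp p₁ φ).hom.app N ≫ (Scheme.Modules.pullbackCongr hsq.symm).hom.app N ≫
    (Scheme.Modules.pullbackComp ψ p).inv.app N ≫
      (Scheme.Modules.pullback ψ).map ((Scheme.Modules.pullbackPushforwardAdjunction p).counit.app F)
  let x := QCoh.pullSec φ N hle m
  have h1 : (KRR.bcMap n φ hsq F).app W x =
      γ.app (p₁ ⁻¹ᵁ W) (QCoh.pullSec p₁ _ (le_rfl : p₁ ⁻¹ᵁ W ≤ p₁ ⁻¹ᵁ W) x) := by
    refine (congr(Scheme.Modules.Hom.app $(adj.homEquiv_unit _ _ γ) W x)).trans ?_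
    refine congrArg (γ.app (p₁ ⁻¹ᵁ W)) (QCoh.map_id' (M := (Scheme.Modules.pullback p₁).obj _) _ _).symm
  refine h1.trans ?_
  have hw : p₁ ⁻¹ᵁ W ≤ p₁ ⁻¹ᵁ (φ ⁻¹ᵁ U) := p₁.preimage_mono hle
  show ((Scheme.Modules.pullback ψ).map _).app _ (((Scheme.Modules.pullbackComp ψ p).inv.app N).app _
    (((Scheme.Modules.pullbackCongr hsq.symm).hom.app N).app _
      (((Scheme.Modules.pullbackComp p₁ φ).hom.app N).app _ (QCoh.pullSec p₁ _ le_rfl x)))) = _
  rw [ExistEasy.pullSec_comp p₁ φ N hle le_rfl m, ExistEasy.pullSec_congr hsq.symm N]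
  have h2 := ExistEasy.pullSec_comp ψ p N (le_rfl : p ⁻¹ᵁ U ≤ p ⁻¹ᵁ U) (le_preimage_UV φ hsq hle) m
  rw [← h2]
  refine (congrArg (((Scheme.Modules.pullback ψ).map _).app _)
    (congrArg (fun φ => Scheme.Modules.Hom.app φ (p₁ ⁻¹ᵁ W) _)
      ((Scheme.Modules.pullbackComp ψ p).hom_inv_id_app N))).trans ?_
  refine (ExistEasy.pullSec_natural ψ _ (le_preimage_UV φ hsq hle) _).trans ?_
  congr 1
  refine (congrArg (((Scheme.Modules.pullbackPushforwardAdjunction p).counit.app F).app (UV n U))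
    (QCoh.map_id' (M := (Scheme.Modules.pullback p).obj N) _ _)).trans ?_
  exact congr(($((Scheme.Modules.pullbackPushforwardAdjunction p).right_triangle_components F)).app U m)

include hsq hU hW hle in
theorem bijective_bcMap_app {F : (KRR.PY n Y).Modules} (hF : FlatMod.IsFinLocFree F)
    (hreg : KRR.IsRegSheaf n Y F) : Function.Bijective ((KRR.bcMap n φ hsq F).app W) := by
  let A := Γ(Y, U)
  let B := Γ(Y₁, W)
  letI : Algebra A B := (φ.appLE U W hle).hom.toAlgebra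
  letI : (UV n U).toScheme.Over (Spec (CommRingCat.of A)) := ⟨QCoh.overSpec (KRR.pr n Y) hU⟩
  letI : (UV n W).toScheme.Over (Spec (CommRingCat.of B)) := ⟨QCoh.overSpec (KRR.pr n Y₁) hW⟩
  haveI := isProper_pr (n := n) (T := Y)
  haveI := isProper_pr (n := n) (T := Y₁)
  haveI : IsProper ((UV n U).toScheme ↘ Spec (CommRingCat.of A)) :=
    inferInstanceAs (IsProper ((KRR.pr n Y ∣_ U) ≫ hU.isoSpec.hom))
  haveI : CompactSpace (UV n U).toScheme := AmpleVan.compactSpace_of_proper (A := A)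
  haveI := AmpleVan.isSeparated_of_proper (X := (UV n U).toScheme) (A := A)
  haveI : Flat (QCoh.overSpec (KRR.pr n Y) hU) := flat_overSpec hU
  have hq := QCoh.isQCoh_of_isFinLocFree hF
  let F₁ := (Scheme.Modules.pullback (KRR.projSpaceMap n φ)).obj F
  let GU := (Scheme.Modules.pullback (UV n U).ι).obj F
  have hGU : FlatMod.IsFinLocFree GU := KFlatLib.isFinLocFree_pullback _ hF
  let Ψ := ΨW φ hsq hle
  let G' := (Scheme.Modules.pullback Ψ).obj GU
  have hv : ∀ p : ℕ, 1 ≤ p → Subsingleton (Coh.HH (UV n U).toScheme GU p) := fun p hp => by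
    obtain ⟨k, rfl⟩ : ∃ k, p = k + 1 := ⟨p - 1, by omega⟩
    exact QCoh.subsingleton_HH_of_iso ((Scheme.Modules.restrictFunctorIsoPullback (UV n U).ι).app F) _
      ((isZero_RpushAb_iff F hq k).1 (isZero_RpushAb_of_reg hq hreg _ (by omega)) ⟨U, hU⟩)
  have hb := isBaseChange_sections (A := A) (B := B) (φ := Ψ) (isPullback_ΨW φ hsq hU hW hle)
    (QCoh.isQCoh_of_isFinLocFree hGU) (isFlatOver_of_flat (QCoh.overSpec (KRR.pr n Y) hU) hGU) hv
  let ρ := Coh.toGlobal (QCoh.overSpec (KRR.pr n Y) hU)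
  let ρ₁ := Coh.toGlobal (QCoh.overSpec (KRR.pr n Y₁) hW)
  letI := QCoh.secModule ρ GU ⊤
  letI := QCoh.secModule ρ₁ G' ⊤
  letI := QCoh.secModule (ρ₁.comp (algebraMap A B)) G' ⊤
  haveI : IsScalarTower A B Γ(G', ⊤) := .of_algebraMap_smul fun _ _ => rfl
  let N := (Scheme.Modules.pushforward (KRR.pr n Y)).obj F
  let N' := (Scheme.Modules.pullback φ).obj N
  let N₁ := (Scheme.Modules.pushforward (KRR.pr n Y₁)).obj F₁
  letI : Module A Γ(N', W) := Module.compHom _ (φ.appLE U W hle).hom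
  haveI : IsScalarTower A B Γ(N', W) := .of_algebraMap_smul fun _ _ => rfl
  let l₁ : Γ(N, U) →ₗ[A] Γ(N', W) :=
    { toFun := QCoh.pullSec φ N hle
      map_add' := QCoh.pullSec_add φ N hle
      map_smul' := fun r x => QCoh.pullSec_smul φ N hle r x }
  have hb₁ : IsBaseChange B l₁ :=
    QCoh.isBaseChange_pullback hU φ hW (QCoh.isQCoh_pushforward _ hq) hle (fun _ => rfl) l₁ fun _ => rfl
  let θ₀ : Γ(N, U) →ₗ[A] Γ(GU, ⊤) :=
    { toFun := QCoh.pullSec (UV n U).ι F (UV n U).ι_preimage_self.ge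
      map_add' := QCoh.pullSec_add (UV n U).ι F _
      map_smul' := fun a x => by
        refine (QCoh.pullSec_smul (UV n U).ι F _ ((KRR.pr n Y).app U a) x).trans ?_
        refine congrArg (· • _) ?_
        refine (toGlobal_overSpec (KRR.pr n Y) hU a).symm.trans ?_
        exact (QCoh.ringMap_id _ _).symm }
  let e := restrictIso hsq hle F
  let θ₁ : Γ(N₁, W) →ₗ[B] Γ(G', ⊤) :=
    { toFun := fun z => e.inv.app ⊤ (QCoh.pullSec (UV n W).ι F₁ (UV n W).ι_preimage_self.ge z)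
      map_add' := fun a b => (congrArg (e.inv.app ⊤) (QCoh.pullSec_add (UV n W).ι F₁ _ a b)).trans
        (map_add (e.inv.app ⊤).hom _ _)
      map_smul' := fun b x => by
        refine (congrArg (e.inv.app ⊤) (QCoh.pullSec_smul (UV n W).ι F₁ _ ((KRR.pr n Y₁).app W b) x)).trans ?_
        refine (Scheme.Modules.Hom.app_smul e.inv _ _).trans ?_
        refine congrArg (· • _) ?_
        refine (toGlobal_overSpec (KRR.pr n Y₁) hW b).symm.trans ?_
        exact (QCoh.ringMap_id _ _).symm }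
  have hθ₀ : Function.Bijective θ₀ := bijective_pullSec_ι (UV n U) F
  have hθ₁ : Function.Bijective θ₁ :=
    (ConcreteCategory.bijective_of_isIso (e.inv.app ⊤)).comp (bijective_pullSec_ι (UV n W) F₁)
  let β : Γ(N', W) →ₗ[B] Γ(N₁, W) :=
    { toFun := (KRR.bcMap n φ hsq F).app W
      map_add' := fun a b => map_add ((KRR.bcMap n φ hsq F).app W).hom a b
      map_smul' := fun r x => Scheme.Modules.Hom.app_smul (KRR.bcMap n φ hsq F) r x }
  let E : Γ(N', W) ≃ₗ[B] Γ(G', ⊤) :=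
    hb₁.equiv.symm.trans ((LinearEquiv.baseChange A B _ _ (LinearEquiv.ofBijective θ₀ hθ₀)).trans hb.equiv)
  have hψ : θ₁ ∘ₗ β = E.toLinearMap := hb₁.algHom_ext _ _ fun m => by
    show θ₁ (β (l₁ m)) = hb.equiv (LinearEquiv.baseChange A B _ _ (LinearEquiv.ofBijective θ₀ hθ₀)
      (hb₁.equiv.symm (l₁ m)))
    rw [hb₁.equiv_symm_apply, LinearEquiv.baseChange_tmul, IsBaseChange.equiv_tmul, one_smul]
    show e.inv.app ⊤ (QCoh.pullSec (UV n W).ι F₁ _ ((KRR.bcMap n φ hsq F).app W (QCoh.pullSec φ N hle m))) = _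
    rw [bcMap_pullSec φ hsq F hle m]
    refine (congrArg (e.inv.app ⊤) (restrictIso_pullSec hsq hle F m).symm).trans ?_
    refine (congrArg (fun φ => Scheme.Modules.Hom.app φ (⊤ : (UV n W).toScheme.Opens) _) e.hom_inv_id).trans ?_
    rfl
  have h2 : Function.Bijective (θ₁ ∘ β) := by
    rw [← LinearMap.coe_comp, hψ]; exact E.bijective
  exact (Function.Bijective.of_comp_iff' hθ₁ β).1 h2

include hsq in
/-- Base change for regular bundles. -/
theorem isIso_bcMap {F : (KRR.PY n Y).Modules} (hF : FlatMod.IsFinLocFree F)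
    (hreg : KRR.IsRegSheaf n Y F) : IsIso (KRR.bcMap n φ hsq F) := by
  refine QCoh.isIso_of_isBasis _
    (B := {W | IsAffineOpen W ∧ ∃ U : Y.Opens, IsAffineOpen U ∧ W ≤ φ ⁻¹ᵁ U}) ?_ ?_
  · refine TopologicalSpace.Opens.isBasis_iff_nbhd.2 fun {V} x hx => ?_
    obtain ⟨_, ⟨U, hU, rfl⟩, hxU, -⟩ :=
      Y.isBasis_affineOpens.exists_subset_of_mem_open (Set.mem_univ (φ x)) isOpen_univ
    obtain ⟨_, ⟨W, hW, rfl⟩, hxW, hWle⟩ := Y₁.isBasis_affineOpens.exists_subset_of_mem_open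
      (show x ∈ V ⊓ φ ⁻¹ᵁ U from ⟨hx, hxU⟩) (V ⊓ φ ⁻¹ᵁ U).isOpen
    exact ⟨W, ⟨hW, U, hU, fun y hy => (hWle hy).2⟩, hxW, fun y hy => (hWle hy).1⟩
  rintro W ⟨hW, U, hU, hle⟩
  exact bijective_bcMap_app φ hsq hU hW hle hF hreg

end Groth.Agent.KRRReg
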