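import Groth.Agent.Lib.ProjRegular
import Groth.Agent.AmpleX.Generated
import Groth.Agent.AmpleX.Extend
import Groth.Agent.AmpleX.Separated
import Groth.Agent.TwistFlat.Base
import Groth.Agent.AmpleVan.Tw


/-!
# Mumford's lemma over a morphism to projective space
-/

set_option linter.style.haveILetI false
set_option linter.unusedSectionVars false
set_option backward.isDefEq.respectTransparency false
set_option backward.isDefEq.respectTransparency.types false
set_option maxHeartbeats 1000000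
set_option autoImplicit false

universe u

open CategoryTheory CategoryTheory.Limits AlgebraicGeometry TopologicalSpace Opposite MonoidalCategory
open Groth.Agent.KFlatLib Groth.Agent.H23.PicMul

noncomputable section

namespace Groth.Agent.KRRReg

open Groth.Agent

abbrev Zu : Type u := ULift.{u} ℤ

variable {n : ℕ}

abbrev Pz (n : ℕ) : Scheme.{u} := CohB1.ProjSpace n Zu.{u}

def coord (n : ℕ) : ULift.{u} (Fin (n + 1)) → MvPolynomial (Fin (n + 1)) Zu.{u} :=
  fun j => MvPolynomial.X j.down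

theorem coord_mem (j : ULift.{u} (Fin (n + 1))) : coord n j ∈ CohB1.polyGrading n Zu.{u} 1 :=
  MvPolynomial.isHomogeneous_X _ j.down

theorem coord_cover : ⨆ j, PnCoh.Finite.D (CohB1.polyGrading n Zu.{u}) (coord.{u} n j) = ⊤ := by
  refine top_le_iff.1 ?_
  refine le_trans (PnCoh.iSup_mOpen_single (ι := Fin (n + 1)) (R := Zu.{u})).ge ?_
  exact iSup_le fun j => le_iSup_of_le (ULift.up j) le_rfl

variable {X : Scheme.{u}} (g : X ⟶ Pz n)

/-- `g^* O(d)`. -/
abbrev O (d : ℤ) : X.Modules := (Scheme.Modules.pullback g).obj (Twist.twistProjSpace n Zu.{u} d)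

abbrev xO (j : ULift.{u} (Fin (n + 1))) (d : ℤ) : O g (d - 1) ⟶ O g d :=
  (Scheme.Modules.pullback g).map (ProjShift.xHom (coord_mem j) d)

variable (G : X.Modules)

/-- `G ⊗ g^* O(d)`. -/
abbrev tw (d : ℤ) : X.Modules := CohB1.tensorMod G (O g d)

abbrev mulX (j : ULift.{u} (Fin (n + 1))) (d : ℤ) : tw g G (d - 1) ⟶ tw g G d :=
  (DCoh.tensorBi.obj G).map (xO g j d)

theorem mulX_comm (i j : ULift.{u} (Fin (n + 1))) (d : ℤ) :
    mulX g G i (d - 1) ≫ mulX g G j d = mulX g G j (d - 1) ≫ mulX g G i d := by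
  rw [← Functor.map_comp, ← Functor.map_comp, ← Functor.map_comp, ← Functor.map_comp,
    ProjShift.xHom_comm (coord_mem i) (coord_mem j) d]

theorem covered (y : X) :
    ∃ j ∈ (Finset.univ : Finset (ULift.{u} (Fin (n + 1)))).toList,
      ∀ d, Function.Bijective ((stalkAb y).map (mulX g G j d)) := by
  obtain ⟨j, hj⟩ := Opens.mem_iSup.1 ((coord_cover (n := n)).ge (trivial : g.base y ∈ (⊤ : (Pz n).Opens)))
  refine ⟨j, Finset.mem_toList.2 (Finset.mem_univ j), fun d => ?_⟩
  haveI : IsIso ((stalkP (g.base y)).map (DCoh.toP.map (ProjShift.xHom (coord_mem j) d))) :=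
    (ConcreteCategory.isIso_iff_bijective _).2 (ProjShift.bijective_stalk (coord_mem j) hj d)
  haveI : IsIso ((DerSch.stalkFunctor (Pz n) (g.base y)).map (ProjShift.xHom (coord_mem j) d)) :=
    (NatIso.isIso_map_iff (stalkToPIso (g.base y)) _).2 this
  haveI : IsIso ((DerSch.stalkFunctor X y).map (xO g j d)) :=
    (NatIso.isIso_map_iff (stalkPullbackIso g y) (ProjShift.xHom (coord_mem j) d)).2
      (Functor.map_isIso (ModuleCat.extendScalars (g.stalkMap y).hom)
        ((DerSch.stalkFunctor (Pz n) (g.base y)).map (ProjShift.xHom (coord_mem j) d)))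
  haveI : IsIso ((DCoh.tensorBi.obj G ⋙ DerSch.stalkFunctor X y).map (xO g j d)) :=
    (NatIso.isIso_map_iff (stalkTensorLeftIso G y) (xO g j d)).2
      (Functor.map_isIso (tensorLeft _) ((DerSch.stalkFunctor X y).map (xO g j d)))
  exact (ConcreteCategory.isIso_iff_bijective _).1
    (Functor.map_isIso (forget₂ (ModuleCat (X.presheaf.stalk y)) AddCommGrpCat)
      ((DCoh.tensorBi.obj G ⋙ DerSch.stalkFunctor X y).map (xO g j d)))

/-- Regularity in degree zero. -/
def Reg : Prop := ∀ q : ℕ, 1 ≤ q → Subsingleton (Coh.HH X (tw g G (-(q : ℤ))) q)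

variable {g G}

/-- Regularity propagates. -/
theorem reg_add (hR : Reg g G) :
    ∀ (e : ℕ) (q : ℕ), 1 ≤ q → Subsingleton (Coh.HH X (tw g G ((e : ℤ) - q)) q) := by
  intro e
  induction e with
  | zero => intro q hq; simpa using hR q hq
  | succ e ih =>
    intro i hi
    refine KoszulChop.subsingleton_HH_zero (tw g G) (mulX g G) (mulX_comm g G) _ (covered g G) _ i fun p => ?_
    refine KoszulChop.subsingleton_HH_obj (tw g G) _ _ _ _ ?_
    have h := ih (i + p) (by omega)
    rwa [show ((e + 1 : ℕ) : ℤ) - (i : ℤ) - ((p + 1 : ℕ) : ℤ) = (e : ℤ) - ((i + p : ℕ) : ℤ) by omega]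

theorem reg_of_nonneg (hR : Reg g G) (e : ℤ) (q : ℕ) (hq : 1 ≤ q) (he : -(q : ℤ) ≤ e) :
    Subsingleton (Coh.HH X (tw g G e) q) := by
  have h := reg_add hR (e + q).toNat q hq
  rwa [show (((e + q).toNat : ℕ) : ℤ) - q = e by omega] at h

theorem cl_O_pow (g : X ⟶ Pz n) (m : ℕ) :
    PicF.cl (O g (m : ℤ)) = PicF.cl (O g 1) ^ m := by
  show PicF.pullCl g (PicF.cl (Twist.twistProjSpace n Zu.{u} (m : ℤ))) =
    PicF.pullCl g (PicF.cl (Twist.twistProjSpace n Zu.{u} 1)) ^ m
  rw [← pullCl_pow, ← cl_tensorPow]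
  exact congrArg (PicF.pullCl g) (cl_eq_iff.2 (PnCoh.Finite.twist_tensorPow_iso (𝒜 := CohB1.polyGrading n Zu.{u})
    (g := coord.{u} n) coord_mem coord_cover m))

theorem cl_O_add (g : X ⟶ Pz n) (a b : ℤ) :
    PicF.cl (O g (a + b)) = PicF.cl (O g a) * PicF.cl (O g b) := by
  show PicF.pullCl g (PicF.cl (Twist.twistProjSpace n Zu.{u} (a + b))) =
    PicF.pullCl g (PicF.cl (Twist.twistProjSpace n Zu.{u} a)) * PicF.pullCl g (PicF.cl (Twist.twistProjSpace n Zu.{u} b))
  rw [← pullCl_mul]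
  refine congrArg (PicF.pullCl g) ?_
  rw [← cl_tensor]
  exact (cl_eq_iff.2 (PnCoh.Finite.twist_tensor_iso (𝒜 := CohB1.polyGrading n Zu.{u}) (coord.{u} n) coord_mem coord_cover a b)).symm

theorem cl_O_zero (g : X ⟶ Pz n) : PicF.cl (O g 0) = 1 := by
  simpa using cl_O_pow g 0

theorem iso_O_zero (g : X ⟶ Pz n) : Nonempty (Coh.structureModule X ≅ O g 0) :=
  cl_eq_iff.1 (cl_O_zero g).symm

section Generated

theorem app_tmul_left {M M' N : X.Modules} (χ : M ⟶ M') {U : X.Opens} (t : Γ(M, U)) (s : Γ(N, U)) :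
    ((DCoh.tensorBi.map χ).app N).app U (InvX.tmul t s) = InvX.tmul (χ.app U t) s :=
  (congrArg (fun ψ : DCoh.toP.obj M ⊗ DCoh.toP.obj N ⟶ DCoh.toP.obj ((DCoh.tensorBi.obj M').obj N) =>
    ψ.app (op U) (tm t s)) (unitShP_naturality (DCoh.toP.map χ ▷ DCoh.toP.obj N))).symm

/-- Tensoring with a frame is injective. -/
theorem eq_zero_of_tmul_frame {M N : X.Modules} {U : X.Opens} (a : Γ(M, U)) {e : Γ(N, U)}
    (he : InvX.IsFrame e) (h : InvX.tmul a e = 0) : a = 0 := by
  refine TopCat.Presheaf.section_ext ⟨M.presheaf, M.isSheaf⟩ _ _ _ fun x hx => ?_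
  let P := CohB1.toPMod M
  let Q := CohB1.toPMod N
  haveI hi := isIso_stalk_unitShP (x := x) (P ⊗ Q)
  let u : stalkMod x (P ⊗ Q) →ₗ[X.presheaf.stalk x] stalkMod x (DCoh.toP.obj (DCoh.shP.obj (P ⊗ Q))) :=
    ((stalkP x).map (unitShP (P ⊗ Q))).hom
  let ψ := u ∘ₗ (tensorStalkEquiv P Q).toLinearMap
  have hψ : Function.Injective ψ :=
    (ConcreteCategory.bijective_of_isIso ((stalkP x).map (unitShP (P ⊗ Q)))).1.comp
      (tensorStalkEquiv P Q).injective
  have key : ψ (germP P U hx a ⊗ₜ germP Q U hx e) =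
      (CohB1.tensorMod M N).presheaf.germ U x hx (InvX.tmul a e) :=
    (congrArg u (ofTensor_germ U hx _ _)).trans (stalkModMap_germ _ U hx _)
  rw [h, map_zero] at key
  have h0 : germP P U hx a ⊗ₜ[X.presheaf.stalk x] germP Q U hx e = 0 := hψ (key.trans (map_zero ψ).symm)
  let l : X.presheaf.stalk x ≃ₗ[X.presheaf.stalk x] stalkMod x Q :=
    LinearEquiv.ofBijective (LinearMap.toSpanSingleton _ _ (germP Q U hx e)) (he.germ_bijective hx)
  have hl : l.symm (germP Q U hx e) = 1 :=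
    (LinearEquiv.symm_apply_eq _).2 (by simp [l])
  have h1 := congrArg (fun z => (TensorProduct.rid _ _) (LinearMap.lTensor _ l.symm.toLinearMap z)) h0
  simp only [LinearMap.lTensor_tmul, map_zero, TensorProduct.rid_tmul, LinearEquiv.coe_coe, hl, one_smul] at h1
  exact h1.trans (map_zero (M.presheaf.germ U x hx).hom).symm

theorem twist_killed (hR : Reg g G) {Z : X.Modules} (χ : G ⟶ Z) (hχ : ∀ t : Γ(G, ⊤), χ.app ⊤ t = 0) :
    ∀ (e : ℕ) (d : ℤ), d = e → ∀ t : Γ(tw g G d, ⊤), ((DCoh.tensorBi.map χ).app (O g d)).app ⊤ t = 0 := by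
  intro e
  induction e with
  | zero =>
    rintro d rfl t
    obtain ⟨ε⟩ := iso_O_zero g
    let θ : G ≅ tw g G 0 := (AmpleVan.twUnit.app G).symm ≪≫ (DCoh.tensorBi.obj G).mapIso ε
    obtain ⟨s, hs⟩ := (ConcreteCategory.bijective_of_isIso (θ.hom.app ⊤)).2 t
    have hnat : θ.hom ≫ (DCoh.tensorBi.map χ).app (O g 0) =
        χ ≫ ((AmpleVan.twUnit.app Z).symm ≪≫ (DCoh.tensorBi.obj Z).mapIso ε).hom := by
      simp only [θ, Iso.trans_hom, Iso.symm_hom, Functor.mapIso_hom, Category.assoc]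
      rw [(DCoh.tensorBi.map χ).naturality, ← Category.assoc, ← Category.assoc]
      refine congrArg (· ≫ _) ?_
      exact (AmpleVan.twUnit.inv.naturality χ).symm
    have h := congr(($hnat).app ⊤ s)
    rw [Scheme.Modules.Hom.comp_app, Scheme.Modules.Hom.comp_app, ConcreteCategory.comp_apply,
      ConcreteCategory.comp_apply, hχ, map_zero] at h
    rw [← hs]
    exact h
  | succ e ih =>
    intro d hd
    have hprev := ih (d - 1) (by omega)
    let S : AddSubgroup Γ(tw g G d, ⊤) := (((DCoh.tensorBi.map χ).app (O g d)).app ⊤).hom.ker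
    have hx : ∀ (j : ULift.{u} (Fin (n + 1))) (t : Γ(tw g G (d - 1), ⊤)), (mulX g G j d).app ⊤ t ∈ S := fun j t => by
      have h := congr(($((DCoh.tensorBi.map χ).naturality (xO g j d))).app ⊤ t)
      rw [Scheme.Modules.Hom.comp_app, Scheme.Modules.Hom.comp_app, ConcreteCategory.comp_apply,
        ConcreteCategory.comp_apply, hprev t, map_zero] at h
      exact h
    intro z
    let l := (Finset.univ : Finset (ULift.{u} (Fin (n + 1)))).toList
    have hsurj := KoszulChop.surjective_dd_zero (tw g G) (mulX g G) (mulX_comm g G) l (covered g G) d (fun p => by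
      refine KoszulChop.subsingleton_HH_obj (tw g G) _ _ _ _ ?_
      exact reg_of_nonneg hR _ _ (by omega) (by omega))
    haveI := KoszulChop.isIso_e0 (tw g G) l d
    obtain ⟨z', hz'⟩ := (ConcreteCategory.bijective_of_isIso ((KoszulChop.e0 (tw g G) l d).app ⊤)).2 z
    obtain ⟨w, hw⟩ := hsurj z'
    rw [← hz', ← hw]
    exact KoszulChop.dd_zero_mem (tw g G) (mulX g G) (ProjRegular.secTop X) l d S (fun j _ t => hx j t) w

/-- Global sections of a regular quasi-coherent module detect morphisms. -/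
theorem eq_zero_of_app_top (hamp : CohB1.IsAmple (O g 1)) (hG : Coh.IsQCoh G) (hR : Reg g G)
    {Z : X.Modules} (χ : G ⟶ Z) (hχ : ∀ t : Γ(G, ⊤), χ.app ⊤ t = 0) : χ = 0 := by
  classical
  haveI : CompactSpace X := hamp.2.1
  haveI := AmpleX.isSeparated_of_isAmple hamp
  obtain ⟨a, ha, κ, _, σ, hσ, he, hcov⟩ := AmpleX.exists_cover_genLocus hamp
  choose e he using he
  have key : ∀ k (t : Γ(G, CohB1.genLocus _ (σ k))), χ.app _ t = 0 := fun k t => by
    let L := CohB1.tensorPow (O g 1) a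
    let U := CohB1.genLocus _ (σ k)
    obtain ⟨m, hm⟩ := AmpleX.exists_extend hG (InvX.isInvertible_tensorPow hamp.1 a) (σ k) t
    obtain ⟨T, hT⟩ := hm m le_rfl
    obtain ⟨ε⟩ : Nonempty (O g ((a * m : ℕ) : ℤ) ≅ CohB1.tensorPow L m) :=
      cl_eq_iff.1 (by rw [cl_O_pow, cl_tensorPow, cl_tensorPow, pow_mul])
    obtain ⟨s, hs⟩ := (ConcreteCategory.bijective_of_isIso (((DCoh.tensorBi.obj G).map ε.hom).app ⊤)).2 T
    have hkill : ((DCoh.tensorBi.map χ).app (CohB1.tensorPow L m)).app ⊤ T = 0 := by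
      have h := congr(($((DCoh.tensorBi.map χ).naturality ε.hom)).app ⊤ s)
      rw [Scheme.Modules.Hom.comp_app, Scheme.Modules.Hom.comp_app, ConcreteCategory.comp_apply,
        ConcreteCategory.comp_apply, twist_killed hR χ hχ _ _ rfl s, map_zero] at h
      rw [← hs]
      exact h
    have h2 := congrArg (((DCoh.tensorBi.map χ).app (CohB1.tensorPow L m)).app U) hT
    rw [app_tmul_left] at h2
    have h3 : ((DCoh.tensorBi.map χ).app (CohB1.tensorPow L m)).app U
        (AModX.res _ (le_top : U ≤ ⊤) T) = 0 := by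
      refine Eq.trans ?_ ((congrArg (AModX.res _ (le_top : U ≤ ⊤)) hkill).trans (map_zero _))
      exact congr($(((DCoh.tensorBi.map χ).app (CohB1.tensorPow L m)).mapPresheaf.naturality (homOfLE (le_top : U ≤ ⊤)).op) T)
    refine eq_zero_of_tmul_frame _ (AmpleX.isFrame_powElt (AmpleX.res_genLocus_frame (σ k)) m) (h2.symm.trans h3)
  refine Scheme.Modules.hom_ext _ _ fun V => ?_
  ext s
  refine TopCat.Presheaf.section_ext ⟨Z.presheaf, Z.isSheaf⟩ _ _ _ fun x hx => ?_
  obtain ⟨k, hk⟩ := hcov x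
  let U := CohB1.genLocus _ (σ k)
  let χx := (DerSch.stalkFunctor X x).map χ
  letI := QCoh.stalkAlg (X := X) (U := U) hk
  letI := QCoh.stalkModule G hk
  haveI := QCoh.isScalarTower_stalk G hk
  haveI := QCoh.isLocalization_stalk' (hσ k) hk
  haveI := QCoh.isLocalizedModule_germLin hG (hσ k) hk
  have h0 : ∀ z : G.presheaf.stalk x, χx z = 0 := fun z => by
    obtain ⟨⟨m, r⟩, hr⟩ := IsLocalizedModule.surj ((hσ k).primeIdealOf ⟨x, hk⟩).asIdeal.primeCompl (QCoh.germLin G hk) z
    have hu : IsUnit (algebraMap Γ(X, U) (X.presheaf.stalk x) r.1) :=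
      IsLocalization.map_units _ r
    have hz : χx (algebraMap Γ(X, U) (X.presheaf.stalk x) r.1 • z) = 0 := by
      rw [algebraMap_smul]
      refine (congrArg χx hr).trans ?_
      refine (DerSch.stalkFunctor_map_germ x χ U hk m).trans ?_
      rw [key k m]
      exact map_zero _
    rw [map_smul] at hz
    exact hu.smul_eq_zero.1 hz
  refine ((DerSch.stalkFunctor_map_germ x χ V hx s).symm.trans (h0 _)).trans ?_
  exact (map_zero (Z.presheaf.germ V x hx).hom).symm

end Generated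

end Groth.Agent.KRRReg
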