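import Groth.Prelude.Def_KRR
import Groth.Agent.KRRReg.Koszul
import Groth.Agent.CohBasic.RpushAbZero
import Groth.Agent.CohBasic.PnBC
import Groth.Agent.H23.ModLoc
import Groth.Agent.KFlatLib.Scheme.QCohTensor

/-!
# Relative regularity on `P^n_T`
-/

set_option linter.style.haveILetI false
set_option linter.unusedSectionVars false
set_option backward.isDefEq.respectTransparency false
set_option backward.isDefEq.respectTransparency.types false
set_option maxHeartbeats 1000000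
set_option autoImplicit false

universe u

open CategoryTheory CategoryTheory.Limits AlgebraicGeometry TopologicalSpace Opposite
open Groth.Agent.H23.PicMul

noncomputable section

namespace Groth.Agent.KRRReg

open Groth.Agent

variable {n : ℕ} {T : Scheme.{u}}

abbrev gfst (n : ℕ) (T : Scheme.{u}) : KRR.PY n T ⟶ Pz n :=
  pullback.fst (CohB1.ProjSpace.toSpec n Zu.{u}) (specULiftZIsTerminal.from T)

abbrev UV (n : ℕ) {T : Scheme.{u}} (V : T.Opens) : (KRR.PY n T).Opens := KRR.pr n T ⁻¹ᵁ V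

abbrev gV (n : ℕ) {T : Scheme.{u}} (V : T.Opens) : (UV n V).toScheme ⟶ Pz n := (UV n V).ι ≫ gfst n T

theorem isProper_pr : IsProper (KRR.pr n T) := TwistFlat.isProper_toBase n

theorem cl_twF (F : (KRR.PY n T).Modules) (d : ℤ) :
    PicF.cl (KRR.twF n T d F) = PicF.cl (O (gfst n T) d) * PicF.cl F := rfl

theorem cl_restrict {X : Scheme.{u}} (W : X.Opens) (G : X.Modules) :
    PicF.cl (G.restrict W.ι) = PicF.pullCl W.ι (PicF.cl G) :=
  cl_eq_iff.2 ⟨(Scheme.Modules.restrictFunctorIsoPullback W.ι).app G⟩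

theorem twF_restrict_iso (F : (KRR.PY n T).Modules) (V : T.Opens) (d : ℤ) :
    Nonempty ((KRR.twF n T d F).restrict (UV n V).ι ≅ tw (gV n V) (F.restrict (UV n V).ι) d) := by
  refine cl_eq_iff.1 ?_
  rw [cl_restrict, cl_twF, pullCl_mul, cl_tensor, cl_restrict, mul_comm]
  refine congrArg (PicF.pullCl (UV n V).ι (PicF.cl F) * ·) ?_
  show PicF.pullCl (UV n V).ι (PicF.pullCl (gfst n T) (PicF.cl (Twist.twistProjSpace n Zu.{u} d))) =
    PicF.pullCl (gV n V) (PicF.cl (Twist.twistProjSpace n Zu.{u} d))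
  exact PicClLib.pullCl_comp _ _ _

theorem isQCoh_O {X : Scheme.{u}} (g : X ⟶ Pz n) (d : ℤ) : Coh.IsQCoh (O g d) :=
  ProjUPX.isQCoh_of_isInvertible
    (PicClLib.isInvertible_pullback g (TwistFlat.isInvertible_twistProjSpace n d))

theorem isQCoh_twF {F : (KRR.PY n T).Modules} (hF : Coh.IsQCoh F) (d : ℤ) : Coh.IsQCoh (KRR.twF n T d F) :=
  KFlatLib.isQCoh_tensor (isQCoh_O (gfst n T) d) hF

theorem twF_twF (F : (KRR.PY n T).Modules) (a b : ℤ) :
    Nonempty (KRR.twF n T a (KRR.twF n T b F) ≅ KRR.twF n T (a + b) F) := by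
  refine cl_eq_iff.1 ?_
  rw [cl_twF, cl_twF, cl_twF, cl_O_add, mul_assoc]

theorem twF_zero (F : (KRR.PY n T).Modules) : Nonempty (KRR.twF n T 0 F ≅ F) := by
  refine cl_eq_iff.1 ?_
  rw [cl_twF, cl_O_zero, one_mul]

theorem isZero_RpushAb_iff (F : (KRR.PY n T).Modules) (hF : Coh.IsQCoh F) (q : ℕ) :
    IsZero ((Coh.RpushAb (KRR.pr n T) (q + 1)).obj (Coh.toAb F)) ↔
      ∀ V : T.affineOpens, Subsingleton (Coh.HH (UV n V.1).toScheme (F.restrict (UV n V.1).ι) (q + 1)) := by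
  haveI := isProper_pr (n := n) (T := T)
  let f := KRR.pr n T
  constructor
  · intro hz V
    obtain ⟨e⟩ := QCoh.nonempty_RpushAb_iso f F q
    have hq := QCoh.locRange_rpushModel f hF q
    have hm := hz.of_iso e.symm
    have hsec : ∀ z : Γ(QCoh.rpushModel f F q, V.1), z = 0 := fun z =>
      congr(($(hm.eq_of_src (𝟙 _) 0)).hom.app (op V.1) z)
    letI := QCoh.modHH (QCoh.rhoV f V.1) (F.restrict (f ⁻¹ᵁ V.1).ι) (q + 1)
    obtain ⟨θ, hθ, hker⟩ := QCoh.exists_theta f F V.1 (q + 1)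
    refine subsingleton_of_forall_eq 0 fun y => ?_
    obtain ⟨z, rfl⟩ := hθ y
    refine (hker z).2 ?_
    exact hq.mem_range V.2 z (hsec _)
  · intro h
    refine CohBasic.isZero_RpushAb_of_HH f hF q (fun V : T.affineOpens => V.1) (fun V => V.2) (fun y => ?_) h
    obtain ⟨_, ⟨V, hV, rfl⟩, hy, -⟩ := T.isBasis_affineOpens.exists_subset_of_mem_open (Set.mem_univ y) isOpen_univ
    exact ⟨⟨V, hV⟩, hy⟩

theorem isRegSheaf_iff {F : (KRR.PY n T).Modules} (hF : Coh.IsQCoh F) :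
    KRR.IsRegSheaf n T F ↔ ∀ V : T.affineOpens, Reg (gV n V.1) (F.restrict (UV n V.1).ι) := by
  constructor
  · intro h V q hq
    obtain ⟨p, rfl⟩ := Nat.exists_eq_add_of_le' hq
    exact QCoh.subsingleton_HH_of_iso (twF_restrict_iso F V.1 _).some _
      ((isZero_RpushAb_iff _ (isQCoh_twF hF _) p).1 (h (p + 1) hq) V)
  · intro h q hq
    obtain ⟨p, rfl⟩ := Nat.exists_eq_add_of_le' hq
    exact (isZero_RpushAb_iff _ (isQCoh_twF hF _) p).2 fun V =>
      QCoh.subsingleton_HH_of_iso (twF_restrict_iso F V.1 _).some.symm _ (h V (p + 1) hq)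

theorem isZero_RpushAb_twF {F : (KRR.PY n T).Modules} (hF : Coh.IsQCoh F) (hreg : KRR.IsRegSheaf n T F)
    (e : ℤ) (q : ℕ) (hq : 1 ≤ q) (he : -(q : ℤ) ≤ e) :
    IsZero ((Coh.RpushAb (KRR.pr n T) q).obj (Coh.toAb (KRR.twF n T e F))) := by
  obtain ⟨p, rfl⟩ := Nat.exists_eq_add_of_le' hq
  exact (isZero_RpushAb_iff _ (isQCoh_twF hF _) p).2 fun V =>
    QCoh.subsingleton_HH_of_iso (twF_restrict_iso F V.1 _).some.symm _
      (reg_of_nonneg ((isRegSheaf_iff hF).1 hreg V) e _ hq he)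

theorem isZero_RpushAb_of_iso {F F' : (KRR.PY n T).Modules} (ε : F ≅ F') (q : ℕ)
    (h : IsZero ((Coh.RpushAb (KRR.pr n T) q).obj (Coh.toAb F))) :
    IsZero ((Coh.RpushAb (KRR.pr n T) q).obj (Coh.toAb F')) :=
  h.of_iso ((Coh.RpushAb (KRR.pr n T) q).mapIso ((QCoh.toAbFunctor (KRR.PY n T)).mapIso ε)).symm

theorem isRegSheaf_twF {F : (KRR.PY n T).Modules} (hF : Coh.IsQCoh F) (hreg : KRR.IsRegSheaf n T F) (m : ℕ) :
    KRR.IsRegSheaf n T (KRR.twF n T (m : ℤ) F) := fun q hq =>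
  isZero_RpushAb_of_iso (twF_twF F _ _).some.symm q
    (isZero_RpushAb_twF hF hreg _ q hq (by omega))

theorem isZero_RpushAb_of_reg {F : (KRR.PY n T).Modules} (hF : Coh.IsQCoh F) (hreg : KRR.IsRegSheaf n T F)
    (q : ℕ) (hq : 1 ≤ q) : IsZero ((Coh.RpushAb (KRR.pr n T) q).obj (Coh.toAb F)) :=
  isZero_RpushAb_of_iso (twF_zero F).some q (isZero_RpushAb_twF hF hreg 0 q hq (by omega))

theorem isAmple_gV (V : T.affineOpens) : CohB1.IsAmple (O (gV n V.1) 1) := by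
  refine AmpleX.isAmple_of_iso (cl_eq_iff.1 ?_).some ((TwistFlat.isRelAmple_twistOver n (Y := T)).2 V)
  rw [cl_restrict]
  show PicF.pullCl (UV n V.1).ι (PicF.pullCl (gfst n T) (PicF.cl (Twist.twistProjSpace n Zu.{u} 1))) =
    PicF.pullCl (gV n V.1) (PicF.cl (Twist.twistProjSpace n Zu.{u} 1))
  exact PicClLib.pullCl_comp _ _ _

theorem push_map_eq {X Y : Scheme.{u}} (f : X ⟶ Y) (G Z : X.Modules) (φ ψ : G ⟶ Z)
    (h : (Scheme.Modules.pullbackPushforwardAdjunction f).counit.app G ≫ φ =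
      (Scheme.Modules.pullbackPushforwardAdjunction f).counit.app G ≫ ψ) :
    (Scheme.Modules.pushforward f).map φ = (Scheme.Modules.pushforward f).map ψ := by
  let adj := Scheme.Modules.pullbackPushforwardAdjunction f
  have hpush : ∀ χ : G ⟶ Z, adj.unit.app _ ≫ (Scheme.Modules.pushforward f).map (adj.counit.app G ≫ χ) =
      (Scheme.Modules.pushforward f).map χ := fun χ => by
    rw [(Scheme.Modules.pushforward f).map_comp]
    exact adj.right_triangle_components_assoc G _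
  rw [← hpush φ, ← hpush ψ]
  exact congrArg (fun χ => adj.unit.app _ ≫ (Scheme.Modules.pushforward f).map χ) h

theorem epi_counit {F : (KRR.PY n T).Modules} (hF : Coh.IsQCoh F) (hreg : KRR.IsRegSheaf n T F) :
    Epi ((Scheme.Modules.pullbackPushforwardAdjunction (KRR.pr n T)).counit.app F) := by
  refine ⟨fun {Z} φ ψ h => ?_⟩
  have heq := push_map_eq _ _ _ φ ψ h
  refine H23.ModLoc.hom_ext_of_locally φ ψ fun x => ?_
  obtain ⟨_, ⟨V, hV, rfl⟩, hy, -⟩ :=
    T.isBasis_affineOpens.exists_subset_of_mem_open (Set.mem_univ (KRR.pr n T x)) isOpen_univ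
  refine ⟨UV n V, hy, ?_⟩
  let W := UV n V
  have hW : W.ι ''ᵁ (⊤ : W.toScheme.Opens) = W := by simp
  have key : ∀ t, φ.app (W.ι ''ᵁ ⊤) t = ψ.app (W.ι ''ᵁ ⊤) t := by
    rw [hW]
    exact fun t => congr(($heq).app V t)
  refine sub_eq_zero.1 (eq_zero_of_app_top (g := gV n V) (isAmple_gV ⟨V, hV⟩) (QCoh.isQCoh_restrict W.ι hF)
    ((isRegSheaf_iff hF).1 hreg ⟨V, hV⟩) _ fun t => ?_)
  show φ.app (W.ι ''ᵁ ⊤) t - ψ.app (W.ι ''ᵁ ⊤) t = 0
  rw [key t, sub_self]

end Groth.Agent.KRRReg
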