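import Groth.Agent.KRRReg.KMaps
import Groth.Agent.AmpleX.Generated
import Groth.Agent.AmpleX.Separated
import Groth.Agent.AmpleVan.FinGen
import Groth.Agent.KFlatLib.Perfect.Tensor
import Groth.Agent.ConsPropLib.FibreLocFreeRank
import Groth.Agent.H23.DblAlg
import Groth.Agent.AssLib.Apply

/-!
# Ample line elements
-/

set_option linter.style.haveILetI false
set_option linter.unusedSectionVars false
set_option backward.isDefEq.respectTransparency false
set_option backward.isDefEq.respectTransparency.types false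
set_option autoImplicit false

universe u v

open CategoryTheory CategoryTheory.Limits AlgebraicGeometry TopologicalSpace Opposite
open Groth.Agent.H23.PicMul

noncomputable section

namespace Groth.Agent.KRRReg

open Groth.Agent

variable {X : Scheme.{u}}

theorem cl_freeMod : ∀ N : ℕ, KRR.cl X (FlatMod.freeMod X N) = N • KRR.cl X (Coh.structureModule X)
  | 0 => by rw [zero_nsmul]; exact KZ.clSub_isZero _ KFlatLib.isZero_freeMod_zero
  | N + 1 => by
    let O := fun m : ℕ => fun _ : Fin m => Coh.structureModule X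
    let f : FlatMod.freeMod X N ⟶ FlatMod.freeMod X (N + 1) := Sigma.desc fun i => H23.Frame.incl X (N + 1) i.castSucc
    let g : FlatMod.freeMod X (N + 1) ⟶ Coh.structureModule X := H23.Frame.proj X (N + 1) (Fin.last N)
    let r : FlatMod.freeMod X (N + 1) ⟶ FlatMod.freeMod X N :=
      Sigma.desc (Fin.lastCases (0 : Coh.structureModule X ⟶ FlatMod.freeMod X N) fun i => H23.Frame.incl X N i)
    have hfg : f ≫ g = 0 := by
      refine Sigma.hom_ext _ _ fun i => ?_
      simp only [f, g, Sigma.ι_desc_assoc, comp_zero, H23.Frame.incl_proj]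
      rw [if_neg (Fin.castSucc_lt_last i).ne]
    let sp : (ShortComplex.mk f g hfg).Splitting :=
      { r := r
        s := H23.Frame.incl X (N + 1) (Fin.last N)
        f_r := by
          refine Sigma.hom_ext _ _ fun i => ?_
          simp only [f, r, H23.Frame.incl, Sigma.ι_desc_assoc, Sigma.ι_desc, Fin.lastCases_castSucc]
          exact (Category.comp_id _).symm
        s_g := by simp [g, H23.Frame.incl_proj]
        id := by
          refine Sigma.hom_ext _ _ fun i => ?_
          simp only [f, g, r, Preadditive.comp_add, Sigma.ι_desc_assoc, Category.comp_id]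
          induction i using Fin.lastCases with
          | last => simp [H23.Frame.proj, H23.Frame.incl]
          | cast i => simp [H23.Frame.proj, H23.Frame.incl, (Fin.castSucc_lt_last i).ne] }
    rw [show KRR.cl X (FlatMod.freeMod X (N + 1)) = KZero.clSub (KRR.vbP X) (ShortComplex.mk f g hfg).X₂ from rfl,
      KZ.clSub_ses (KRR.vbP X) sp.shortExact (KFlatLib.isFinLocFree_freeMod N)
      (KFlatLib.isFinLocFree_freeMod (N + 1)) (isFinLocFree_structure X), succ_nsmul]
    exact congrArg (· + _) (cl_freeMod N)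

variable {K : Type v} [CommRing K] [LambdaRing.LambdaOps K] {P : LambdaRing.PosStructure K}
  {φ : SGA6.Kvb X →+ K}

theorem isFinLocFree_tensorPow {L : X.Modules} (hL : PicF.IsInvertible L) (n : ℕ) :
    FlatMod.IsFinLocFree (CohB1.tensorPow L n) :=
  H23.PullPush.isFinLocFree_of_isInvertible (InvX.isInvertible_tensorPow hL n)

theorem model_pow (hK : KRR.IsModel X K P φ) {L : X.Modules} (hL : PicF.IsInvertible L) :
    ∀ n : ℕ, φ (KRR.cl X (CohB1.tensorPow L n)) = φ (KRR.cl X L) ^ n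
  | 0 => by rw [pow_zero]; exact hK.map_one
  | n + 1 => by
    rw [pow_succ, ← model_pow hK hL n,
      hK.map_mul _ _ (isFinLocFree_tensorPow hL n) (H23.PullPush.isFinLocFree_of_isInvertible hL)]
    rfl

theorem isAmpleElt [IsNoetherian X] [ConnectedSpace X] (hK : KRR.IsModel X K P φ)
    {L : X.Modules} (hL : CohB1.IsAmple L) : KRR.IsAmpleElt P (φ (KRR.cl X L)) := by
  haveI : X.IsSeparated := AmpleX.isSeparated_of_isAmple hL
  obtain ⟨x₀⟩ := (inferInstance : Nonempty X)
  have hrank : ∀ G : X.Modules, FlatMod.IsFinLocFree G → FlatMod.IsFinLocFreeOfRank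
      (Module.finrank (X.presheaf.stalk x₀) (G.presheaf.stalk x₀)) G := fun G hG =>
    ConsPropLib.isFinLocFreeOfRank_iff.2
      ⟨hG, fun x => (QCoh.isLocallyConstant_rank hG).apply_eq_of_preconnectedSpace x x₀⟩
  have hLflf := H23.PullPush.isFinLocFree_of_isInvertible hL.1
  have hline : φ (KRR.cl X L) ∈ P.pos ∧ P.aug (φ (KRR.cl X L)) = 1 := by
    have h1 : FlatMod.IsFinLocFreeOfRank 1 L := by
      intro x
      obtain ⟨U, hx, ⟨e⟩⟩ := hL.1 x
      exact ⟨U, hx, ⟨e ≪≫ (H23.DblAlg.freeOneIso _).symm⟩⟩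
    exact ⟨(hK.mem_pos_iff _).2 ⟨1, L, le_rfl, h1, rfl⟩, by rw [hK.aug_cl 1 L h1, Nat.cast_one]⟩
  refine ⟨hline, fun x => ?_⟩
  obtain ⟨e₀, f₀, he₀, hf₀, rfl⟩ := P.exists_sub x
  obtain ⟨r, F, -, hFr, rfl⟩ := (hK.mem_pos_iff f₀).1 hf₀
  have hF : FlatMod.IsFinLocFree F := (ConsPropLib.isFinLocFreeOfRank_iff.1 hFr).1
  have hFc := isCoh_of_finLocFree hF
  obtain ⟨n₀, hn₀⟩ := AmpleX.eventually_generated hL hFc.1 hFc.2
  refine ⟨max n₀ 1, fun n hn => ?_⟩
  obtain ⟨G, iso, ι, s, hs⟩ := hn₀ n (le_trans (le_max_left _ _) hn)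
  have hT : FlatMod.IsFinLocFree (CohB1.tensorMod F (CohB1.tensorPow L n)) :=
    KFlatLib.isFinLocFree_tensor hF (isFinLocFree_tensorPow hL.1 n)
  have hG : FlatMod.IsFinLocFree G := isFinLocFree_iso iso.symm hT
  obtain ⟨N, j, hj⟩ := AmpleVan.exists_fin_generatedBy (isCoh_of_finLocFree hG) s hs
  obtain ⟨p, hp⟩ := InvX.exists_epi_freeMod hj
  let S := ShortComplex.mk (kernel.ι p) p (kernel.condition p)
  have hS : S.ShortExact :=
    ShortComplex.ShortExact.mk' (ShortComplex.exact_of_f_is_kernel _ (kernelIsKernel p)) inferInstance hp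
  have hN : FlatMod.IsFinLocFree (FlatMod.freeMod X N) := KFlatLib.isFinLocFree_freeMod N
  have hH : FlatMod.IsFinLocFree (kernel p) :=
    KZ.LFRes.pdlt_one_iff.1 (KZ.LFRes.PDLT.kernel_of hS (KZ.LFRes.pdlt_one_iff.2 hN)
      ((KZ.LFRes.pdlt_one_iff.2 hG).mono (Nat.le_succ _)))
  -- the kernel plus one free summand is positive
  let S₂ := (kernel p) ⊞ Coh.structureModule X
  have hsp := (ShortComplex.Splitting.ofHasBinaryBiproduct (kernel p) (Coh.structureModule X)).shortExact
  have hS₂ : FlatMod.IsFinLocFree S₂ :=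
    KZ.LFRes.pdlt_one_iff.1 (KZ.LFRes.PDLT.ext hsp (KZ.LFRes.pdlt_one_iff.2 hH)
      (KZ.LFRes.pdlt_one_iff.2 (isFinLocFree_structure X)))
  have hclS₂ : φ (KRR.cl X S₂) = φ (KRR.cl X (kernel p)) + 1 := by
    rw [← hK.map_one, ← map_add]
    exact congrArg φ (KZ.clSub_ses (KRR.vbP X) hsp hH hS₂ (isFinLocFree_structure X))
  have hpos₂ : φ (KRR.cl X S₂) ∈ P.pos := by
    refine (hK.mem_pos_iff _).2 ⟨_, S₂, ?_, hrank S₂ hS₂, rfl⟩
    haveI : Module.Free (X.presheaf.stalk x₀) (S₂.presheaf.stalk x₀) := QCoh.free_stalk_of_isFinLocFree hS₂ x₀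
    haveI : Module.Finite (X.presheaf.stalk x₀) (S₂.presheaf.stalk x₀) :=
      QCoh.finite_stalk_of_isFT (isCoh_of_finLocFree hS₂).1 (isCoh_of_finLocFree hS₂).2 x₀
    refine Nat.one_le_iff_ne_zero.2 fun h0 => ?_
    haveI hs0 : Subsingleton (S₂.presheaf.stalk x₀) :=
      (Module.finrank_eq_zero_iff_of_free (X.presheaf.stalk x₀) (S₂.presheaf.stalk x₀)).1 h0
    have hz : IsZero ((DerSch.stalkFunctor X x₀).obj S₂) :=
      @ModuleCat.isZero_of_subsingleton _ _ _ hs0
    haveI : IsSplitMono ((DerSch.stalkFunctor X x₀).map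
        (biprod.inr : Coh.structureModule X ⟶ kernel p ⊞ Coh.structureModule X)) := inferInstance
    have hO : IsZero ((DerSch.stalkFunctor X x₀).obj (Coh.structureModule X)) :=
      IsZero.of_mono ((DerSch.stalkFunctor X x₀).map
        (biprod.inr : Coh.structureModule X ⟶ kernel p ⊞ Coh.structureModule X)) hz
    haveI : Subsingleton ((Coh.structureModule X).presheaf.stalk x₀) := ModuleCat.subsingleton_of_isZero hO
    obtain ⟨ψ⟩ := AssLib.nonempty_stalkUnitEquiv (X := X) x₀
    exact not_subsingleton (X.presheaf.stalk x₀) ψ.toEquiv.subsingleton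
  refine ⟨φ (KRR.cl X L) ^ n * e₀ + φ (KRR.cl X S₂), N + 1, P.add_mem _ _ ?_ hpos₂, ?_⟩
  · rw [← model_pow hK hL.1]
    refine P.mul_mem _ _ ?_ he₀
    have h1 : FlatMod.IsFinLocFreeOfRank 1 (CohB1.tensorPow L n) := by
      intro x
      obtain ⟨U, hx, ⟨e⟩⟩ := InvX.isInvertible_tensorPow hL.1 n x
      exact ⟨U, hx, ⟨e ≪≫ (H23.DblAlg.freeOneIso _).symm⟩⟩
    exact (hK.mem_pos_iff _).2 ⟨1, _, le_rfl, h1, rfl⟩
  · have h2 : φ (KRR.cl X (FlatMod.freeMod X N)) = φ (KRR.cl X (kernel p)) + φ (KRR.cl X G) := by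
      rw [← map_add]
      exact congrArg φ (KZ.clSub_ses (KRR.vbP X) hS hH hN hG)
    have h3 : φ (KRR.cl X G) = φ (KRR.cl X L) ^ n * φ (KRR.cl X F) := by
      rw [cl_iso iso hG, mul_comm, ← model_pow hK hL.1, hK.map_mul _ _ hF (isFinLocFree_tensorPow hL.1 n)]
      rfl
    rw [cl_freeMod, map_nsmul, hK.map_one, nsmul_one] at h2
    rw [hclS₂, mul_sub, ← h3, Nat.cast_succ, h2]
    ring

end Groth.Agent.KRRReg
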