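import Groth.Agent.KRRReg.KoszulClass

/-!
# Sequences killed by an iterated difference
-/

set_option autoImplicit false

universe w

namespace Groth.Agent.KRRReg

variable {G : Type w} [AddCommGroup G]

theorem fdiff_shift (a : ℤ → G) (t : ℤ) : ∀ (k : ℕ) (j : ℤ), fdiff k (fun i => a (i + t)) j = fdiff k a (j + t)
  | 0, _ => rfl
  | k + 1, j => by
    show fdiff k _ (j + 1) - fdiff k _ j = fdiff k a (j + t + 1) - fdiff k a (j + t)
    rw [fdiff_shift a t k, fdiff_shift a t k, add_right_comm]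

theorem fdiff_zero_of_vanish (b : ℤ → G) :
    ∀ (k : ℕ) (j : ℤ), (∀ i : ℕ, i ≤ k → b (j + i) = 0) → fdiff k b j = 0
  | 0, j, h => by show b j = 0; simpa using h 0 le_rfl
  | k + 1, j, h => by
    show fdiff k b (j + 1) - fdiff k b j = 0
    rw [fdiff_zero_of_vanish b k (j + 1) fun i hi => by
        have := h (i + 1) (by omega)
        rwa [Nat.cast_succ, add_comm (i : ℤ) 1, ← add_assoc] at this,
      fdiff_zero_of_vanish b k j (fun i hi => h i (by omega)), sub_zero]

/-- A sequence killed by `Δ^{n+1}` is determined by its values at `0, …, n`. -/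
theorem eq_zero_of_fdiff (n : ℕ) (b : ℤ → G) (hΔ : ∀ j, fdiff (n + 1) b j = 0)
    (h0 : ∀ i : ℕ, i ≤ n → b i = 0) (t : ℤ) : b t = 0 := by
  have h1 : extend n (fun i => b (i + t)) 0 = b t := by rw [extend_zero, zero_add]
  have hconst : extend n (fun i => b (i + t)) 0 = extend n (fun i => b (i + t)) (-t) := by
    have hΔ' : ∀ m j : ℤ, m ≤ j → fdiff (n + 1) (fun i => b (i + t)) j = 0 := fun _ j _ => by
      rw [fdiff_shift]; exact hΔ _
    rcases le_total (-t) 0 with h | h
    · exact extend_eq_of_le n _ _ (hΔ' _) 0 h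
    · exact (extend_eq_of_le n _ _ (hΔ' _) (-t) h).symm
  rw [← h1, hconst]
  unfold extend
  refine Finset.sum_eq_zero fun k hk => ?_
  rw [fdiff_shift, neg_add_cancel, fdiff_zero_of_vanish b k 0 (fun i hi => by
    rw [zero_add]; exact h0 i (by have := Finset.mem_range.1 hk; omega)), smul_zero]

theorem fdiff_succ' (a : ℤ → G) : ∀ (k : ℕ) (j : ℤ), fdiff (k + 1) a j = fdiff k (fun i => a (i + 1) - a i) j
  | 0, _ => rfl
  | k + 1, j => by
    show fdiff (k + 1) a (j + 1) - fdiff (k + 1) a j = _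
    rw [fdiff_succ' a k, fdiff_succ' a k]
    rfl

theorem fdiff_choose : ∀ (n : ℕ) (c j : ℤ), fdiff (n + 1) (fun i : ℤ => Ring.choose (i + c) n) j = (0 : ℤ)
  | 0, c, j => by
    show Ring.choose (j + 1 + c) 0 - Ring.choose (j + c) 0 = (0 : ℤ)
    rw [Ring.choose_zero_right, Ring.choose_zero_right, sub_self]
  | n + 1, c, j => by
    rw [fdiff_succ', show (fun i : ℤ => Ring.choose (i + 1 + c) (n + 1) - Ring.choose (i + c) (n + 1)) =
        fun i : ℤ => Ring.choose (i + c) n from funext fun i => by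
      rw [show i + 1 + c = (i + c) + 1 by ring, Ring.choose_succ_succ, add_sub_cancel_right]]
    exact fdiff_choose n c j

end Groth.Agent.KRRReg
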