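import Groth.Agent.Lib.KoszulChop
import Groth.Agent.KZ.Basic
import Mathlib.RingTheory.Binomial

/-!
# Classes in an exact Koszul complex, and finite differences
-/

set_option linter.style.haveILetI false
set_option backward.isDefEq.respectTransparency false
set_option backward.isDefEq.respectTransparency.types false
set_option autoImplicit false

universe u w

open CategoryTheory CategoryTheory.Limits AlgebraicGeometry

noncomputable section

namespace Groth.Agent.KRRReg

open Groth.Agent

section Diff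

variable {G : Type w} [AddCommGroup G]

/-- Iterated forward differences. -/
def fdiff : ℕ → (ℤ → G) → ℤ → G
  | 0, a, j => a j
  | k + 1, a, j => fdiff k a (j + 1) - fdiff k a j

theorem fdiff_congr {a b : ℤ → G} {m : ℤ} (h : ∀ j, m ≤ j → a j = b j) :
    ∀ (k : ℕ) (j : ℤ), m ≤ j → fdiff k a j = fdiff k b j
  | 0, j, hj => h j hj
  | k + 1, j, hj => by
    show fdiff k a (j + 1) - fdiff k a j = fdiff k b (j + 1) - fdiff k b j
    rw [fdiff_congr h k j hj, fdiff_congr h k (j + 1) (by omega)]

theorem fdiff_map {H : Type*} [AddCommGroup H] (f : G →+ H) (a : ℤ → G) :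
    ∀ (k : ℕ) (j : ℤ), f (fdiff k a j) = fdiff k (fun i => f (a i)) j
  | 0, _ => rfl
  | k + 1, j => by
    show f (fdiff k a (j + 1) - fdiff k a j) = _
    rw [map_sub, fdiff_map f a k, fdiff_map f a k]
    rfl

theorem fdiff_add (a b : ℤ → G) :
    ∀ (k : ℕ) (j : ℤ), fdiff k (fun i => a i + b i) j = fdiff k a j + fdiff k b j
  | 0, _ => rfl
  | k + 1, j => by
    show fdiff k _ (j + 1) - fdiff k _ j = (fdiff k a (j + 1) - fdiff k a j) + (fdiff k b (j + 1) - fdiff k b j)
    rw [fdiff_add a b k, fdiff_add a b k]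
    abel

/-- The value at `0` of the polynomial of degree at most `n` through `a(m), …, a(m + n)`. -/
def extend (n : ℕ) (a : ℤ → G) (m : ℤ) : G :=
  ∑ k ∈ Finset.range (n + 1), Ring.choose (-m) k • fdiff k a m

theorem extend_zero (n : ℕ) (a : ℤ → G) : extend n a 0 = a 0 := by
  unfold extend
  rw [Finset.sum_range_succ', neg_zero, Ring.choose_zero_right, one_smul]
  refine (add_eq_right.2 (Finset.sum_eq_zero fun k _ => ?_))
  rw [Ring.choose_zero_pos ℤ (Nat.succ_pos k), zero_smul]

theorem extend_step (n : ℕ) (a : ℤ → G) (m : ℤ) (h : fdiff (n + 1) a m = 0) :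
    extend n a (m + 1) = extend n a m := by
  unfold extend
  obtain ⟨r, hr⟩ : ∃ r : ℤ, r = -(m + 1) := ⟨_, rfl⟩
  rw [← hr, show (-m : ℤ) = r + 1 by omega]
  have hk : ∀ k, fdiff k a (m + 1) = fdiff k a m + fdiff (k + 1) a m := fun k => by
    show _ = _ + (fdiff k a (m + 1) - fdiff k a m)
    abel
  simp only [hk, smul_add, Finset.sum_add_distrib]
  have h2 : ∑ k ∈ Finset.range (n + 1), Ring.choose r k • fdiff (k + 1) a m =
      ∑ k ∈ Finset.range n, Ring.choose r k • fdiff (k + 1) a m := by
    rw [Finset.sum_range_succ, h, smul_zero, add_zero]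
  rw [h2, Finset.sum_range_succ', Finset.sum_range_succ', add_right_comm, Ring.choose_zero_right,
    Ring.choose_zero_right, ← Finset.sum_add_distrib]
  refine congrArg (· + _) (Finset.sum_congr rfl fun k _ => ?_)
  rw [Ring.choose_succ_succ, add_smul, add_comm]

theorem extend_eq_of_le (n : ℕ) (a : ℤ → G) (m : ℤ) (h : ∀ j, m ≤ j → fdiff (n + 1) a j = 0) :
    ∀ m', m ≤ m' → extend n a m' = extend n a m := by
  intro m' hm
  obtain ⟨e, rfl⟩ : ∃ e : ℕ, m' = m + e := ⟨(m' - m).toNat, by omega⟩
  induction e with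
  | zero => simp
  | succ e ih =>
    rw [show m + ((e + 1 : ℕ) : ℤ) = m + e + 1 by omega, extend_step n a _ (h _ (by omega))]
    exact ih (by omega)

theorem extend_congr (n : ℕ) {a b : ℤ → G} {m : ℤ} (h : ∀ j, m ≤ j → a j = b j) :
    extend n a m = extend n b m :=
  Finset.sum_congr rfl fun k _ => by rw [fdiff_congr h k m le_rfl]

theorem extend_map {H : Type*} [AddCommGroup H] (f : G →+ H) (n : ℕ) (a : ℤ → G) (m : ℤ) :
    f (extend n a m) = extend n (fun i => f (a i)) m := by
  unfold extend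
  rw [map_sum]
  exact Finset.sum_congr rfl fun k _ => by rw [map_zsmul, fdiff_map]

theorem extend_add (n : ℕ) (a b : ℤ → G) (m : ℤ) :
    extend n (fun i => a i + b i) m = extend n a m + extend n b m := by
  unfold extend
  rw [← Finset.sum_add_distrib]
  exact Finset.sum_congr rfl fun k _ => by rw [fdiff_add, smul_add]

end Diff

section Class

open KoszulChop

variable {X : Scheme.{u}} (P : ObjectProperty X.Modules)

/-- A property of modules good enough for classes. -/
structure GoodP : Prop where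
  zero : ∀ Z : X.Modules, IsZero Z → P Z
  biprod : ∀ A B : X.Modules, P A → P B → P (A ⊞ B)

variable {P} {J : Type*} (M : ℤ → X.Modules) (x : J → ∀ d : ℤ, M (d - 1) ⟶ M d)

theorem GoodP.obj (hP : GoodP P) : ∀ (l : List J) (d : ℤ) (p : ℕ),
    (p ≤ l.length → P (M (d - p))) → P (obj M l d p)
  | [], d, 0, h => by simpa [KoszulChop.obj] using h le_rfl
  | _ :: l, d, 0, h => hP.obj l d 0 fun _ => h (Nat.zero_le _)
  | [], d, _ + 1, _ => hP.zero _ (isZero_obj M [] d _ (by simp))
  | _ :: l, d, p + 1, h => hP.biprod _ _ (hP.obj l d (p + 1) fun hp => h (by simp; omega))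
      (hP.obj l (d - 1) p fun hp => by
        rw [show d - 1 - (p : ℤ) = d - ((p + 1 : ℕ) : ℤ) by omega]
        exact h (by simp; omega))

theorem GoodP.cl_biprod (hP : GoodP P) {A B : X.Modules} (hA : P A) (hB : P B) :
    KZero.clSub P (A ⊞ B) = KZero.clSub P A + KZero.clSub P B :=
  KZ.clSub_ses P (ShortComplex.Splitting.ofHasBinaryBiproduct A B).shortExact hA (hP.biprod A B hA hB) hB

/-- Alternating sums of classes. -/
def altSum (P : ObjectProperty X.Modules) (l : List J) (d : ℤ) : KZero.K0sub P :=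
  ∑ p ∈ Finset.range (l.length + 1), (-1 : ℤ) ^ p • KZero.clSub P (obj M l d p)

/-- The alternating sum is an iterated difference. -/
theorem GoodP.altSum_eq (hP : GoodP P) : ∀ (l : List J) (d : ℤ),
    (∀ p : ℕ, p ≤ l.length → P (M (d - p))) →
      altSum M P l d = fdiff l.length (fun i => KZero.clSub P (M i)) (d - l.length)
  | [], d, _ => by
    show ∑ p ∈ Finset.range 1, (-1 : ℤ) ^ p • KZero.clSub P (KoszulChop.obj M ([] : List J) d p) = KZero.clSub P (M (d - ((0 : ℕ) : ℤ)))
    simp [KoszulChop.obj]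
  | i :: l, d, h => by
    have h1 : ∀ p : ℕ, p ≤ l.length → P (M (d - p)) := fun p hp => h p (by simp; omega)
    have h2 : ∀ p : ℕ, p ≤ l.length → P (M (d - 1 - p)) := fun p hp => by
      rw [show d - 1 - (p : ℤ) = d - ((p + 1 : ℕ) : ℤ) by omega]
      exact h (p + 1) (by simp; omega)
    have e1 := hP.altSum_eq l d h1
    have e2 := hP.altSum_eq l (d - 1) h2
    show _ = fdiff l.length _ (d - ((l.length + 1 : ℕ) : ℤ) + 1) - fdiff l.length _ (d - ((l.length + 1 : ℕ) : ℤ))
    rw [show d - ((l.length + 1 : ℕ) : ℤ) + 1 = d - (l.length : ℤ) by omega,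
      show d - ((l.length + 1 : ℕ) : ℤ) = d - 1 - (l.length : ℤ) by omega, ← e1, ← e2]
    unfold altSum
    rw [List.length_cons, Finset.sum_range_succ']
    have hsplit : ∀ p ∈ Finset.range (l.length + 1), (-1 : ℤ) ^ (p + 1) • KZero.clSub P (KoszulChop.obj M (i :: l) d (p + 1)) =
        (-1 : ℤ) ^ (p + 1) • KZero.clSub P (KoszulChop.obj M l d (p + 1)) -
          (-1 : ℤ) ^ p • KZero.clSub P (KoszulChop.obj M l (d - 1) p) := fun p hp => by
      show (-1 : ℤ) ^ (p + 1) • KZero.clSub P (KoszulChop.obj M l d (p + 1) ⊞ KoszulChop.obj M l (d - 1) p) = _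
      rw [hP.cl_biprod (hP.obj M l d (p + 1) fun hp' => h1 _ hp') (hP.obj M l (d - 1) p fun hp' => h2 _ hp'),
        smul_add, pow_succ, mul_neg_one, neg_smul, neg_smul]
      abel
    rw [Finset.sum_congr rfl hsplit, Finset.sum_sub_distrib]
    have hlast : (-1 : ℤ) ^ (l.length + 1) • KZero.clSub P (KoszulChop.obj M l d (l.length + 1)) = 0 := by
      rw [KZ.clSub_isZero P (isZero_obj M l d _ (Nat.lt_succ_self _)), smul_zero]
    rw [Finset.sum_range_succ (fun p => (-1 : ℤ) ^ (p + 1) • KZero.clSub P (KoszulChop.obj M l d (p + 1))), hlast,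
      add_zero, Finset.sum_range_succ' (fun p => (-1 : ℤ) ^ p • KZero.clSub P (KoszulChop.obj M l d p))]
    show _ - _ + (-1 : ℤ) ^ 0 • KZero.clSub P (KoszulChop.obj M l d 0) = _
    abel

variable (hx : ∀ (i j : J) (d : ℤ), x i (d - 1) ≫ x j d = x j (d - 1) ≫ x i d) (l : List J)
  (hcov : ∀ y : X, ∃ j ∈ l, ∀ d, Function.Bijective ((KFlatLib.stalkAb y).map (x j d)))

include hx hcov in
/-- An exact complex has vanishing alternating sum. -/
theorem GoodP.altSum_eq_zero (hP : GoodP P) (d : ℤ) (hobj : ∀ p, P (KoszulChop.obj M l d p))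
    (hK : ∀ p, P (kernel (dd M x l d p))) : altSum M P l d = 0 := by
  have hz : ∀ p, l.length ≤ p → KZero.clSub P (kernel (dd M x l d p)) = 0 := fun p hp =>
    KZ.clSub_isZero P (IsZero.of_mono (kernel.ι _) (isZero_obj M l d (p + 1) (by omega)))
  have key : ∀ m : ℕ, ∑ p ∈ Finset.range (m + 2), (-1 : ℤ) ^ p • KZero.clSub P (KoszulChop.obj M l d p) =
      (-1 : ℤ) ^ (m + 1) • KZero.clSub P (kernel (dd M x l d m)) := by
    intro m
    induction m with
    | zero =>
      haveI := epi_dd M x hx l hcov d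
      have h := KZ.clSub_ses P (KZ.kerSeq_shortExact (dd M x l d 0)) (hK 0) (hobj 1) (hobj 0)
      rw [Finset.sum_range_succ, Finset.sum_range_succ, Finset.sum_range_zero]
      simp only [pow_zero, one_smul, zero_add, pow_one, neg_smul]
      rw [show KZero.clSub P (KoszulChop.obj M l d 1) = _ from h]
      abel
    | succ m ih =>
      have h := KZ.clSub_ses P (shortExact_piece M x hx l d m (exact_dd M x hx l hcov d m))
        (hK (m + 1)) (hobj (m + 2)) (hK m)
      rw [Finset.sum_range_succ, ih, show KZero.clSub P (KoszulChop.obj M l d (m + 2)) = _ from h, smul_add,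
        pow_succ (-1 : ℤ) (m + 1), mul_neg_one, neg_smul, neg_smul]
      abel
  have h := key l.length
  rw [hz _ le_rfl, smul_zero, Finset.sum_range_succ,
    KZ.clSub_isZero P (isZero_obj M l d _ (Nat.lt_succ_self _)), smul_zero, add_zero] at h
  exact h

include hx hcov in
/-- The difference equation of an exact Koszul complex. -/
theorem GoodP.fdiff_eq_zero (hP : GoodP P) (d : ℤ) (hM : ∀ p : ℕ, p ≤ l.length → P (M (d - p)))
    (hK : ∀ p, P (kernel (dd M x l d p))) :
    fdiff l.length (fun i => KZero.clSub P (M i)) (d - l.length) = 0 :=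
  (hP.altSum_eq M l d hM).symm.trans
    (hP.altSum_eq_zero M x hx l hcov d (fun p => hP.obj M l d p (hM p)) hK)

end Class

end Groth.Agent.KRRReg
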