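import Groth.Agent.KRRReg.UnitSurj
import Mathlib.Algebra.Homology.QuasiIso

/-!
# The resolution of a regular module by twisted pullbacks from the base
-/

set_option linter.style.haveILetI false
set_option linter.unusedSectionVars false
set_option backward.isDefEq.respectTransparency false
set_option backward.isDefEq.respectTransparency.types false
set_option maxHeartbeats 1000000
set_option autoImplicit false

universe u

open CategoryTheory CategoryTheory.Limits AlgebraicGeometry TopologicalSpace Opposite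
open Groth.Agent.H23.PicMul

noncomputable section

namespace Groth.Agent.KRRReg

open Groth.Agent

variable {n : ℕ} {T : Scheme.{u}}

/-- All cohomology of `G(-1), …, G(-i)` vanishes over the affines of the base. -/
def Van (G : (KRR.PY n T).Modules) (i : ℕ) : Prop :=
  ∀ (V : T.affineOpens) (m q : ℕ), 1 ≤ m → m ≤ i →
    Subsingleton (Coh.HH (UV n V.1).toScheme (tw (gV n V.1) (G.restrict (UV n V.1).ι) (-(m : ℤ))) q)

theorem tw_zero_iso {X : Scheme.{u}} (g : X ⟶ Pz n) (G : X.Modules) : Nonempty (tw g G 0 ≅ G) := by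
  obtain ⟨ε⟩ := iso_O_zero g
  exact ⟨((DCoh.tensorBi.obj G).mapIso ε).symm ≪≫ AmpleVan.twUnit.app G⟩

theorem twF_one_restrict (G : (KRR.PY n T).Modules) (V : T.Opens) (d : ℤ) :
    Nonempty (tw (gV n V) ((KRR.twF n T 1 G).restrict (UV n V).ι) d ≅
      tw (gV n V) (G.restrict (UV n V).ι) (d + 1)) := by
  refine cl_eq_iff.1 ?_
  rw [cl_tensor, cl_tensor, cl_eq_iff.2 (twF_restrict_iso G V 1), cl_tensor, mul_assoc, ← cl_O_add, add_comm]

/-- The counit of a regular module is injective on sections over preimages of affines. -/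
theorem injective_counit {G : (KRR.PY n T).Modules} (hG : Coh.IsQCoh G) (V : T.affineOpens) :
    Function.Injective (((Scheme.Modules.pullbackPushforwardAdjunction (KRR.pr n T)).counit.app G).app (UV n V.1)) := by
  let adj := Scheme.Modules.pullbackPushforwardAdjunction (KRR.pr n T)
  let p := KRR.pr n T
  let N := (Scheme.Modules.pushforward p).obj G
  have key : ∀ x : Γ(N, V.1), (adj.counit.app G).app (UV n V.1)
      (QCoh.pullSec p N (le_rfl : UV n V.1 ≤ p ⁻¹ᵁ V.1) x) = x := fun x => by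
    refine (congrArg ((adj.counit.app G).app (UV n V.1)) (QCoh.map_id' (M := (Scheme.Modules.pullback p).obj N) _ _)).trans ?_
    exact congr(($(adj.right_triangle_components G)).app V.1 x)
  intro a b hab
  obtain ⟨x, rfl⟩ := surjective_pullSec_pr (isQCoh_push hG) V a
  obtain ⟨y, rfl⟩ := surjective_pullSec_pr (isQCoh_push hG) V b
  rw [key, key] at hab
  rw [hab]

theorem subsingleton_sections_syz {G : (KRR.PY n T).Modules} (hG : Coh.IsQCoh G) (V : T.affineOpens) :
    Subsingleton (Coh.HH (UV n V.1).toScheme ((syz G).restrict (UV n V.1).ι) 0) := by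
  let U := UV n V.1
  let c := (Scheme.Modules.pullbackPushforwardAdjunction (KRR.pr n T)).counit.app G
  have h0 : ∀ z : Γ(syz G, U), z = 0 := fun z => by
    refine QCoh.app_injective (kernel.ι c) U ?_
    rw [map_zero]
    refine injective_counit hG V ?_
    rw [map_zero]
    exact congr(($(kernel.condition c)).app U z)
  have hU : U.ι ''ᵁ (⊤ : U.toScheme.Opens) = U := by simp
  have h1 : ∀ z : Γ(syz G, U.ι ''ᵁ ⊤), z = 0 := by rw [hU]; exact h0
  have h2 : Subsingleton Γ((syz G).restrict U.ι, ⊤) := subsingleton_of_forall_eq 0 fun z => h1 z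
  exact @Equiv.subsingleton _ _ (Sheaf.H.equiv₀ (Coh.toAb ((syz G).restrict U.ι)) isTerminalTop).toEquiv h2

theorem van_step {G : (KRR.PY n T).Modules} (hG : Coh.IsQCoh G) (hreg : KRR.IsRegSheaf n T G)
    {i : ℕ} (hi : i ≤ n) (h : Van G i) : Van (KRR.twF n T 1 (syz G)) (i + 1) := by
  intro V m q hm hmi
  obtain ⟨k, rfl⟩ := Nat.exists_eq_add_of_le' hm
  refine QCoh.subsingleton_HH_of_iso (twF_one_restrict (syz G) V.1 _).some.symm q ?_
  rw [show -((k + 1 : ℕ) : ℤ) + 1 = -(k : ℤ) by omega]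
  by_cases hqk : 1 ≤ q ∧ k + 1 ≤ q
  · have h2 := reg_of_nonneg ((isRegSheaf_iff (isQCoh_twF (isQCoh_syz hG) 1)).1 (isRegSheaf_syz hG hreg) V)
      (-((k + 1 : ℕ) : ℤ)) q hqk.1 (by omega)
    have h3 := QCoh.subsingleton_HH_of_iso (twF_one_restrict (syz G) V.1 _).some q h2
    rwa [show -((k + 1 : ℕ) : ℤ) + 1 = -(k : ℤ) by omega] at h3
  rcases Nat.eq_zero_or_pos k with rfl | hk
  · obtain rfl : q = 0 := by omega
    exact QCoh.subsingleton_HH_of_iso (tw_zero_iso _ _).some.symm 0 (subsingleton_sections_syz hG V)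
  let S : ShortComplex (KRR.PY n T).Modules := ShortComplex.mk
    (kernel.ι ((Scheme.Modules.pullbackPushforwardAdjunction (KRR.pr n T)).counit.app G))
    ((Scheme.Modules.pullbackPushforwardAdjunction (KRR.pr n T)).counit.app G) (kernel.condition _)
  have hS : S.ShortExact := shortExact_syz hG hreg
  have hT := shortExact_tw (g := gV n V.1) (shortExact_UV hS V.1) (-(k : ℤ))
  have h2 : ∀ j, Subsingleton (Coh.HH (UV n V.1).toScheme
      (tw (gV n V.1) (S.X₂.restrict (UV n V.1).ι) (-(k : ℤ))) j) := fun j =>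
    HH_UV_pullback (isQCoh_push hG) V _ j (by rintro (⟨-, h⟩ | ⟨-, h⟩) <;> omega)
  match q with
  | 0 =>
    haveI := hT.mono_f
    let α := (AmpleVan.tw (O (gV n V.1) (-(k : ℤ)))).map
      ((Scheme.Modules.restrictFunctor (UV n V.1).ι).map S.f)
    haveI : Mono α := hT.mono_f
    let e₁ := Sheaf.H.equiv₀ (Coh.toAb (tw (gV n V.1) (S.X₁.restrict (UV n V.1).ι) (-(k : ℤ)))) isTerminalTop
    let e₂ := Sheaf.H.equiv₀ (Coh.toAb (tw (gV n V.1) (S.X₂.restrict (UV n V.1).ι) (-(k : ℤ)))) isTerminalTop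
    have hX₂ : Subsingleton Γ(tw (gV n V.1) (S.X₂.restrict (UV n V.1).ι) (-(k : ℤ)), ⊤) :=
      @Equiv.subsingleton _ _ e₂.toEquiv.symm (h2 0)
    have hX₁ : Subsingleton Γ(tw (gV n V.1) (S.X₁.restrict (UV n V.1).ι) (-(k : ℤ)), ⊤) :=
      @Function.Injective.subsingleton _ _ _ (QCoh.app_injective α ⊤) hX₂
    exact @Equiv.subsingleton _ _ e₁.toEquiv hX₁
  | j + 1 =>
    exact subsingleton_HH_X₁' hT j (h2 (j + 1)) (h V k j hk (by omega))

/-- The iterated syzygies. -/
def Gs (F : (KRR.PY n T).Modules) : ℕ → (KRR.PY n T).Modules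
  | 0 => F
  | i + 1 => KRR.twF n T 1 (syz (Gs F i))

variable {F : (KRR.PY n T).Modules}

theorem gs_props (hF : Coh.IsQCoh F) (hreg : KRR.IsRegSheaf n T F) :
    ∀ i, Coh.IsQCoh (Gs F i) ∧ KRR.IsRegSheaf n T (Gs F i) ∧ (i ≤ n + 1 → Van (Gs F i) i)
  | 0 => ⟨hF, hreg, fun _ _ m _ hm h => absurd (hm.trans h) (by omega)⟩
  | i + 1 =>
    let ⟨h1, h2, h3⟩ := gs_props hF hreg i
    ⟨isQCoh_twF (isQCoh_syz h1) 1, isRegSheaf_syz h1 h2, fun h => van_step h1 h2 (by omega) (h3 (by omega))⟩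

theorem subsingleton_HH_UV_gt {G : (KRR.PY n T).Modules} (hG : Coh.IsQCoh G) (V : T.affineOpens)
    (q : ℕ) (hq : n + 1 ≤ q) : Subsingleton (Coh.HH (UV n V.1).toScheme (G.restrict (UV n V.1).ι) q) := by
  haveI : IsAffineHom (specULiftZIsTerminal.from (Spec Γ(T, V.1))) := isAffineHom_of_isAffine _
  haveI : IsAffineHom (gV n V.1) := MorphismProperty.of_isPullback (isPullback_gV V).flip inferInstance
  exact QCoh.HH_subsingleton_of_cover (X := (UV n V.1).toScheme) (n + 1)
    (fun j => (gV n V.1) ⁻¹ᵁ PnCoh.mOpen Zu.{u} (Finsupp.single (j : Fin (n + 1)) 1))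
    (fun _ => (PnCoh.isAffineOpen_mOpen (Finsupp.single_ne_zero.2 one_ne_zero)).preimage _)
    (by rw [← Scheme.Hom.preimage_iSup, PnCoh.iSup_mOpen_single]; rfl)
    (fun _ _ hV hW => by
      haveI : (UV n V.1).toScheme.IsSeparated := AmpleX.isSeparated_of_isAmple (isAmple_gV V)
      exact IsAffineOpen.inf hV hW) (QCoh.isQCoh_restrict _ hG) q hq

theorem isZero_syz_last (hF : Coh.IsQCoh F) (hreg : KRR.IsRegSheaf n T F) : IsZero (syz (Gs F n)) := by
  obtain ⟨h1, h2, -⟩ := gs_props hF hreg n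
  have hv := (gs_props hF hreg (n + 1)).2.2 le_rfl
  have hq := isQCoh_syz h1
  rw [IsZero.iff_id_eq_zero]
  refine H23.ModLoc.hom_ext_of_locally _ _ fun x => ?_
  obtain ⟨_, ⟨V, hV, rfl⟩, hy, -⟩ :=
    T.isBasis_affineOpens.exists_subset_of_mem_open (Set.mem_univ (KRR.pr n T x)) isOpen_univ
  refine ⟨UV n V, hy, ?_⟩
  let W := UV n V
  have hR : Reg (gV n V) ((syz (Gs F n)).restrict W.ι) := fun q hq1 => by
    by_cases hn : n + 1 ≤ q
    · exact QCoh.subsingleton_HH_of_iso (twF_restrict_iso _ V _).some q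
        (subsingleton_HH_UV_gt (isQCoh_twF hq _) ⟨V, hV⟩ q hn)
    · have h := QCoh.subsingleton_HH_of_iso (twF_one_restrict (syz (Gs F n)) V _).some q
        (hv ⟨V, hV⟩ (q + 1) q (by omega) (by omega))
      rwa [show -((q + 1 : ℕ) : ℤ) + 1 = -(q : ℤ) by omega] at h
  haveI := subsingleton_sections_syz h1 ⟨V, hV⟩
  haveI : Subsingleton Γ((syz (Gs F n)).restrict W.ι, ⊤) :=
    (Sheaf.H.equiv₀ (Coh.toAb ((syz (Gs F n)).restrict W.ι)) isTerminalTop).toEquiv.symm.subsingleton
  have h0 := eq_zero_of_app_top (g := gV n V) (isAmple_gV ⟨V, hV⟩) (QCoh.isQCoh_restrict W.ι hq) hR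
    (𝟙 ((syz (Gs F n)).restrict W.ι)) fun t => Subsingleton.elim _ _
  rw [CategoryTheory.Functor.map_id, Functor.map_zero]
  exact h0

section Complex

variable (F)

/-- `(- ⊗ O(d))`. -/
abbrev twP (d : ℤ) : (KRR.PY n T).Modules ⥤ (KRR.PY n T).Modules := AmpleVan.tw (O (gfst n T) d)

abbrev counitG (i : ℕ) := (Scheme.Modules.pullbackPushforwardAdjunction (KRR.pr n T)).counit.app (Gs F i)

/-- The terms. -/
abbrev term (i : ℕ) : (KRR.PY n T).Modules :=
  (twP (-(i : ℤ))).obj ((Scheme.Modules.pullback (KRR.pr n T)).obj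
    ((Scheme.Modules.pushforward (KRR.pr n T)).obj (Gs F i)))

theorem cl_twP (d : ℤ) (G : (KRR.PY n T).Modules) :
    PicF.cl ((twP d).obj G) = PicF.cl G * PicF.cl (O (gfst n T) d) := rfl

def link (i : ℕ) : (twP (-((i + 1 : ℕ) : ℤ))).obj (Gs F (i + 1)) ≅ (twP (-(i : ℤ))).obj (syz (Gs F i)) :=
  (cl_eq_iff.1 (by
    rw [cl_twP, cl_twP, Gs, cl_twF, mul_comm (PicF.cl (O (gfst n T) 1)), mul_assoc, ← cl_O_add,
      show (1 : ℤ) + -((i + 1 : ℕ) : ℤ) = -(i : ℤ) by omega])).some

def diff (i : ℕ) : term F (i + 1) ⟶ term F i :=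
  (twP (-((i + 1 : ℕ) : ℤ))).map (counitG F (i + 1)) ≫ (link F i).hom ≫
    (twP (-(i : ℤ))).map (kernel.ι (counitG F i))

theorem ι_counit (i : ℕ) : (twP (-(i : ℤ))).map (kernel.ι (counitG F i)) ≫
    (twP (-(i : ℤ))).map (counitG F i) = 0 := by
  rw [← CategoryTheory.Functor.map_comp, kernel.condition]
  haveI := AmpleVan.isEquivalence_tw (P := O (gfst n T) (-(i : ℤ)))
    (PicClLib.isInvertible_pullback (gfst n T) (TwistFlat.isInvertible_twistProjSpace n (-(i : ℤ))))
  exact Functor.map_zero _ _ _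

theorem diff_sq (i : ℕ) : diff F (i + 1) ≫ diff F i = 0 := by
  unfold diff
  rw [Category.assoc, Category.assoc, ← Category.assoc ((twP (-((i + 1 : ℕ) : ℤ))).map (kernel.ι _)),
    ι_counit, zero_comp, comp_zero, comp_zero]

/-- The resolution. -/
def cx : ChainComplex (KRR.PY n T).Modules ℕ := ChainComplex.of (term F) (diff F) (diff_sq F)

theorem cl_twP_zero : PicF.cl ((twP (-((0 : ℕ) : ℤ))).obj F) = PicF.cl F := by
  rw [cl_twP, Nat.cast_zero, neg_zero, cl_O_zero, mul_one]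

def zeroIso : (twP (-((0 : ℕ) : ℤ))).obj F ≅ F := (cl_eq_iff.1 (cl_twP_zero F)).some

theorem cx_d (i : ℕ) : (cx F).d (i + 1) i = diff F i := ChainComplex.of_d _ _ _

def cxAug : term F 0 ⟶ F :=
  (twP (-((0 : ℕ) : ℤ))).map (counitG F 0) ≫ (zeroIso F).hom

theorem cx_d_aug : (cx F).d 1 0 ≫ cxAug F = 0 := by
  rw [show (cx F).d 1 0 = diff F 0 from cx_d F 0]
  unfold diff cxAug
  rw [Category.assoc, Category.assoc, ← Category.assoc ((twP (-((0 : ℕ) : ℤ))).map (kernel.ι _)),
    ι_counit, zero_comp, comp_zero, comp_zero]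

def π : cx F ⟶ (ChainComplex.single₀ (KRR.PY n T).Modules).obj F :=
  (ChainComplex.toSingle₀Equiv (cx F) F).symm ⟨cxAug F, cx_d_aug F⟩

variable {F}

theorem shortExact_twP (hF : Coh.IsQCoh F) (hreg : KRR.IsRegSheaf n T F) (i : ℕ) :
    (ShortComplex.mk ((twP (-(i : ℤ))).map (kernel.ι (counitG F i))) ((twP (-(i : ℤ))).map (counitG F i))
      (ι_counit F i)).ShortExact :=
  shortExact_tw (g := gfst n T) (shortExact_syz (gs_props hF hreg i).1 (gs_props hF hreg i).2.1) (-(i : ℤ))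

theorem exact_diff (hF : Coh.IsQCoh F) (hreg : KRR.IsRegSheaf n T F) (i : ℕ) :
    (ShortComplex.mk (diff F (i + 1)) (diff F i) (diff_sq F i)).Exact := by
  have h1 := shortExact_twP hF hreg (i + 1)
  have h0 := shortExact_twP hF hreg i
  haveI := h0.mono_f
  haveI : Epi ((twP (-((i + 2 : ℕ) : ℤ))).map (counitG F (i + 2))) := (shortExact_twP hF hreg (i + 2)).epi_g
  let a := (twP (-((i + 2 : ℕ) : ℤ))).map (counitG F (i + 2)) ≫ (link F (i + 1)).hom
  let f := (twP (-((i + 1 : ℕ) : ℤ))).map (kernel.ι (counitG F (i + 1)))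
  let m := (link F i).hom ≫ (twP (-(i : ℤ))).map (kernel.ι (counitG F i))
  haveI : Mono m := mono_comp _ _
  haveI : Epi a := epi_comp _ _
  let Smid := ShortComplex.mk f (diff F i) (by
    unfold diff
    rw [← Category.assoc, ι_counit, zero_comp])
  have hmid : Smid.Exact := by
    let φ : ShortComplex.mk f _ (ι_counit F (i + 1)) ⟶ Smid :=
      { τ₁ := 𝟙 _, τ₂ := 𝟙 _, τ₃ := m
        comm₁₂ := by simp [Smid]
        comm₂₃ := by simp [Smid, diff, m] }
    haveI : Mono φ.τ₃ := inferInstanceAs (Mono m)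
    exact (ShortComplex.exact_iff_of_epi_of_isIso_of_mono φ).1 h1.exact
  let ψ : ShortComplex.mk (diff F (i + 1)) (diff F i) (diff_sq F i) ⟶ Smid :=
    { τ₁ := a, τ₂ := 𝟙 _, τ₃ := 𝟙 _
      comm₁₂ := by simp [Smid, diff, a, f]; rfl
      comm₂₃ := by simp [Smid] }
  haveI : Epi ψ.τ₁ := inferInstanceAs (Epi a)
  exact (ShortComplex.exact_iff_of_epi_of_isIso_of_mono ψ).2 hmid

theorem quasiIso_π (hF : Coh.IsQCoh F) (hreg : KRR.IsRegSheaf n T F) : QuasiIso (π F) := by
  refine ⟨fun i => ?_⟩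
  cases i with
  | zero =>
    rw [ChainComplex.quasiIsoAt₀_iff, ShortComplex.quasiIso_iff_of_zeros']
    · skip
      let e₀ := zeroIso F
      have h0 := shortExact_twP hF hreg 0
      haveI : Epi ((twP (-((0 : ℕ) : ℤ))).map (counitG F 0)) := h0.epi_g
      let a := (twP (-((1 : ℕ) : ℤ))).map (counitG F 1) ≫ (link F 0).hom
      haveI : Epi ((twP (-((1 : ℕ) : ℤ))).map (counitG F 1)) := (shortExact_twP hF hreg 1).epi_g
      haveI : Epi a := epi_comp _ _
      have hz : diff F 0 ≫ cxAug F = 0 := by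
        have := cx_d_aug F
        rwa [show (cx F).d 1 0 = diff F 0 from cx_d F 0] at this
      let S₀ := ShortComplex.mk (diff F 0) (cxAug F) hz
      have hS₀ : S₀.Exact ∧ Epi S₀.g := by
        refine ⟨?_, inferInstanceAs (Epi ((twP (-((0 : ℕ) : ℤ))).map (counitG F 0) ≫ _))⟩
        let Smid := ShortComplex.mk ((twP (-((0 : ℕ) : ℤ))).map (kernel.ι (counitG F 0))) (cxAug F) (by
          unfold cxAug
          rw [← Category.assoc, ι_counit, zero_comp])
        have hmid : Smid.Exact := by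
          let φ : ShortComplex.mk _ _ (ι_counit F 0) ⟶ Smid :=
            { τ₁ := 𝟙 _, τ₂ := 𝟙 _, τ₃ := e₀.hom
              comm₁₂ := by simp [Smid]
              comm₂₃ := by simp [Smid, cxAug, e₀] }
          haveI : Mono φ.τ₃ := inferInstanceAs (Mono e₀.hom)
          exact (ShortComplex.exact_iff_of_epi_of_isIso_of_mono φ).1 h0.exact
        let ψ : S₀ ⟶ Smid :=
          { τ₁ := a, τ₂ := 𝟙 _, τ₃ := 𝟙 _
            comm₁₂ := by simp [S₀, Smid, diff, a]
            comm₂₃ := by simp [S₀, Smid] }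
        haveI : Epi ψ.τ₁ := inferInstanceAs (Epi a)
        exact (ShortComplex.exact_iff_of_epi_of_isIso_of_mono ψ).2 hmid
      refine (ShortComplex.exact_and_epi_g_iff_of_iso ?_).2 hS₀
      exact ShortComplex.isoMk (Iso.refl _) (Iso.refl _) (Iso.refl _) (by simp [S₀, cx_d, π]) (by simp [S₀, cx_d, π])
    all_goals rfl
  | succ i =>
    rw [quasiIsoAt_iff_exactAt']
    · rw [HomologicalComplex.exactAt_iff' _ (i + 2) (i + 1) i (by simp) (by simp)]
      refine (ShortComplex.exact_iff_of_iso ?_).2 (exact_diff hF hreg i)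
      exact ShortComplex.isoMk (Iso.refl _) (Iso.refl _) (Iso.refl _) (by simp [cx_d]) (by simp [cx_d])
    · apply ChainComplex.exactAt_succ_single_obj

theorem isZero_term (hF : Coh.IsQCoh F) (hreg : KRR.IsRegSheaf n T F) : ∀ i, n < i → IsZero (term F i) := by
  have hG : ∀ i, n < i → IsZero (Gs F i) := by
    intro i hi
    obtain ⟨j, rfl⟩ : ∃ j, i = n + 1 + j := ⟨i - (n + 1), by omega⟩
    clear hi
    induction j with
    | zero => exact (DCoh.tensorBi.obj (Twist.twistOver n T 1)).map_isZero (isZero_syz_last hF hreg)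
    | succ j ih =>
      refine (DCoh.tensorBi.obj (Twist.twistOver n T 1)).map_isZero ?_
      exact IsZero.of_mono (kernel.ι _) ((Scheme.Modules.pullback (KRR.pr n T)).map_isZero
        ((Scheme.Modules.pushforward (KRR.pr n T)).map_isZero ih))
  intro i hi
  haveI := AmpleVan.isEquivalence_tw (P := O (gfst n T) (-(i : ℤ)))
    (PicClLib.isInvertible_pullback (gfst n T) (TwistFlat.isInvertible_twistProjSpace n (-(i : ℤ))))
  exact (twP (-(i : ℤ))).map_isZero ((Scheme.Modules.pullback (KRR.pr n T)).map_isZero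
    ((Scheme.Modules.pushforward (KRR.pr n T)).map_isZero (hG i hi)))

theorem cl_term (i : ℕ) : PicF.cl (term F i) = PicF.cl (KRR.twF n T (-(i : ℤ))
    ((Scheme.Modules.pullback (KRR.pr n T)).obj ((Scheme.Modules.pushforward (KRR.pr n T)).obj (Gs F i)))) := by
  rw [cl_twP, cl_twF, mul_comm]

theorem cx_X (i : ℕ) : (cx F).X i = term F i := rfl

theorem exists_resolution (hF : Coh.IsQCoh F) (hreg : KRR.IsRegSheaf n T F) :
    ∃ (Tm : ℕ → T.Modules) (L : ChainComplex (KRR.PY n T).Modules ℕ)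
      (π : L ⟶ (ChainComplex.single₀ (KRR.PY n T).Modules).obj F),
      (∀ i, Coh.IsQCoh (Tm i)) ∧
      (∀ i, i ≤ n → Nonempty (L.X i ≅
        KRR.twF n T (-(i : ℤ)) ((Scheme.Modules.pullback (KRR.pr n T)).obj (Tm i)))) ∧
      (∀ i, n < i → IsZero (L.X i)) ∧ QuasiIso π := by
  refine ⟨fun i => (Scheme.Modules.pushforward (KRR.pr n T)).obj (Gs F i), cx F, π F, ?_, ?_, ?_, ?_⟩
  · exact fun i => isQCoh_push (gs_props hF hreg i).1
  · intro i _
    have h := cl_term (F := F) i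
    rw [cx_X]
    exact cl_eq_iff.1 h
  · intro i hi
    rw [cx_X]
    exact isZero_term hF hreg i hi
  · exact quasiIso_π hF hreg

end Complex

end Groth.Agent.KRRReg
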