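import Groth.Prelude.Def_SGA6
import Groth.Agent.KRRReg.KoszulClass
import Groth.Agent.KRRReg.Exact
import Groth.Agent.KRRReg.LocFree
import Groth.Agent.KRRReg.PushOne
import Groth.Agent.KRRReg.Res
import Groth.Agent.KZ.LFRes
import Groth.Agent.AmpleVan.Uniform
import Groth.Agent.KFlatLib.Perfect.Tensor

/-!
# `K(P^n_Y)` is generated by regular bundles
-/

set_option linter.style.haveILetI false
set_option linter.unusedSectionVars false
set_option backward.isDefEq.respectTransparency false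
set_option backward.isDefEq.respectTransparency.types false
set_option maxHeartbeats 1000000
set_option autoImplicit false

universe u

open CategoryTheory CategoryTheory.Limits AlgebraicGeometry TopologicalSpace Opposite
open Groth.Agent.H23.PicMul

noncomputable section

namespace Groth.Agent.KRRReg

open Groth.Agent KoszulChop

variable {n : ℕ} {Y : Scheme.{u}}

variable (n Y) in
/-- Regular bundles. -/
abbrev RB : ObjectProperty (KRR.PY n Y).Modules :=
  fun M => FlatMod.IsFinLocFree M ∧ KRR.IsRegSheaf n Y M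

/-- `F(j)`. -/
abbrev tg (F : (KRR.PY n Y).Modules) (j : ℤ) : (KRR.PY n Y).Modules := tw (gfst n Y) F j

theorem tg_iso (F : (KRR.PY n Y).Modules) (j : ℤ) : Nonempty (tg F j ≅ KRR.twF n Y j F) :=
  cl_eq_iff.1 (by rw [cl_tensor, cl_twF, mul_comm])

theorem rb_iso {F G : (KRR.PY n Y).Modules} (e : F ≅ G) (h : RB n Y F) : RB n Y G :=
  ⟨isFinLocFree_iso e h.1, isRegSheaf_of_iso n Y e h.2⟩

theorem isFinLocFree_tg {F : (KRR.PY n Y).Modules} (hF : FlatMod.IsFinLocFree F) (j : ℤ) :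
    FlatMod.IsFinLocFree (tg F j) :=
  KFlatLib.isFinLocFree_tensor hF (H23.PullPush.isFinLocFree_of_isInvertible
    (PicClLib.isInvertible_pullback (gfst n Y) (TwistFlat.isInvertible_twistProjSpace n j)))

variable [IsNoetherian Y]

theorem isNoetherian_PY : IsNoetherian (KRR.PY n Y) := by
  haveI := isProper_pr (n := n) (T := Y)
  exact {
    toIsLocallyNoetherian := LocallyOfFiniteType.isLocallyNoetherian (KRR.pr n Y)
    toCompactSpace := QuasiCompact.compactSpace_of_compactSpace (KRR.pr n Y) }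

theorem vb_X₁ {S : ShortComplex (KRR.PY n Y).Modules} (hS : S.ShortExact) (h₂ : FlatMod.IsFinLocFree S.X₂)
    (h₃ : FlatMod.IsFinLocFree S.X₃) : FlatMod.IsFinLocFree S.X₁ := by
  haveI := isNoetherian_PY (n := n) (Y := Y)
  exact KZ.LFRes.pdlt_one_iff.1 (KZ.LFRes.PDLT.kernel_of hS (KZ.LFRes.pdlt_one_iff.2 h₂)
    ((KZ.LFRes.pdlt_one_iff.2 h₃).mono (Nat.le_succ _)))

theorem vb_X₂ {S : ShortComplex (KRR.PY n Y).Modules} (hS : S.ShortExact) (h₁ : FlatMod.IsFinLocFree S.X₁)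
    (h₃ : FlatMod.IsFinLocFree S.X₃) : FlatMod.IsFinLocFree S.X₂ := by
  haveI := isNoetherian_PY (n := n) (Y := Y)
  exact KZ.LFRes.pdlt_one_iff.1 (KZ.LFRes.PDLT.ext hS (KZ.LFRes.pdlt_one_iff.2 h₁) (KZ.LFRes.pdlt_one_iff.2 h₃))

theorem good_vb : GoodP (KRR.vbP (KRR.PY n Y)) where
  zero _ hZ := isFinLocFree_zero hZ
  biprod A B hA hB := vb_X₂ (ShortComplex.Splitting.ofHasBinaryBiproduct A B).shortExact hA hB

theorem isQCoh_vb {F : (KRR.PY n Y).Modules} (hF : FlatMod.IsFinLocFree F) : Coh.IsQCoh F :=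
  QCoh.isQCoh_of_isFinLocFree hF

theorem isRegSheaf_zero {Z : (KRR.PY n Y).Modules} (hZ : IsZero Z) : KRR.IsRegSheaf n Y Z := by
  have hq := isQCoh_vb (n := n) (Y := Y) (isFinLocFree_zero hZ)
  exact (isRegSheaf_iff hq).2 fun V q _ => Euler.subsingleton_HH_of_isZero
    ((AmpleVan.tw (O (gV n V.1) (-(q : ℤ)))).map_isZero
      ((Scheme.Modules.restrictFunctor (UV n V.1).ι).map_isZero hZ)) q

theorem rb_X₂ {S : ShortComplex (KRR.PY n Y).Modules} (hS : S.ShortExact) (h₁ : RB n Y S.X₁)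
    (h₃ : RB n Y S.X₃) : RB n Y S.X₂ := by
  have h2 := vb_X₂ hS h₁.1 h₃.1
  exact ⟨h2, isRegSheaf_X₂ hS (isQCoh_vb h₁.1) (isQCoh_vb h2) (isQCoh_vb h₃.1) h₁.2 h₃.2⟩

theorem good_rb : GoodP (RB n Y) where
  zero _ hZ := ⟨isFinLocFree_zero hZ, isRegSheaf_zero hZ⟩
  biprod A B hA hB := rb_X₂ (ShortComplex.Splitting.ofHasBinaryBiproduct A B).shortExact hA hB

abbrev coords (n : ℕ) : List (ULift.{u} (Fin (n + 1))) :=
  (Finset.univ : Finset (ULift.{u} (Fin (n + 1)))).toList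

theorem length_coords : (coords.{u} n).length = n + 1 := by simp [coords]

section Relation

variable {F : (KRR.PY n Y).Modules}

theorem vb_kernel (hF : FlatMod.IsFinLocFree F) (d : ℤ) :
    ∀ p, FlatMod.IsFinLocFree (kernel (dd (tg F) (mulX (gfst n Y) F) (coords n) d p))
  | 0 => by
    haveI := epi_dd (tg F) (mulX (gfst n Y) F) (mulX_comm (gfst n Y) F) (coords n) (covered (gfst n Y) F) d
    exact vb_X₁ (KZ.kerSeq_shortExact (dd (tg F) (mulX (gfst n Y) F) (coords n) d 0))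
      (good_vb.obj (tg F) _ d 1 fun _ => isFinLocFree_tg hF _)
      (good_vb.obj (tg F) _ d 0 fun _ => isFinLocFree_tg hF _)
  | p + 1 => vb_X₁ (shortExact_piece (tg F) (mulX (gfst n Y) F) (mulX_comm (gfst n Y) F) (coords n) d p
      (exact_dd (tg F) (mulX (gfst n Y) F) (mulX_comm (gfst n Y) F) (coords n) (covered (gfst n Y) F) d p))
      (good_vb.obj (tg F) _ d (p + 2) fun _ => isFinLocFree_tg hF _) (vb_kernel hF d p)

theorem rb_kernel (hF : FlatMod.IsFinLocFree F) (d : ℤ)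
    (hM : ∀ p : ℕ, p ≤ (coords.{u} n).length → RB n Y (tg F (d - p))) (p : ℕ) :
    RB n Y (kernel (dd (tg F) (mulX (gfst n Y) F) (coords n) d p)) := by
  suffices ∀ m p, (coords.{u} n).length ≤ p + m → RB n Y (kernel (dd (tg F) (mulX (gfst n Y) F) (coords n) d p)) from
    this _ p (Nat.le_add_left _ _)
  intro m
  induction m with
  | zero =>
    intro p hp
    exact (good_rb (n := n) (Y := Y)).zero _
      (IsZero.of_mono (kernel.ι _) (isZero_obj (tg F) (coords n) d (p + 1) (by omega)))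
  | succ m ih =>
    intro p hp
    have h1 := ih (p + 1) (by omega)
    have h2 := good_rb.obj (tg F) (coords n) d (p + 2) (hM (p + 2))
    have h3 := vb_kernel hF d p
    let S : ShortComplex (KRR.PY n Y).Modules := ShortComplex.mk
      (kernel.ι (dd (tg F) (mulX (gfst n Y) F) (coords n) d (p + 1)))
      (kernel.lift (dd (tg F) (mulX (gfst n Y) F) (coords n) d p) (dd (tg F) (mulX (gfst n Y) F) (coords n) d (p + 1))
        (dd_dd (tg F) (mulX (gfst n Y) F) (mulX_comm (gfst n Y) F) (coords n) d p))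
      (by rw [← cancel_mono (kernel.ι (dd (tg F) (mulX (gfst n Y) F) (coords n) d p)), Category.assoc, kernel.lift_ι,
        kernel.condition, zero_comp])
    have hS : S.ShortExact := shortExact_piece (tg F) (mulX (gfst n Y) F) (mulX_comm (gfst n Y) F) (coords n) d p
      (exact_dd (tg F) (mulX (gfst n Y) F) (mulX_comm (gfst n Y) F) (coords n) (covered (gfst n Y) F) d p)
    have q1 : Coh.IsQCoh S.X₁ := isQCoh_vb h1.1
    have q2 : Coh.IsQCoh S.X₂ := isQCoh_vb h2.1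
    have q3 : Coh.IsQCoh S.X₃ := isQCoh_vb h3
    have r1 : KRR.IsRegSheaf n Y
        (KRR.twF n Y 1 (kernel (dd (tg F) (mulX (gfst n Y) F) (coords n) d (p + 1)))) := by
      have := isRegSheaf_twF (isQCoh_vb h1.1) h1.2 1
      rwa [Nat.cast_one] at this
    refine ⟨h3, ?_⟩
    exact isRegSheaf_X₃ (S' := S) hS q1 q2 q3 h2.2 r1

theorem fdiff_vb (hF : FlatMod.IsFinLocFree F) (j : ℤ) :
    fdiff (n + 1) (fun i => KZero.clSub (KRR.vbP (KRR.PY n Y)) (tg F i)) j = 0 := by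
  have h := good_vb.fdiff_eq_zero (tg F) (mulX (gfst n Y) F) (mulX_comm (gfst n Y) F) (coords n)
    (covered (gfst n Y) F) (j + (n + 1 : ℕ)) (fun p _ => isFinLocFree_tg hF _) (vb_kernel hF _)
  rwa [length_coords, add_sub_cancel_right] at h

theorem fdiff_rb (hF : FlatMod.IsFinLocFree F) (j : ℤ) (h : ∀ i, j ≤ i → RB n Y (tg F i)) :
    fdiff (n + 1) (fun i => KZero.clSub (RB n Y) (tg F i)) j = 0 := by
  have hM : ∀ p : ℕ, p ≤ (coords.{u} n).length → RB n Y (tg F (j + (n + 1 : ℕ) - p)) := fun p hp => by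
    rw [length_coords] at hp
    exact h _ (by omega)
  have hh := good_rb.fdiff_eq_zero (tg F) (mulX (gfst n Y) F) (mulX_comm (gfst n Y) F) (coords n)
    (covered (gfst n Y) F) (j + (n + 1 : ℕ)) hM (rb_kernel hF _ hM)
  rwa [length_coords, add_sub_cancel_right] at hh

end Relation

theorem rb_tg_of_nonneg {F : (KRR.PY n Y).Modules} (hF : RB n Y F) (j : ℤ) (hj : 0 ≤ j) : RB n Y (tg F j) := by
  obtain ⟨m, rfl⟩ := Int.eq_ofNat_of_zero_le hj
  exact ⟨isFinLocFree_tg hF.1 _, isRegSheaf_of_iso n Y (tg_iso F _).some.symm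
    (isRegSheaf_twF (isQCoh_vb hF.1) hF.2 m)⟩

theorem exists_bound_affine {F : (KRR.PY n Y).Modules} (hF : Coh.IsCoh F) (V : Y.affineOpens) :
    ∃ d₀ : ℕ, ∀ d : ℕ, d₀ ≤ d → ∀ q,
      Subsingleton (Coh.HH (UV n V.1).toScheme (tw (gV n V.1) (F.restrict (UV n V.1).ι) (d : ℤ)) (q + 1)) := by
  haveI := isProper_pr (n := n) (T := Y)
  letI : (UV n V.1).toScheme.Over (Spec (CommRingCat.of Γ(Y, V.1))) := ⟨QCoh.overSpec (KRR.pr n Y) V.2⟩
  haveI : IsProper ((UV n V.1).toScheme ↘ Spec (CommRingCat.of Γ(Y, V.1))) :=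
    inferInstanceAs (IsProper ((KRR.pr n Y ∣_ V.1) ≫ V.2.isoSpec.hom))
  haveI : IsNoetherianRing Γ(Y, V.1) := IsLocallyNoetherian.component_noetherian V
  obtain ⟨d₀, hd₀⟩ := AmpleVan.exists_vanishing (A := Γ(Y, V.1)) (X := (UV n V.1).toScheme)
    (isAmple_gV V) (M := F.restrict (UV n V.1).ι) (QCoh.isCoh_restrict_open hF)
  refine ⟨d₀, fun d hd q => QCoh.subsingleton_HH_of_iso (cl_eq_iff.1 ?_).some _ (hd₀ d hd q)⟩
  rw [cl_tensor, cl_tensor, cl_tensorPow, cl_O_pow]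

theorem exists_regular_bound {F : (KRR.PY n Y).Modules} (hF : FlatMod.IsFinLocFree F) :
    ∃ m : ℤ, 0 ≤ m ∧ ∀ j, m ≤ j → RB n Y (tg F j) := by
  classical
  choose d₀ hd₀ using exists_bound_affine (isCoh_of_finLocFree hF)
  obtain ⟨t, ht⟩ := isCompact_univ.elim_finite_subcover (fun V : Y.affineOpens => (V.1 : Set Y))
    (fun V => V.1.isOpen) (fun y _ => by
      obtain ⟨U, hU, hy, -⟩ := exists_isAffineOpen_mem_and_subset (x := y) (U := ⊤) trivial
      exact Set.mem_iUnion.2 ⟨⟨U, hU⟩, hy⟩)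
  refine ⟨((t.sup d₀ + n : ℕ) : ℤ), Int.natCast_nonneg _, fun j hj => ⟨isFinLocFree_tg hF j, ?_⟩⟩
  refine isRegSheaf_of_iso n Y (tg_iso F j).some.symm fun q hq => ?_
  obtain ⟨p, rfl⟩ := Nat.exists_eq_add_of_le' hq
  haveI := isProper_pr (n := n) (T := Y)
  refine CohBasic.isZero_RpushAb_of_HH (KRR.pr n Y) (isQCoh_twF (isQCoh_twF (isQCoh_vb hF) j) _) p
    (fun V : t => V.1.1) (fun V => V.1.2) (fun y => ?_) fun V => ?_
  · obtain ⟨V, hVt, hy⟩ := Set.mem_iUnion₂.1 (ht (Set.mem_univ y))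
    exact ⟨⟨V, hVt⟩, hy⟩
  by_cases hp : n + 1 ≤ p + 1
  · exact subsingleton_HH_UV_gt (isQCoh_twF (isQCoh_twF (isQCoh_vb hF) j) _) V.1 _ hp
  have hd : d₀ V.1 ≤ (j - ((p + 1 : ℕ) : ℤ)).toNat := by
    have := Finset.le_sup (f := d₀) V.2
    omega
  obtain ⟨e⟩ := twF_twF F (-((p + 1 : ℕ) : ℤ)) j
  refine QCoh.subsingleton_HH_of_iso (((Scheme.Modules.restrictFunctor _).mapIso e ≪≫
    (twF_restrict_iso F V.1.1 _).some).symm) _ ?_
  have h := hd₀ V.1 _ hd p
  rwa [show (((j - ((p + 1 : ℕ) : ℤ)).toNat : ℕ) : ℤ) = -((p + 1 : ℕ) : ℤ) + j by omega] at h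

open scoped Classical in
/-- The value at `0` of the class of `F(j)` in regular bundles. -/
def rbClass (F : (KRR.PY n Y).Modules) : KZero.K0sub (RB n Y) :=
  if h : FlatMod.IsFinLocFree F then
    extend n (fun i => KZero.clSub (RB n Y) (tg F i)) (exists_regular_bound h).choose
  else 0

theorem rbClass_eq {F : (KRR.PY n Y).Modules} (hF : FlatMod.IsFinLocFree F) (m : ℤ)
    (hm : ∀ j, m ≤ j → RB n Y (tg F j)) :
    rbClass F = extend n (fun i => KZero.clSub (RB n Y) (tg F i)) m := by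
  rw [rbClass, dif_pos hF]
  obtain ⟨-, h₀⟩ := (exists_regular_bound hF).choose_spec
  let a := fun i => KZero.clSub (RB n Y) (tg F i)
  rcases le_total m (exists_regular_bound hF).choose with h | h
  · exact extend_eq_of_le n a m (fun j hj => fdiff_rb hF j fun i hi => hm i (hj.trans hi)) _ h
  · exact (extend_eq_of_le n a _ (fun j hj => fdiff_rb hF j fun i hi => h₀ i (hj.trans hi)) _ h).symm

theorem shortExact_tg {S : ShortComplex (KRR.PY n Y).Modules} (hS : S.ShortExact) (j : ℤ) :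
    (S.map (AmpleVan.tw (O (gfst n Y) j))).ShortExact := shortExact_tw hS j

theorem rbClass_add {S : ShortComplex (KRR.PY n Y).Modules} (hS : S.ShortExact)
    (h₁ : FlatMod.IsFinLocFree S.X₁) (h₂ : FlatMod.IsFinLocFree S.X₂) (h₃ : FlatMod.IsFinLocFree S.X₃) :
    rbClass S.X₂ = rbClass S.X₁ + rbClass S.X₃ := by
  obtain ⟨m₁, -, e₁⟩ := exists_regular_bound h₁
  obtain ⟨m₂, -, e₂⟩ := exists_regular_bound h₂
  obtain ⟨m₃, -, e₃⟩ := exists_regular_bound h₃
  let m := max m₁ (max m₂ m₃)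
  rw [rbClass_eq h₁ m fun j hj => e₁ j (by omega), rbClass_eq h₂ m fun j hj => e₂ j (by omega),
    rbClass_eq h₃ m fun j hj => e₃ j (by omega), ← extend_add]
  exact extend_congr n fun j hj => KZ.clSub_ses (RB n Y) (shortExact_tg hS j)
    (e₁ j (by omega)) (e₂ j (by omega)) (e₃ j (by omega))

theorem exists_inverse :
    ∃ ψ : SGA6.Kvb (KRR.PY n Y) →+ KZero.K0sub (RB n Y),
      ∀ F, FlatMod.IsFinLocFree F → ψ (KRR.cl (KRR.PY n Y) F) = rbClass F :=
  KZ.exists_liftSub (KRR.vbP (KRR.PY n Y)) rbClass fun _ hS h₁ h₂ h₃ => rbClass_add hS h₁ h₂ h₃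

theorem iso_tg_zero (F : (KRR.PY n Y).Modules) : Nonempty (tg F 0 ≅ F) := tw_zero_iso _ F

theorem mapSub_clSub (h : ∀ M, RB n Y M → FlatMod.IsFinLocFree M) {M : (KRR.PY n Y).Modules} (hM : RB n Y M) :
    SGA6.mapSub (𝟭 (KRR.PY n Y).Modules) (RB n Y) (KRR.vbP (KRR.PY n Y)) h (KZero.clSub (RB n Y) M) =
      KRR.cl (KRR.PY n Y) M := by
  rw [KZ.clSub_of_prop (RB n Y) hM, KRR.cl, KZ.clSub_of_prop (KRR.vbP (KRR.PY n Y)) hM.1]
  rfl

/-- Regular bundles compute `K(P^n_Y)`. -/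
theorem bijective_mapSub (h : ∀ M, RB n Y M → FlatMod.IsFinLocFree M) :
    Function.Bijective (SGA6.mapSub (𝟭 (KRR.PY n Y).Modules) (RB n Y) (KRR.vbP (KRR.PY n Y)) h) := by
  obtain ⟨ψ, hψ⟩ := exists_inverse (n := n) (Y := Y)
  let ι := SGA6.mapSub (𝟭 (KRR.PY n Y).Modules) (RB n Y) (KRR.vbP (KRR.PY n Y)) h
  have h1 : ψ.comp ι = AddMonoidHom.id _ := KZ.K0sub_hom_ext (RB n Y) fun M hM => by
    show ψ (ι (KZero.clSub (RB n Y) M)) = KZero.clSub (RB n Y) M
    rw [mapSub_clSub h hM, hψ M hM.1, rbClass_eq hM.1 0 (rb_tg_of_nonneg hM), extend_zero]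
    exact KZ.clSub_iso _ (iso_tg_zero M).some (rb_tg_of_nonneg hM 0 le_rfl) hM (isZero_zero _)
      (good_rb.zero _ (isZero_zero _))
  have h2 : ι.comp ψ = AddMonoidHom.id _ := KZ.K0sub_hom_ext (KRR.vbP (KRR.PY n Y)) fun M hM => by
    show ι (ψ (KRR.cl _ M)) = KRR.cl _ M
    obtain ⟨m, hm0, hm⟩ := exists_regular_bound hM
    rw [hψ M hM, rbClass_eq hM m hm, extend_map]
    refine (extend_congr n fun j hj => mapSub_clSub h (hm j hj)).trans ?_
    rw [extend_eq_of_le n _ 0 (fun j _ => fdiff_vb hM j) m hm0, extend_zero]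
    exact cl_iso (iso_tg_zero M).some (isFinLocFree_tg hM 0)
  exact Function.bijective_iff_has_inverse.2
    ⟨ψ, fun x => DFunLike.congr_fun h1 x, fun x => DFunLike.congr_fun h2 x⟩

end Groth.Agent.KRRReg
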