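import Groth.Agent.KRRReg.BaseChange
import Groth.Agent.KRRReg.Choose
import Groth.Agent.KRRReg.Ample
import Groth.Agent.KRRReg.KZero
import Groth.Agent.S0843

/-!
# The class of `p_* O(m)`
-/

set_option linter.style.haveILetI false
set_option linter.unusedSectionVars false
set_option backward.isDefEq.respectTransparency false
set_option backward.isDefEq.respectTransparency.types false
set_option maxHeartbeats 1000000
set_option synthInstance.maxHeartbeats 200000
set_option autoImplicit false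

universe u v

open CategoryTheory CategoryTheory.Limits AlgebraicGeometry TopologicalSpace Opposite
open Groth.Agent.H23.PicMul

attribute [-instance] ULift.module ULift.smulLeft ULift.mulAction ULift.smulZeroClass ULift.distribSMul
  ULift.distribMulAction ULift.smulWithZero ULift.mulActionWithZero

noncomputable section

namespace Groth.Agent.KRRReg

open Groth.Agent MvPolynomial

theorem finite_free_finrank_homogeneous (k : Type u) [CommRing k] [Nontrivial k] (r n : ℕ) :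
    Module.Free k (homogeneousSubmodule (Fin (r + 1)) k n) ∧
    Module.Finite k (homogeneousSubmodule (Fin (r + 1)) k n) ∧
      Module.finrank k (homogeneousSubmodule (Fin (r + 1)) k n) = Nat.choose (r + n) n := by
  classical
  let S : Set (Fin (r + 1) →₀ ℕ) := {e | e.degree = n}
  let e : {a // a ∈ (Finset.univ : Finset (Fin (r + 1))).finsuppAntidiag n} ≃ S :=
    Equiv.subtypeEquivRight fun a => by simp [S, Finset.mem_finsuppAntidiag, Finsupp.degree_eq_sum]
  haveI : Fintype S := Fintype.ofEquiv _ e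
  let φ : homogeneousSubmodule (Fin (r + 1)) k n ≃ₗ[k] (S →₀ k) :=
    (LinearEquiv.ofEq _ _ (homogeneousSubmodule_eq_finsupp_supported (σ := Fin (r + 1)) (R := k) n)).trans
      (AddMonoidAlgebra.supportedEquivFinsupp S)
  refine ⟨Module.Free.of_equiv φ.symm, Module.Finite.equiv φ.symm, ?_⟩
  rw [φ.finrank_eq, Module.finrank_finsupp_self, ← Fintype.card_congr e, Fintype.card_coe,
    Finset.card_finsuppAntidiag_nat_eq_choose, Finset.card_univ, Fintype.card_fin]
  congr 1
  omega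

/-- The base `Spec ℤ`. -/
abbrev Y0 : Scheme.{u} := Spec (CommRingCat.of Zu.{u})

instance isIso_gfst_Y0 (n : ℕ) : IsIso (gfst n Y0.{u}) := by
  haveI : IsIso (specULiftZIsTerminal.from Y0.{u}) := by
    rw [specULiftZIsTerminal.hom_ext (specULiftZIsTerminal.from Y0.{u}) (𝟙 _)]; infer_instance
  exact inferInstanceAs (IsIso (pullback.fst _ _))

theorem zu_linearEquiv {M N : Type u} [AddCommGroup M] [AddCommGroup N] [Module Zu.{u} M] [Module Zu.{u} N]
    (e : M ≃+ N) : Nonempty (M ≃ₗ[Zu.{u}] N) :=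
  ⟨e.toLinearEquiv fun a x => by rw [CohBasic.down_smul, CohBasic.down_smul, map_zsmul]⟩

theorem nonempty_sections_iso {P X : Scheme.{u}} (i : P ⟶ X) [IsIso i] (G : X.Modules) :
    Nonempty (Γ((Scheme.Modules.pullback i).obj G, ⊤) ≃+ Γ(G, ⊤)) := by
  let a : ((Scheme.Modules.restrictFunctor i).obj G) ≅ (Scheme.Modules.pullback i).obj G :=
    (Scheme.Modules.restrictFunctorIsoPullback i).app G
  have hi : i ''ᵁ (⊤ : P.Opens) = ⊤ := by
    rw [Scheme.Hom.image_top_eq_opensRange]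
    exact TopologicalSpace.Opens.ext i.surjective.range_eq
  haveI : IsIso (homOfLE hi.ge) := ⟨homOfLE hi.le, Subsingleton.elim _ _, Subsingleton.elim _ _⟩
  let c : G.presheaf.obj (op (⊤ : X.Opens)) ⟶ G.presheaf.obj (op (i ''ᵁ (⊤ : P.Opens))) :=
    G.presheaf.map (homOfLE (le_top : i ''ᵁ (⊤ : P.Opens) ≤ ⊤)).op
  haveI : IsIso (homOfLE (le_top : i ''ᵁ (⊤ : P.Opens) ≤ ⊤)) :=
    ⟨homOfLE hi.ge, Subsingleton.elim _ _, Subsingleton.elim _ _⟩
  haveI : IsIso c := inferInstanceAs (IsIso (G.presheaf.map _))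
  exact ⟨(asIso (a.hom.app ⊤)).symm.addCommGroupIsoToAddEquiv.trans (asIso c).symm.addCommGroupIsoToAddEquiv⟩

variable {n : ℕ}

theorem twF_structure_iso (Y : Scheme.{u}) (d : ℤ) :
    Nonempty (KRR.twF n Y d (Coh.structureModule (KRR.PY n Y)) ≅ O (gfst n Y) d) :=
  cl_eq_iff.1 (by rw [cl_twF]; exact mul_one _)

theorem isFinLocFree_twF_structure (Y : Scheme.{u}) (d : ℤ) :
    FlatMod.IsFinLocFree (KRR.twF n Y d (Coh.structureModule (KRR.PY n Y))) :=
  isFinLocFree_iso (twF_structure_iso Y d).some.symm (H23.PullPush.isFinLocFree_of_isInvertible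
    (PicClLib.isInvertible_pullback _ (TwistFlat.isInvertible_twistProjSpace n d)))

theorem isRegSheaf_twF_structure (Y : Scheme.{u}) (m : ℕ) :
    KRR.IsRegSheaf n Y (KRR.twF n Y (m : ℤ) (Coh.structureModule (KRR.PY n Y))) :=
  isRegSheaf_twF QCoh.isQCoh_structureModule (isRegSheaf_structure n Y) m

/-- `p_* O(m)` is free over `Spec ℤ`. -/
theorem nonempty_push_Y0_iso (m : ℕ) :
    Nonempty ((Scheme.Modules.pushforward (KRR.pr n Y0.{u})).obj
        (KRR.twF n Y0 (m : ℤ) (Coh.structureModule (KRR.PY n Y0))) ≅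
      FlatMod.freeMod Y0.{u} (Nat.choose (n + m) m)) := by
  let T := Twist.twistProjSpace n Zu.{u} (m : ℤ)
  let F := KRR.twF n Y0.{u} (m : ℤ) (Coh.structureModule (KRR.PY n Y0))
  let p := KRR.pr n Y0.{u}
  let N := (Scheme.Modules.pushforward p).obj F
  haveI := isProper_pr (n := n) (T := Y0.{u})
  have hN : Coh.IsQCoh N := QCoh.isQCoh_pushforward p (QCoh.isQCoh_of_isFinLocFree (isFinLocFree_twF_structure _ _))
  obtain ⟨ε⟩ := twF_structure_iso (n := n) Y0.{u} (m : ℤ)
  obtain ⟨e₁⟩ := nonempty_sections_iso (gfst n Y0.{u}) T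
  let ρ := Coh.toGlobal (A := Zu.{u}) ((Pz n) ↘ Spec (CommRingCat.of Zu.{u}))
  letI := QCoh.secModule ρ T ⊤
  letI := QCoh.modHH ρ T 0
  obtain ⟨t⟩ : Nonempty (Coh.HH (Pz n) T 0 ≃ₗ[Zu.{u}] homogeneousSubmodule (Fin (n + 1)) Zu.{u} m) :=
    S0843.result Zu.{u} n m
  let e : (moduleSpecΓFunctor (R := CommRingCat.of Zu.{u})).obj N ≃+ homogeneousSubmodule (Fin (n + 1)) Zu.{u} m :=
    ((asIso (ε.hom.app (⊤ : (KRR.PY n Y0.{u}).Opens))).addCommGroupIsoToAddEquiv.trans e₁).trans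
      ((QCoh.secH ρ T).toAddEquiv.trans t.toAddEquiv)
  obtain ⟨l⟩ := zu_linearEquiv (M := ↑((moduleSpecΓFunctor (R := CommRingCat.of Zu.{u})).obj N))
    (N := ↥(homogeneousSubmodule (Fin (n + 1)) Zu.{u} m)) e
  obtain ⟨hfree, hfin, hrank⟩ := finite_free_finrank_homogeneous Zu.{u} n m
  let b := Module.finBasisOfFinrankEq Zu.{u} (homogeneousSubmodule (Fin (n + 1)) Zu.{u} m) hrank
  exact QCoh.exists_freeIso_of_linearEquiv hN (l.trans (b.reindex Equiv.ulift.{u}.symm).repr)

variable (Y : Scheme.{u}) [IsNoetherian Y]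

theorem nonempty_push_twF_iso (m : ℕ) :
    Nonempty ((Scheme.Modules.pushforward (KRR.pr n Y)).obj
        (KRR.twF n Y (m : ℤ) (Coh.structureModule (KRR.PY n Y))) ≅
      FlatMod.freeMod Y (Nat.choose (n + m) m)) := by
  let φ : Y ⟶ Y0.{u} := specULiftZIsTerminal.from Y
  have hsq : KRR.projSpaceMap n φ ≫ KRR.pr n Y0 = KRR.pr n Y ≫ φ := specULiftZIsTerminal.hom_ext _ _
  let F₀ := KRR.twF n Y0.{u} (m : ℤ) (Coh.structureModule (KRR.PY n Y0))
  haveI := isIso_bcMap φ hsq (isFinLocFree_twF_structure Y0 (m : ℤ)) (isRegSheaf_twF_structure (n := n) Y0 m)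
  obtain ⟨e⟩ := nonempty_push_Y0_iso.{u} (n := n) m
  obtain ⟨c⟩ := twF_pullback_iso φ (Coh.structureModule (KRR.PY n Y0)) (m : ℤ)
  obtain ⟨s⟩ := PicClLib.nonempty_pullback_structureModule (KRR.projSpaceMap n φ)
  exact ⟨(Scheme.Modules.pushforward (KRR.pr n Y)).mapIso
      ((DCoh.tensorBi.obj (Twist.twistOver n Y (m : ℤ))).mapIso s.symm ≪≫ c) ≪≫
    (asIso (KRR.bcMap n φ hsq F₀)).symm ≪≫ (Scheme.Modules.pullback φ).mapIso e ≪≫ KFlatLib.pullFreeIso φ _⟩

variable {KP : Type*} [CommRing KP] {KY : Type*} [CommRing KY] {φP : SGA6.Kvb (KRR.PY n Y) →+ KP}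
  {φY : SGA6.Kvb Y →+ KY} (hKY : IsRingModel Y KY φY) {g : KP →+ KY} (hg : KRR.IsPushPr n Y φP φY g)

include hKY hg in
theorem push_class_nonneg (m : ℕ) :
    g (φP (KRR.cl (KRR.PY n Y) (KRR.twF n Y (m : ℤ) (Coh.structureModule (KRR.PY n Y))))) =
      (Nat.choose (n + m) m : KY) := by
  obtain ⟨e⟩ := nonempty_push_twF_iso (n := n) Y m
  rw [hg _ (isFinLocFree_twF_structure Y _) (isRegSheaf_twF_structure Y m),
    cl_iso e (isFinLocFree_iso e.symm (KFlatLib.isFinLocFree_freeMod _)), cl_freeMod, map_nsmul, hKY.map_one,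
    nsmul_one]

include hKY hg in
theorem push_class (t : ℤ) :
    g (φP (KRR.cl (KRR.PY n Y) (KRR.twF n Y t (Coh.structureModule (KRR.PY n Y))))) =
      ((Ring.choose (t + n) n : ℤ) : KY) := by
  let O₁ := Coh.structureModule (KRR.PY n Y)
  have hO : FlatMod.IsFinLocFree O₁ := isFinLocFree_structure _
  have hcl : ∀ j, KZero.clSub (KRR.vbP (KRR.PY n Y)) (tg O₁ j) = KRR.cl (KRR.PY n Y) (KRR.twF n Y j O₁) :=
    fun j => cl_iso (tg_iso O₁ j).some
      (isFinLocFree_iso (tg_iso O₁ j).some.symm (isFinLocFree_twF_structure Y j))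
  let a : ℤ → KY := fun j => g (φP (KRR.cl (KRR.PY n Y) (KRR.twF n Y j O₁)))
  let c : ℤ → KY := fun j => -((Ring.choose (j + n) n : ℤ) : KY)
  have hΔ : ∀ j, fdiff (n + 1) (fun i => a i + c i) j = 0 := fun j => by
    rw [fdiff_add]
    have h1 : fdiff (n + 1) a j = 0 := by
      have h := congrArg (g.comp φP) (fdiff_vb (F := O₁) hO j)
      rw [map_zero, fdiff_map] at h
      refine Eq.trans ?_ h
      refine fdiff_congr (m := j) (fun i _ => ?_) _ j le_rfl
      show _ = g (φP _)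
      rw [hcl]
    have h2 : fdiff (n + 1) c j = 0 := by
      have h := congrArg (-(Int.castAddHom KY)) (fdiff_choose n (n : ℤ) j)
      rw [map_zero, fdiff_map] at h
      exact h
    rw [h1, h2, add_zero]
  have hval : ∀ i : ℕ, i ≤ n → a i + c i = 0 := fun i _ => by
    show g (φP _) + -((Ring.choose ((i : ℤ) + n) n : ℤ) : KY) = 0
    rw [push_class_nonneg Y hKY hg i, ← Nat.cast_add, Ring.choose_natCast, Int.cast_natCast,
      add_comm i n, Nat.choose_symm_add, add_neg_cancel]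
  exact add_neg_eq_zero.1 (eq_zero_of_fdiff n _ hΔ hval t)

include hKY hg in
theorem push_class_neg (i : ℕ) (hi : 1 ≤ i) (hin : i ≤ n) :
    g (φP (KRR.cl (KRR.PY n Y) (KRR.twF n Y (-(i : ℤ)) (Coh.structureModule (KRR.PY n Y))))) = 0 := by
  rw [push_class Y hKY hg, show (-(i : ℤ) + n) = ((n - i : ℕ) : ℤ) by omega, Ring.choose_natCast,
    Nat.choose_eq_zero_of_lt (by omega)]
  simp

end Groth.Agent.KRRReg
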