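import Groth.Agent.KRRReg.PushOps
import Groth.Agent.KRRReg.PushTw
import Groth.Agent.PruferCoh.Chart
import Groth.Agent.Lib.AmpleEmbed
import Groth.Agent.KRegLib.Closed
import Groth.Agent.CurvLocusLib.LocP
import Groth.Agent.H23.SpClosed
import Groth.Agent.KFlatLib.Scheme.RpushRestrict
import Groth.Agent.CohBasic.RpushAbZero
import Groth.Agent.S4654

/-!
# Sections of projective space
-/

set_option linter.style.haveILetI false
set_option linter.unusedSectionVars false
set_option backward.isDefEq.respectTransparency false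
set_option backward.isDefEq.respectTransparency.types false
set_option maxHeartbeats 1000000
set_option autoImplicit false

universe u v

open CategoryTheory CategoryTheory.Limits AlgebraicGeometry TopologicalSpace Opposite ZeroObject

open Groth.Agent.H23.PicMul

noncomputable section

namespace Groth.Agent.KRRReg

open Groth.Agent

/-- A closed immersion into a smooth scheme over the base of a local complete intersection is regular. -/
theorem regClosed_of_lci_into_smooth {X Y Z : Scheme.{u}} [IsLocallyNoetherian Z] (i : X ⟶ Z)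
    [IsClosedImmersion i] (p : Z ⟶ Y) [Smooth p] (hl : KRegLib.IsLCI' (i ≫ p)) :
    Mor2.IsRegularClosedImmersion i := by
  refine ⟨inferInstance, fun z => ?_⟩
  rw [HasRingHomProperty.iff_appLE (P := KRegLib.IsLCI'.{u})] at hl
  obtain ⟨V, hV, hzV, -⟩ := exists_isAffineOpen_mem_and_subset (U := ⊤) (x := p (i z)) trivial
  obtain ⟨W, hW, hzW, hWV⟩ := exists_isAffineOpen_mem_and_subset (U := p ⁻¹ᵁ V) (x := i z) hzV
  have hWV : W ≤ p ⁻¹ᵁ V := hWV
  have hU : IsAffineOpen (i ⁻¹ᵁ W) := hW.preimage i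
  have e : i ⁻¹ᵁ W ≤ (i ≫ p) ⁻¹ᵁ V := fun y hy => hWV hy
  letI : Algebra Γ(Y, V) Γ(Z, W) := (p.appLE V W hWV).hom.toAlgebra
  haveI : Algebra.Smooth Γ(Y, V) Γ(Z, W) := p.smooth_appLE hV hW hWV
  letI : Algebra Γ(Y, V) Γ(X, i ⁻¹ᵁ W) := ((i ≫ p).appLE V (i ⁻¹ᵁ W) e).hom.toAlgebra
  let ψ : Γ(Z, W) →ₐ[Γ(Y, V)] Γ(X, i ⁻¹ᵁ W) := ⟨(i.app W).hom, fun a => by
    show (p.appLE V W hWV ≫ i.app W) a = _
    rw [Scheme.Hom.app_eq_appLE, Scheme.Hom.appLE_comp_appLE]
    rfl⟩
  have hs : Function.Surjective ψ := i.app_surjective W hW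
  have hK := KRegLib.kReg_of_isLCI (A := Γ(Y, V)) (hl ⟨V, hV⟩ ⟨i ⁻¹ᵁ W, hU⟩ e) ψ hs
    (hU.primeIdealOf ⟨z, hzW⟩).asIdeal
  have hp := congrArg PrimeSpectrum.asIdeal
    (IsAffineOpen.comap_primeIdealOf_appLE (f := i) W hW (i ⁻¹ᵁ W) hU le_rfl hzW)
  rw [← Scheme.Hom.app_eq_appLE] at hp
  haveI : IsNoetherianRing Γ(Z, W) := IsLocallyNoetherian.component_noetherian ⟨W, hW⟩
  obtain ⟨g, hg, rs, hrs, hrsI⟩ := KRegLib.exists_isRegular_of_kReg _ _ (fun x hx => by
    rw [Ideal.mem_comap, show ψ.toRingHom x = 0 from hx]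
    exact zero_mem _) hK
  rw [show (ψ.toRingHom : Γ(Z, W) →+* Γ(X, i ⁻¹ᵁ W)) = (i.app W).hom from rfl] at hrsI
  have hg' : g ∉ (hW.primeIdealOf ⟨i z, hzW⟩).asIdeal := hp ▸ hg
  letI : Algebra Γ(Z, W) Γ(Z, Z.basicOpen g) := (Z.presheaf.map (homOfLE (Z.basicOpen_le g)).op).hom.toAlgebra
  haveI : IsLocalization.Away g Γ(Z, Z.basicOpen g) := hW.isLocalization_basicOpen g
  let ee : Localization.Away g ≃ₐ[Γ(Z, W)] Γ(Z, Z.basicOpen g) :=
    IsLocalization.algEquiv (Submonoid.powers g) _ _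
  have hzg : i z ∈ Z.basicOpen g := by
    rw [← hW.fromSpec_image_basicOpen g]
    exact ⟨hW.primeIdealOf ⟨i z, hzW⟩, hg', hW.fromSpec_primeIdealOf _⟩
  refine ⟨Z.basicOpen g, hW.basicOpen g, hzg, rs.map ee, ?_, ?_⟩
  · refine (AddEquiv.isRegular_congr (e := ee.toRingEquiv.toAddEquiv) (as := rs) (bs := rs.map ee) ?_).1 hrs
    exact List.forall₂_map_right_iff.2 (List.forall₂_same.2 fun x _ y => map_mul ee x y)
  · obtain ⟨hD', hDs⟩ := Synt29.surjective_app_of_isClosedImmersion_restrict i W hW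
    rw [Scheme.Hom.ker_apply]
    refine Eq.trans (KRegLib.app_basicOpen_props i hW hD' hDs g).2.2 ?_
    have h4 : (Ideal.ofList rs).map ee.toRingEquiv.toRingHom = Ideal.ofList (rs.map ee) := Ideal.map_ofList _ _
    rw [← h4, hrsI, Ideal.map_map]
    congr 1
    exact (RingHom.ext fun x => (ee.commutes x)).symm

theorem smooth_toSpec (n : ℕ) (k : Type u) [CommRing k] : Smooth (CohB1.ProjSpace.toSpec n k) := by
  refine IsZariskiLocalAtSource.of_iSup_eq_top
    (fun i : Fin (n + 1) => (Proj.awayι (CohB1.polyGrading n k) (MvPolynomial.X i)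
      (PruferCoh.X_mem_one n k i) Nat.one_pos).opensRange) ?_ fun i => ?_
  · simp only [Proj.opensRange_awayι]
    exact AmpleEmbed.iSup_basicOpen_X n k
  rw [← Scheme.Hom.isoOpensRange_inv_comp, Category.assoc]
  have h : Proj.awayι (CohB1.polyGrading n k) (MvPolynomial.X i) (PruferCoh.X_mem_one n k i) Nat.one_pos ≫
      CohB1.ProjSpace.toSpec n k = Spec.map (CommRingCat.ofHom (PruferCoh.base n k i)) := by
    show _ ≫ Proj.toSpecZero _ ≫ _ = _
    rw [← Category.assoc, Proj.awayι_toSpecZero, ← Spec.map_comp]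
    rfl
  rw [h]
  haveI : Smooth (Spec.map (CommRingCat.ofHom (PruferCoh.base n k i))) := by
    rw [HasRingHomProperty.Spec_iff (P := @Smooth)]
    show (PruferCoh.base n k i).Smooth
    have h : PruferCoh.base n k i = (PruferCoh.fromChart n k i).comp MvPolynomial.C :=
      RingHom.ext fun c => (MvPolynomial.eval₂Hom_C _ _ c).symm
    rw [h]
    refine RingHom.Smooth.stableUnderComposition _ _ ?_
      (RingHom.Smooth.of_bijective (PruferCoh.fromChart_bijective n k i))
    exact RingHom.smooth_algebraMap.2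
      (⟨inferInstance, inferInstance⟩ : Algebra.Smooth k (MvPolynomial (Fin n) k))
  infer_instance

variable {n : ℕ} {Y : Scheme.{u}} [IsNoetherian Y] {s : Y ⟶ KRR.PY n Y}

theorem smooth_pr : Smooth (KRR.pr n Y) :=
  MorphismProperty.pullback_snd _ _ (smooth_toSpec n Zu.{u})

theorem isClosedImmersion_section (hs : s ≫ KRR.pr n Y = 𝟙 Y) : IsClosedImmersion s := by
  haveI := isProper_pr (n := n) (T := Y)
  haveI : IsClosedImmersion (s ≫ KRR.pr n Y) := by rw [hs]; infer_instance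
  exact IsClosedImmersion.of_comp s (KRR.pr n Y)

theorem isRegularClosedImmersion_section (hs : s ≫ KRR.pr n Y = 𝟙 Y) : Mor2.IsRegularClosedImmersion s := by
  haveI := isNoetherian_PY (n := n) (Y := Y)
  haveI := isClosedImmersion_section hs
  haveI := smooth_pr (n := n) (Y := Y)
  refine regClosed_of_lci_into_smooth s (KRR.pr n Y) ?_
  rw [hs]
  exact (KRegLib.forall_isKoszulAt_iff (𝟙 Y)).1 fun x => CurvLocusLib.isKoszulAt_of_smooth _ x

/-- The structure module of a section is a regular sheaf. -/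
theorem isRegSheaf_section (hs : s ≫ KRR.pr n Y = 𝟙 Y) :
    KRR.IsRegSheaf n Y ((Scheme.Modules.pushforward s).obj (Coh.structureModule Y)) := by
  haveI := isClosedImmersion_section hs
  haveI := isProper_pr (n := n) (T := Y)
  intro q hq
  obtain ⟨k, rfl⟩ := Nat.exists_eq_add_of_le' hq
  let T := Twist.twistOver n Y (-((k + 1 : ℕ) : ℤ))
  let M := (DCoh.tensorBi.obj (Coh.structureModule Y)).obj ((Scheme.Modules.pullback s).obj T)
  have hTq : Coh.IsQCoh T := ProjUPX.isQCoh_of_isInvertible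
    (PicClLib.isInvertible_pullback _ (TwistFlat.isInvertible_twistProjSpace n _))
  have hM : Coh.IsQCoh M := KFlatLib.isQCoh_tensor QCoh.isQCoh_structureModule (QCoh.isQCoh_pullback s hTq)
  have hN : Coh.IsQCoh (KRR.twF n Y (-((k + 1 : ℕ) : ℤ)) ((Scheme.Modules.pushforward s).obj (Coh.structureModule Y))) :=
    isQCoh_twF (QCoh.isQCoh_pushforward s QCoh.isQCoh_structureModule) _
  haveI := KFlatLib.isIso_projMod_of_isClosedImmersion s (Coh.structureModule Y) T
  let ε : KRR.twF n Y (-((k + 1 : ℕ) : ℤ)) ((Scheme.Modules.pushforward s).obj (Coh.structureModule Y)) ≅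
      (Scheme.Modules.pushforward s).obj M :=
    CurveTensor.commIso T _ ≪≫ asIso (KFlatLib.projMod s (Coh.structureModule Y) T)
  refine (isZero_RpushAb_iff _ hN k).2 fun V => ?_
  let W := UV n V.1
  haveI := H23.PullPush.isIso_pushRestrict_app s W M
  let θ : (KRR.twF n Y (-((k + 1 : ℕ) : ℤ)) ((Scheme.Modules.pushforward s).obj (Coh.structureModule Y))).restrict W.ι ≅
      (Scheme.Modules.pushforward (s ∣_ W)).obj (M.restrict (s ⁻¹ᵁ W).ι) :=
    (Scheme.Modules.restrictFunctor W.ι).mapIso ε ≪≫ asIso ((H23.PullPush.pushRestrict s W).app M)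
  have hsW : s ⁻¹ᵁ W = V.1 := by
    show (s ≫ KRR.pr n Y) ⁻¹ᵁ V.1 = V.1
    rw [hs]; rfl
  haveI : IsAffine (s ⁻¹ᵁ W).toScheme := by rw [hsW]; exact V.2
  have hM' := QCoh.isQCoh_restrict (s ⁻¹ᵁ W).ι hM
  obtain ⟨e⟩ := QCoh.HH_push_of_isAffineHom (s ∣_ W) hM' (k + 1)
  haveI := QCoh.subsingleton_HH_of_isAffine hM' k
  haveI : Subsingleton (Coh.HH W.toScheme ((Coh.push (s ∣_ W)).obj (M.restrict (s ⁻¹ᵁ W).ι)) (k + 1)) :=
    e.symm.toEquiv.subsingleton
  exact QCoh.subsingleton_HH_of_iso θ.symm _ this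

theorem isFlatOver_Gs {F : (KRR.PY n Y).Modules} (hF : Coh.IsCoh F) (hfl : FlatMod.IsFlatOver (KRR.pr n Y) F)
    (hreg : KRR.IsRegSheaf n Y F) :
    ∀ i, Coh.IsCoh (Gs F i) ∧ FlatMod.IsFlatOver (KRR.pr n Y) (Gs F i)
  | 0 => ⟨hF, hfl⟩
  | i + 1 => by
    haveI := isNoetherian_PY (n := n) (Y := Y)
    haveI := isProper_pr (n := n) (T := Y)
    obtain ⟨hc, hf⟩ := isFlatOver_Gs hF hfl hreg i
    obtain ⟨hq, hr, -⟩ := gs_props hF.1 hreg i
    have hp := KFlatLib.isFinLocFree_pullback (KRR.pr n Y) (isFinLocFree_push hc hf hr)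
    have hk : Coh.IsCoh (syz (Gs F i)) := QCoh.isCoh_kernel (isCoh_of_finLocFree hp) hc _
    have hk' : FlatMod.IsFlatOver (KRR.pr n Y) (syz (Gs F i)) :=
      (Groth.Agent.S4654.result _ _ (shortExact_syz hq hr) hk.1 (isCoh_of_finLocFree hp).1 hc.1 hf).1
        (isFlatOver_finLocFree hp)
    have hT := PicClLib.isInvertible_pullback (gfst n Y) (TwistFlat.isInvertible_twistProjSpace n 1)
    refine ⟨CurveTensor.isCoh_tensor (H23.PullPush.isFinLocFree_of_isInvertible hT) hk, ?_⟩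
    let c := CurveTensor.commIso (syz (Gs F i)) (Twist.twistOver n Y 1)
    exact QCoh.isFlatOver_of_iso c (KFlatLib.isQCoh_tensor hk.1 (ProjUPX.isQCoh_of_isInvertible hT))
      (TwistFlat.isFlatOver_tensor _ hT hk')

variable {KP : Type*} {KY : Type*} [CommRing KP] [CommRing KY]

theorem pushPr_pushCl_section (hPe : KRR.HasEnoughLocFree (KRR.PY n Y)) (hs : s ≫ KRR.pr n Y = 𝟙 Y) {φP : SGA6.Kvb (KRR.PY n Y) →+ KP}
    (hKP : IsRingModel (KRR.PY n Y) KP φP) {φY : SGA6.Kvb Y →+ KY} (hKY : IsRingModel Y KY φY)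
    {gs : KY →+ KP} (hgs : KRR.IsPushCl s φY φP gs) {gp : KP →+ KY} (hgp : KRR.IsPushPr n Y φP φY gp) :
    gp.comp gs = AddMonoidHom.id KY := by
  haveI := isNoetherian_PY (n := n) (Y := Y)
  haveI := isClosedImmersion_section hs
  haveI := isProper_pr (n := n) (T := Y)
  have hsr := isRegularClosedImmersion_section hs
  obtain ⟨q, hq, -⟩ := existsUnique_isPull (KRR.pr n Y) φP hKY.bijective
  obtain ⟨g, hg, -⟩ := existsUnique_isPull s φY hKP.bijective
  have hgq : ∀ y, g (q y) = y := fun y => by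
    obtain ⟨y, rfl⟩ := hKY.bijective.2 y
    refine DFunLike.congr_fun (KZ.K0sub_hom_ext (KRR.vbP Y) (f := g.comp (q.comp φY)) (g := φY) fun E hE => ?_) y
    show g (q (φY (KRR.cl Y E))) = φY (KRR.cl Y E)
    rw [hq E hE, hg _ (KFlatLib.isFinLocFree_pullback _ hE)]
    let ε := (Scheme.Modules.pullbackComp s (KRR.pr n Y)).app E ≪≫
      (Scheme.Modules.pullbackCongr hs).app E ≪≫ (Scheme.Modules.pullbackId Y).app E
    exact congrArg φY (cl_iso ε (isFinLocFree_iso ε.symm hE))
  have key : gp (gs 1) = 1 := by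
    let F := (Scheme.Modules.pushforward s).obj (Coh.structureModule Y)
    haveI : Flat (s ≫ KRR.pr n Y) := by rw [hs]; infer_instance
    have hfl : FlatMod.IsFlatOver (KRR.pr n Y) F := H23.SpClosed.isFlatOver_push s (KRR.pr n Y)
    have hc : Coh.IsCoh F := ExistEasy.isCoh_pushforward_proper s (isCoh_of_finLocFree (isFinLocFree_structure _))
    have hreg := isRegSheaf_section hs
    let E := fun i => (Scheme.Modules.pushforward (KRR.pr n Y)).obj (Gs F i)
    have hE : ∀ i, FlatMod.IsFinLocFree (E i) := fun i =>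
      isFinLocFree_push (isFlatOver_Gs hc hfl hreg i).1 (isFlatOver_Gs hc hfl hreg i).2 (gs_props hc.1 hreg i).2.1
    have hT : ∀ d : ℤ, FlatMod.IsFinLocFree (Twist.twistOver n Y d) := fun d =>
      H23.PullPush.isFinLocFree_of_isInvertible
        (PicClLib.isInvertible_pullback (gfst n Y) (TwistFlat.isInvertible_twistProjSpace n d))
    have hterm : ∀ i, Nonempty (term F i ≅ (DCoh.tensorBi.obj (Twist.twistOver n Y (-(i : ℤ)))).obj
        ((Scheme.Modules.pullback (KRR.pr n Y)).obj (E i))) := fun i => cl_eq_iff.1 (cl_term (F := F) i)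
    have hTE : ∀ i : ℕ, FlatMod.IsFinLocFree ((DCoh.tensorBi.obj (Twist.twistOver n Y (-(i : ℤ)))).obj
        ((Scheme.Modules.pullback (KRR.pr n Y)).obj (E i))) := fun i =>
      KFlatLib.isFinLocFree_tensor (hT _) (KFlatLib.isFinLocFree_pullback _ (hE i))
    have hres : KRR.IsLFRes F n (cx F) (π F) :=
      ⟨fun i => isFinLocFree_iso (hterm i).some.symm (hTE i), fun i hi => isZero_term hc.1 hreg i hi,
        quasiIso_π hc.1 hreg⟩
    rw [← hKY.map_one, hgs _ (isFinLocFree_structure Y) n (cx F) (π F) hres, map_sum]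
    have hval : ∀ k, gp (φP (KRR.cl (KRR.PY n Y) ((cx F).X k))) =
        gp (φP (KRR.cl (KRR.PY n Y) (KRR.twF n Y (-(k : ℤ)) (Coh.structureModule (KRR.PY n Y))))) *
          φY (KRR.cl Y (E k)) := fun k => by
      rw [cx_X, cl_iso (hterm k).some (isFinLocFree_iso (hterm k).some.symm (hTE k)),
        ← hKP.map_mul _ _ (hT _) (KFlatLib.isFinLocFree_pullback _ (hE k)), ← hq _ (hE k),
        pushPr_mul_pull hKP hKY hgp hq,
        cl_iso (twF_structure_iso Y (-(k : ℤ))).some (isFinLocFree_twF_structure Y _)]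
      rfl
    rw [Finset.sum_eq_single 0]
    · rw [map_zsmul, pow_zero, one_smul, hval, push_class Y hKY hgp]
      have h1 : Ring.choose (-((0 : ℕ) : ℤ) + n) n = 1 := by
        rw [show -((0 : ℕ) : ℤ) + n = (n : ℤ) by omega, Ring.choose_natCast, Nat.choose_self]; rfl
      rw [h1, Int.cast_one, one_mul]
      let ε := (Scheme.Modules.pushforwardComp s (KRR.pr n Y)).app (Coh.structureModule Y) ≪≫
        (Scheme.Modules.pushforwardCongr hs).app _ ≪≫ (Scheme.Modules.pushforwardId Y).app _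
      exact congrArg φY (cl_iso ε (isFinLocFree_iso ε.symm (isFinLocFree_structure Y)))
    · intro k hk hk0
      rw [map_zsmul, hval, push_class_neg Y hKY hgp k (Nat.one_le_iff_ne_zero.2 hk0)
        (Nat.lt_succ_iff.1 (Finset.mem_range.1 hk)), zero_mul, smul_zero]
    · intro h
      exact absurd (Finset.mem_range.2 (Nat.succ_pos n)) h
  refine AddMonoidHom.ext fun y => ?_
  show gp (gs y) = y
  have h := pushCl_mul_pull hPe hsr hKY hKP hg hgs 1 (q y)
  rw [hgq, one_mul] at h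
  rw [h, pushPr_mul_pull hKP hKY hgp hq, key, one_mul]

end Groth.Agent.KRRReg
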