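import Groth.Agent.KRRReg.PushOps

/-!
# Pull-backs disjoint from the image of a push-forward
-/

set_option linter.style.haveILetI false
set_option linter.unusedSectionVars false
set_option backward.isDefEq.respectTransparency false
set_option backward.isDefEq.respectTransparency.types false
set_option maxHeartbeats 1000000
set_option autoImplicit false

universe u v

open CategoryTheory CategoryTheory.Limits AlgebraicGeometry TopologicalSpace Opposite ZeroObject

noncomputable section

namespace Groth.Agent.KRRReg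

open Groth.Agent

variable {X Y Z : Scheme.{u}}

/-- The short exact sequences of an exact complex. -/
theorem shortExact_opcycles (L : ChainComplex Y.Modules ℕ) (hex : ∀ k, L.ExactAt (k + 1)) (k : ℕ) :
    ∃ w, (ShortComplex.mk (L.fromOpcycles (k + 1) k) (L.pOpcycles k) w).ShortExact := by
  haveI : Mono (L.fromOpcycles (k + 1) k) := by
    have h := (L.exactAt_iff' (k + 2) (k + 1) k (by simp) (by simp)).1 (hex k)
    have := h.mono_fromOpcycles
    have e : L.fromOpcycles (k + 1) k = (L.opcyclesIsoSc' (k + 2) (k + 1) k (by simp) (by simp)).hom ≫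
        (L.sc' (k + 2) (k + 1) k).fromOpcycles := by
      rw [← cancel_epi (L.pOpcycles (k + 1))]
      rw [L.p_fromOpcycles, HomologicalComplex.pOpcycles_opcyclesIsoSc'_hom_assoc, ShortComplex.p_fromOpcycles]
      rfl
    rw [e]
    infer_instance
  refine ⟨by rw [← cancel_epi (L.pOpcycles (k + 1))]; simp, .mk' ?_ inferInstance inferInstance⟩
  refine ShortComplex.exact_of_g_is_cokernel _ (CokernelCofork.IsColimit.ofπ _ _
    (fun g hg => L.descOpcycles g (k + 1) (by simp) (by
      rw [← L.p_fromOpcycles, Category.assoc]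
      exact (congrArg _ hg).trans comp_zero))
    (fun g hg => L.p_descOpcycles _ _ _ _) (fun g hg b hb => ?_))
  rw [← cancel_epi (L.pOpcycles k), L.p_descOpcycles]
  exact hb

/-- An additive function sends a resolved module to the alternating sum of the values on the terms. -/
theorem altsum_of_res {F : Y.Modules} {n : ℕ} {L : ChainComplex Y.Modules ℕ}
    {π : L ⟶ (ChainComplex.single₀ Y.Modules).obj F} (hres : KRR.IsLFRes F n L π)
    (Q : Y.Modules → Prop) (hiso : ∀ {A B : Y.Modules}, (A ≅ B) → Q A → Q B)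
    (hker : ∀ S : ShortComplex Y.Modules, S.ShortExact → Q S.X₂ → Q S.X₃ → Q S.X₁)
    {G : Type*} [AddCommGroup G] (c : Y.Modules → G)
    (hciso : ∀ {A B : Y.Modules}, (A ≅ B) → Q A → c A = c B) (hc0 : ∀ A, IsZero A → c A = 0)
    (hadd : ∀ S : ShortComplex Y.Modules, S.ShortExact → Q S.X₁ → Q S.X₂ → Q S.X₃ → c S.X₂ = c S.X₁ + c S.X₃)
    (hF : Q F) (hL : ∀ k, Q (L.X k)) :
    c F = ∑ k ∈ Finset.range (n + 1), (-1 : ℤ) ^ k • c (L.X k) := by
  obtain ⟨hfl, hz, hq⟩ := hres
  haveI := hq
  have hex : ∀ k, L.ExactAt (k + 1) := fun k => by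
    rw [← quasiIsoAt_iff_exactAt' π (k + 1) (HomologicalComplex.exactAt_single_obj _ _ _ _ (by simp))]
    infer_instance
  let e : L.opcycles 0 ≅ F := (L.isoHomologyι₀).symm ≪≫ asIso (HomologicalComplex.homologyMap π 0) ≪≫
    HomologicalComplex.singleObjHomologySelfIso (ComplexShape.down ℕ) 0 F
  have hQ : ∀ k, Q (L.opcycles k) := by
    intro k
    induction k with
    | zero => exact hiso e.symm hF
    | succ k ih => exact hker _ (shortExact_opcycles L hex k).choose_spec (hL k) ih
  have key : ∀ j k, k + j = n + 1 →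
      c (L.opcycles k) = ∑ i ∈ Finset.range j, (-1 : ℤ) ^ i • c (L.X (k + i)) := by
    intro j
    induction j with
    | zero =>
      intro k hk
      rw [Finset.sum_range_zero]
      exact hc0 _ (IsZero.of_epi (L.pOpcycles k) (hz k (by omega)))
    | succ j ih =>
      intro k hk
      have h1 : c (L.X k) = c (L.opcycles (k + 1)) + c (L.opcycles k) :=
        hadd _ (shortExact_opcycles L hex k).choose_spec (hQ (k + 1)) (hL k) (hQ k)
      rw [Finset.sum_range_succ', pow_zero, one_smul, add_zero]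
      have hneg : ∑ i ∈ Finset.range j, (-1 : ℤ) ^ (i + 1) • c (L.X (k + (i + 1))) = -c (L.opcycles (k + 1)) := by
        rw [ih (k + 1) (by omega), ← Finset.sum_neg_distrib]
        refine Finset.sum_congr rfl fun i _ => ?_
        rw [pow_succ, mul_neg_one, neg_smul, show k + (i + 1) = k + 1 + i by omega]
      rw [hneg, h1]
      abel
  rw [← hciso e (hQ 0), key (n + 1) 0 (zero_add _)]
  exact Finset.sum_congr rfl fun i _ => by rw [zero_add]

/-- Pull-back is exact on sequences whose quotient is free at the points of the image. -/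
theorem shortExact_pullback_free (f : X ⟶ Y) {S : ShortComplex Y.Modules} (hS : S.ShortExact)
    (h₃ : ∀ x, HasProjectiveDimensionLT (KZ.LFRes.stk S.X₃ (f.base x)) 1) :
    (S.map (Scheme.Modules.pullback f)).ShortExact := by
  have hr := ((Functor.preservesFiniteColimits_tfae (Scheme.Modules.pullback f)).out 3 0 rfl rfl).1
    (inferInstance : PreservesFiniteColimits (Scheme.Modules.pullback f)) S hS
  haveI : Mono ((Scheme.Modules.pullback f).map S.f) := by
    refine mono_of_stalks _ fun x => ?_
    have hx := hS.map_of_exact (DerSch.stalkFunctor Y (f.base x))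
    haveI : Projective (S.map (DerSch.stalkFunctor Y (f.base x))).X₃ :=
      projective_iff_hasProjectiveDimensionLT_one.2 (h₃ x)
    let σ := hx.splittingOfProjective
    haveI : IsSplitMono ((DerSch.stalkFunctor Y (f.base x)).map S.f) := ⟨⟨⟨σ.r, σ.f_r⟩⟩⟩
    haveI : IsSplitMono ((DerSch.stalkFunctor Y (f.base x) ⋙ ModuleCat.extendScalars (f.stalkMap x).hom).map S.f) :=
      inferInstanceAs (IsSplitMono ((ModuleCat.extendScalars (f.stalkMap x).hom).map
        ((DerSch.stalkFunctor Y (f.base x)).map S.f)))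
    let ω := KFlatLib.stalkPullbackIso f x
    show Mono ((Scheme.Modules.pullback f ⋙ DerSch.stalkFunctor X x).map S.f)
    have hm : Mono ((DerSch.stalkFunctor Y (f.base x) ⋙ ModuleCat.extendScalars (f.stalkMap x).hom).map S.f) :=
      IsSplitMono.mono _
    rw [← NatIso.naturality_2 ω S.f]
    exact @mono_comp _ _ _ _ _ _ (IsIso.mono_of_iso _) _ (@mono_comp _ _ _ _ _ _ hm _ (IsIso.mono_of_iso _))
  exact ShortComplex.ShortExact.mk' hr.1 ‹_› hr.2

/-- The pull-back of a module free at the points of the image is a bundle. -/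
theorem isFinLocFree_pullback_free [IsLocallyNoetherian X] [IsLocallyNoetherian Y] (f : X ⟶ Y) {A : Y.Modules}
    (hA : Coh.IsCoh A) (h : ∀ x, HasProjectiveDimensionLT (KZ.LFRes.stk A (f.base x)) 1) :
    FlatMod.IsFinLocFree ((Scheme.Modules.pullback f).obj A) := by
  have hP : Coh.IsCoh ((Scheme.Modules.pullback f).obj A) := ZClosLib.isCoh_pullback f hA
  refine KZ.LFRes.pdlt_one_iff.1 ⟨hP, fun x => ?_⟩
  haveI : Module.Free (Y.presheaf.stalk (f.base x)) ((DerSch.stalkFunctor Y (f.base x)).obj A) :=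
    (KZ.LFRes.free_iff_pd hA (f.base x)).2 (h x)
  let e := ((KFlatLib.stalkPullbackIso f x).app A).symm
  letI : Algebra (Y.presheaf.stalk (f.base x)) (X.presheaf.stalk x) := (f.stalkMap x).hom.toAlgebra
  haveI : Module.Free (X.presheaf.stalk x)
      ((ModuleCat.extendScalars (f.stalkMap x).hom).obj ((DerSch.stalkFunctor Y (f.base x)).obj A)) :=
    inferInstanceAs (Module.Free (X.presheaf.stalk x)
      (TensorProduct (Y.presheaf.stalk (f.base x)) (X.presheaf.stalk x) ((DerSch.stalkFunctor Y (f.base x)).obj A)))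
  haveI : Module.Free (X.presheaf.stalk x)
      ((DerSch.stalkFunctor Y (f.base x) ⋙ ModuleCat.extendScalars (f.stalkMap x).hom).obj A) := ‹_›
  exact (KZ.LFRes.free_iff_pd hP x).1 (Module.Free.of_equiv e.toLinearEquiv)

/-- The pull-back of the class of a direct image along a disjoint morphism vanishes. -/
theorem pull_pushCl_eq_zero [IsNoetherian X] [IsNoetherian Y] [IsNoetherian Z] (hY : KRR.HasEnoughLocFree Y)
    {F : X ⟶ Y} (hF : Mor2.IsRegularClosedImmersion F) (g : Z ⟶ Y)
    (hd : ∀ z, g.base z ∉ Set.range F.base) {KX : Type*} {KY : Type*} {KT : Type*} [CommRing KX] [CommRing KY] [CommRing KT]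
    {φX : SGA6.Kvb X →+ KX} (hφ : Function.Bijective φX) {φY : SGA6.Kvb Y →+ KY} {φZ : SGA6.Kvb Z →+ KT}
    {gh : KY →+ KT} (hgh : KRR.IsPull g φY φZ gh) {gF : KX →+ KY} (hgF : KRR.IsPushCl F φX φY gF) (p : KX) :
    gh (gF p) = 0 := by
  haveI := hF.1
  obtain ⟨x, rfl⟩ := hφ.2 p
  refine DFunLike.congr_fun (KZ.K0sub_hom_ext (KRR.vbP X) (f := gh.comp (gF.comp φX)) (g := 0) fun G hG => ?_) x
  obtain ⟨n, L, π, hres⟩ := hasLFRes_push hY hF hG
  show gh (gF (φX (KRR.cl X G))) = 0
  rw [hgF G hG n L π hres, map_sum]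
  let Q : Y.Modules → Prop := fun A => Coh.IsCoh A ∧ ∀ z, HasProjectiveDimensionLT (KZ.LFRes.stk A (g.base z)) 1
  let c : Y.Modules → KT := fun A => φZ (KRR.cl Z ((Scheme.Modules.pullback g).obj A))
  have hz : ∀ z : Z, IsZero (KZ.LFRes.stk ((Scheme.Modules.pushforward F).obj G) (g.base z)) := fun z => by
    haveI : Subsingleton (((Scheme.Modules.pushforward F).obj G).presheaf.stalk (g.base z)) :=
      not_not.1 fun h => hd z (QCoh.support_push_subset F (QCoh.isQCoh_of_isFinLocFree hG) h)
    haveI : Subsingleton (KZ.LFRes.stk ((Scheme.Modules.pushforward F).obj G) (g.base z)) := this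
    exact ModuleCat.isZero_of_subsingleton _
  have hQF : Q ((Scheme.Modules.pushforward F).obj G) :=
    ⟨(exists_pdlt_push hF hG).choose_spec.1, fun z =>
      haveI : HasProjectiveDimensionLT (KZ.LFRes.stk ((Scheme.Modules.pushforward F).obj G) (g.base z)) 0 :=
        (hasProjectiveDimensionLT_zero_iff_isZero _).2 (hz z)
      hasProjectiveDimensionLT_of_ge _ 0 1 (Nat.zero_le 1)⟩
  have h0 : IsZero ((Scheme.Modules.pullback g).obj ((Scheme.Modules.pushforward F).obj G)) :=
    KFlatLib.isZero_of_stalk _ fun z => KFlatLib.isZero_stalk_pullback g z (hz z)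
  have hc0 : ∀ A : Y.Modules, IsZero A → c A = 0 := fun A hA =>
    (congrArg φZ (KZ.clSub_isZero _ ((Scheme.Modules.pullback g).map_isZero hA))).trans (map_zero _)
  have key := altsum_of_res hres Q
    (fun e h => ⟨KZ.isClosedUnderIsomorphisms_isCoh.of_iso e h.1, fun z => by
      haveI := h.2 z
      exact hasProjectiveDimensionLT_of_iso ((DerSch.stalkFunctor Y (g.base z)).mapIso e) 1⟩)
    (fun S hS h₂ h₃ => ⟨KZ.isClosedUnderIsomorphisms_isCoh.of_iso
        ((kernelIsKernel S.g).conePointUniqueUpToIso hS.fIsKernel) (QCoh.isCoh_kernel h₂.1 h₃.1 S.g),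
      fun z => by
        haveI := h₃.2 z
        exact (KZ.LFRes.stk_shortExact hS (g.base z)).hasProjectiveDimensionLT_X₁ 1 (h₂.2 z)
          (haveI : HasProjectiveDimensionLT (S.map (DerSch.stalkFunctor Y (g.base z))).X₃ 1 := h₃.2 z
           hasProjectiveDimensionLT_of_ge _ 1 2 (by omega))⟩)
    c (fun e h => congrArg φZ (cl_iso ((Scheme.Modules.pullback g).mapIso e) (isFinLocFree_pullback_free g h.1 h.2)))
    hc0
    (fun S hS h₁ h₂ h₃ => (congrArg φZ (KZ.clSub_ses (KRR.vbP Z) (shortExact_pullback_free g hS h₃.2)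
        (isFinLocFree_pullback_free g h₁.1 h₁.2) (isFinLocFree_pullback_free g h₂.1 h₂.2)
        (isFinLocFree_pullback_free g h₃.1 h₃.2))).trans (map_add _ _ _))
    hQF (fun k => ⟨KZ.LFRes.flf_isCoh (hres.finLocFree k),
      fun z => ((KZ.LFRes.pdlt_one_iff.2 (hres.finLocFree k)).2 (g.base z))⟩)
  refine Eq.trans ?_ (key.symm.trans ((congrArg φZ (KZ.clSub_isZero _ h0)).trans (map_zero _)))
  exact Finset.sum_congr rfl fun k _ => by rw [map_zsmul, hgh _ (hres.finLocFree k)]

end Groth.Agent.KRRReg
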