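import Groth.Agent.KZ.LFRes
import Groth.Agent.RegLoc6.Pd


import Groth.Agent.KRRReg.LocFree
import Groth.Prelude.Def_Mor2
import Mathlib.RingTheory.Regular.Category
import Mathlib.RingTheory.Localization.BaseChange

/-!
# Finite resolutions of bundles pushed along regular closed immersions
-/

set_option linter.style.haveILetI false
set_option linter.unusedSectionVars false
set_option backward.isDefEq.respectTransparency false
set_option backward.isDefEq.respectTransparency.types false
set_option maxHeartbeats 1000000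
set_option autoImplicit false

universe u

open CategoryTheory CategoryTheory.Limits AlgebraicGeometry TopologicalSpace Opposite
open scoped TensorProduct Pointwise

noncomputable section

namespace Groth.Agent.KRRReg

open Groth.Agent RingTheory.Sequence RegLoc6

theorem pdLE_weaklyRegular {R : Type u} [CommRing R] : ∀ (rs : List R) (M : Type u) [AddCommGroup M] [Module R M]
    (k : ℕ), IsWeaklyRegular M rs → PdLE R k M →
      PdLE R (k + rs.length) (M ⧸ (Ideal.ofList rs • ⊤ : Submodule R M))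
  | [], M, _, _, k, _, h => by
    rw [Ideal.ofList_nil, Submodule.bot_smul]
    exact pdLE_of_equiv (Submodule.quotEquivOfEqBot ⊥ rfl).symm h
  | x :: rs, M, _, _, k, hreg, h => by
    rw [isWeaklyRegular_cons_iff] at hreg
    refine pdLE_of_equiv (Submodule.quotOfListConsSMulTopEquivQuotSMulTopInner M x rs).symm ?_
    rw [show k + (x :: rs).length = k + 1 + rs.length by simp; omega]
    refine pdLE_weaklyRegular rs (QuotSMulTop x M) (k + 1) hreg.2 ?_
    exact (IsSMulRegular.smulShortComplex_shortExact (M := ModuleCat.of R M) hreg.1).hasProjectiveDimensionLT_X₃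
      (k + 1) h (pdLE_mono (Nat.le_succ k) h)

theorem pdLE_prod' {R : Type u} [CommRing R] {n : ℕ} {M N : Type u} [AddCommGroup M] [Module R M]
    [AddCommGroup N] [Module R N] (hM : PdLE R n M) (hN : PdLE R n N) : PdLE R n (M × N) := by
  have hs : Function.Surjective (LinearMap.snd R M N) := fun y => ⟨(0, y), rfl⟩
  have hK : PdLE R n (LinearMap.ker (LinearMap.snd R M N)) := pdLE_of_equiv
    (LinearEquiv.ofBijective ((LinearMap.inl R M N).codRestrict _ fun _ => rfl)
      ⟨fun a b h => congrArg (fun v : LinearMap.ker (LinearMap.snd R M N) => v.1.1) h,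
        fun ⟨⟨a, b⟩, hab⟩ => ⟨a, Subtype.ext (Prod.ext rfl (Eq.symm hab))⟩⟩) hM
  exact (LinearMap.shortExact_shortComplexKer hs).hasProjectiveDimensionLT_X₂ (n + 1) hK hN

theorem pdLE_pi' {R : Type u} [CommRing R] {n : ℕ} {M : Type u} [AddCommGroup M] [Module R M]
    (hM : PdLE R n M) : ∀ k, PdLE R n (Fin k → M)
  | 0 => pdLE_mono (Nat.zero_le n) (pdLE_zero_iff.2 inferInstance)
  | k + 1 => pdLE_of_equiv (Fin.consLinearEquiv R (fun _ => M)) (pdLE_prod' hM (pdLE_pi' hM k))

theorem pdLE_of_projective_quotient {R S : Type u} [CommRing R] [CommRing S] [Algebra R S] {n : ℕ}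
    (hS : PdLE R n S) (M : Type u) [AddCommGroup M] [Module R M] [Module S M] [IsScalarTower R S M]
    [Module.Finite S M] [Module.Projective S M] : PdLE R n M := by
  obtain ⟨k, g, hg⟩ := exists_presentation (R := S) (M := M)
  obtain ⟨i, hi⟩ := Module.projective_lifting_property g LinearMap.id hg
  exact pdLE_of_retract (i.restrictScalars R) (g.restrictScalars R)
    (LinearMap.ext fun m => LinearMap.congr_fun hi m) (pdLE_pi' hS k)

theorem baseChange_ker_equiv {R : Type u} [CommRing R] (B : Type u) [CommRing B] [Algebra R B] [Module.Flat R B]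
    {F M : Type u} [AddCommGroup F] [Module R F] [AddCommGroup M] [Module R M] (g : F →ₗ[R] M)
    (hg : Function.Surjective g) :
    Nonempty ((B ⊗[R] LinearMap.ker g) ≃ₗ[B] LinearMap.ker (g.baseChange B)) := by
  let j : LinearMap.ker g →ₗ[R] F := (LinearMap.ker g).subtype
  have hinj : Function.Injective (j.baseChange B) :=
    Module.Flat.lTensor_preserves_injective_linearMap (M := B) j (LinearMap.ker g).injective_subtype
  have hex : Function.Exact j g := LinearMap.exact_subtype_ker_map g
  have hexB : Function.Exact (j.baseChange B) (g.baseChange B) :=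
    (lTensor_exact (M := ↥(LinearMap.ker g)) (N := F) (P := M) (R := R) (f := j) (g := g) B) hex hg
  exact ⟨(LinearEquiv.ofInjective (j.baseChange B) hinj).trans
    (LinearEquiv.ofEq _ _ (LinearMap.exact_iff.1 hexB).symm)⟩

theorem pdLE_baseChange {R : Type u} [CommRing R] (B : Type u) [CommRing B] [Algebra R B] [Module.Flat R B]
    (n : ℕ) : ∀ (M : Type u) [AddCommGroup M] [Module R M], PdLE R n M → PdLE B n (B ⊗[R] M) := by
  induction n with
  | zero =>
    intro M _ _ h
    haveI : Module.Projective R M := pdLE_zero_iff.1 h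
    exact pdLE_zero_iff.2 inferInstance
  | succ n ih =>
    intro M _ _ h
    let g : (M →₀ R) →ₗ[R] M := Finsupp.linearCombination R id
    have hg : Function.Surjective g := fun m => ⟨Finsupp.single m 1, by simp [g]⟩
    obtain ⟨e⟩ := baseChange_ker_equiv B g hg
    exact pdLE_succ_of_ker (g.baseChange B) (LinearMap.lTensor_surjective B hg)
      (pdLE_of_equiv e (ih (LinearMap.ker g) (pdLE_ker g hg h (pdLE_of_projective n))))
      (pdLE_of_projective (n + 1))

variable {X Y : Scheme.{u}}

/-- A bundle on a regularly embedded subscheme has finite projective dimension on the ambient scheme. -/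
theorem exists_pdlt_push [IsNoetherian X] [IsNoetherian Y] {f : X ⟶ Y} (hf : Mor2.IsRegularClosedImmersion f)
    {F : X.Modules} (hF : FlatMod.IsFinLocFree F) :
    ∃ n, KZ.LFRes.PDLT (n + 1) ((Scheme.Modules.pushforward f).obj F) := by
  classical
  haveI := hf.1
  have hN : Coh.IsCoh ((Scheme.Modules.pushforward f).obj F) :=
    ExistEasy.isCoh_pushforward_proper f (isCoh_of_finLocFree hF)
  let N := (Scheme.Modules.pushforward f).obj F
  have hloc : ∀ y : Y, ∃ (U : Y.Opens) (n : ℕ), y ∈ U ∧
      ∀ y' ∈ U, HasProjectiveDimensionLT (KZ.LFRes.stk N y') (n + 1) := fun y => by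
    obtain ⟨U, hU, hy, n, hpd⟩ : ∃ (U : Y.Opens) (_ : IsAffineOpen U) (_ : y ∈ U) (n : ℕ),
        PdLE Γ(Y, U) n Γ(N, U) := by
      by_cases hy : y ∈ Set.range f
      · obtain ⟨z, rfl⟩ := hy
        obtain ⟨U, hU, hz, rs, hrs, hI⟩ := hf.2 z
        refine ⟨U, hU, hz, rs.length, ?_⟩
        have hV : IsAffineOpen (f ⁻¹ᵁ U) := hU.preimage f
        letI : Algebra Γ(Y, U) Γ(X, f ⁻¹ᵁ U) := (f.app U).hom.toAlgebra
        have hs : Function.Surjective (algebraMap Γ(Y, U) Γ(X, f ⁻¹ᵁ U)) := f.app_surjective U hU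
        have hk : RingHom.ker (algebraMap Γ(Y, U) Γ(X, f ⁻¹ᵁ U)) = Ideal.ofList rs := by
          rw [← hI, Scheme.Hom.ker_apply]; rfl
        have h0 := pdLE_weaklyRegular rs Γ(Y, U) 0 hrs.toIsWeaklyRegular (pdLE_of_projective 0)
        rw [zero_add, smul_eq_mul, Ideal.mul_top] at h0
        have h1 : PdLE Γ(Y, U) rs.length Γ(X, f ⁻¹ᵁ U) :=
          pdLE_of_equiv ((Submodule.quotEquivOfEq _ _ hk.symm).trans
            ((Algebra.linearMap Γ(Y, U) Γ(X, f ⁻¹ᵁ U)).quotKerEquivOfSurjective hs)) h0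
        letI : Module Γ(Y, U) Γ(F, f ⁻¹ᵁ U) := Module.compHom _ (f.app U).hom
        haveI : IsScalarTower Γ(Y, U) Γ(X, f ⁻¹ᵁ U) Γ(F, f ⁻¹ᵁ U) := .of_algebraMap_smul fun _ _ => rfl
        haveI : Module.Finite Γ(X, f ⁻¹ᵁ U) Γ(F, f ⁻¹ᵁ U) :=
          QCoh.finite_of_isFT (isCoh_of_finLocFree hF).1 (isCoh_of_finLocFree hF).2 hV
        haveI : Module.Flat Γ(X, f ⁻¹ᵁ U) Γ(F, f ⁻¹ᵁ U) :=
          (QCoh.flat_sections_iff (QCoh.isQCoh_of_isFinLocFree hF) hV).2 fun x _ => by
            haveI := QCoh.free_stalk_of_isFinLocFree hF x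
            exact (inferInstance : Module.Flat (X.presheaf.stalk x) (F.presheaf.stalk x))
        haveI : IsNoetherianRing Γ(X, f ⁻¹ᵁ U) := IsLocallyNoetherian.component_noetherian ⟨_, hV⟩
        haveI : Module.FinitePresentation Γ(X, f ⁻¹ᵁ U) Γ(F, f ⁻¹ᵁ U) := Module.finitePresentation_of_finite _ _
        haveI : Module.Projective Γ(X, f ⁻¹ᵁ U) Γ(F, f ⁻¹ᵁ U) := Module.Flat.projective_of_finitePresentation
        refine pdLE_of_equiv ?_ (pdLE_of_projective_quotient h1 Γ(F, f ⁻¹ᵁ U))
        exact { toFun := fun m => m, invFun := fun m => m, map_add' := fun _ _ => rfl,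
                map_smul' := fun _ _ => rfl, left_inv := fun _ => rfl, right_inv := fun _ => rfl }
      · obtain ⟨_, ⟨U, hU, rfl⟩, hyU, hUd⟩ := Y.isBasis_affineOpens.exists_subset_of_mem_open
          (show y ∈ (Set.range f)ᶜ from hy) f.isClosedEmbedding.isClosed_range.isOpen_compl
        refine ⟨U, hU, hyU, 0, pdLE_zero_iff.2 ?_⟩
        have hb : f ⁻¹ᵁ U = ⊥ := le_bot_iff.1 fun x hx => (hUd hx ⟨x, rfl⟩).elim
        haveI : Subsingleton Γ(N, U) := by
          show Subsingleton Γ(F, f ⁻¹ᵁ U)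
          rw [hb]
          exact AddCommGrpCat.subsingleton_of_isZero
            ((TopCat.Sheaf.isTerminalOfEmpty ⟨F.presheaf, F.isSheaf⟩).isZero)
        infer_instance
    refine ⟨U, n, hy, fun y' hy' => ?_⟩
    letI := QCoh.stalkAlg (X := Y) hy'
    letI := QCoh.stalkModule N hy'
    haveI := QCoh.isScalarTower_stalk N hy'
    haveI := QCoh.isLocalization_stalk' hU hy'
    haveI := QCoh.isLocalizedModule_germLin hN.1 hU hy'
    let p := (hU.primeIdealOf ⟨y', hy'⟩).asIdeal.primeCompl
    haveI : Module.Flat Γ(Y, U) (Y.presheaf.stalk y') := IsLocalization.flat _ p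
    have hb : IsBaseChange (Y.presheaf.stalk y') (QCoh.germLin N hy') :=
      (isLocalizedModule_iff_isBaseChange p (Y.presheaf.stalk y') _).1 inferInstance
    exact pdLE_of_equiv hb.equiv (pdLE_baseChange (Y.presheaf.stalk y') n Γ(N, U) hpd)
  choose U n hy hpd using hloc
  obtain ⟨S, hS⟩ := isCompact_univ.elim_finite_subcover (fun y : Y => (U y : Set Y)) (fun y => (U y).2)
    fun y _ => Set.mem_iUnion.2 ⟨y, hy y⟩
  refine ⟨S.sup n, hN, fun y' => ?_⟩
  obtain ⟨y, hyS, hy'⟩ := Set.mem_iUnion₂.1 (hS (Set.mem_univ y'))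
  haveI := hpd y y' hy'
  exact hasProjectiveDimensionLT_of_ge _ (n y + 1) _ (Nat.succ_le_succ (Finset.le_sup hyS))

theorem hasLFRes_push [IsNoetherian X] [IsNoetherian Y] (hY : KRR.HasEnoughLocFree Y) {f : X ⟶ Y}
    (hf : Mor2.IsRegularClosedImmersion f) {F : X.Modules} (hF : FlatMod.IsFinLocFree F) :
    KRR.HasLFRes ((Scheme.Modules.pushforward f).obj F) := by
  obtain ⟨n, hn⟩ := exists_pdlt_push hf hF
  exact KZ.LFRes.hasLFRes hY n _ hn

end Groth.Agent.KRRReg
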