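import Groth.Agent.KRRReg.GammaGen
import Groth.Agent.KRRReg.Res
import Groth.Agent.KRRReg.PushTw
import Groth.Agent.S3756
import Groth.Agent.Lib.InvEnd
import Groth.Agent.ConsPropLib.FibreLocFreeRank

/-!
# `p_*` and the γ-filtrations, for projective space over a base
-/

set_option linter.style.haveILetI false
set_option linter.unusedSectionVars false
set_option backward.isDefEq.respectTransparency false
set_option backward.isDefEq.respectTransparency.types false
set_option maxHeartbeats 1000000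
set_option autoImplicit false

universe u v

open CategoryTheory CategoryTheory.Limits AlgebraicGeometry
open Groth.Agent.H23.PicMul

noncomputable section

namespace Groth.Agent.KRRReg

variable {n : ℕ} {Y : Scheme.{u}} [IsNoetherian Y] [ConnectedSpace ↥Y]
  {KP : Type v} [CommRing KP] [LambdaRing.LambdaOps KP] {PP : LambdaRing.PosStructure KP}
  {φP : SGA6.Kvb (KRR.PY n Y) →+ KP}
  {KY : Type v} [CommRing KY] [LambdaRing.LambdaOps KY] {PY : LambdaRing.PosStructure KY}
  {φY : SGA6.Kvb Y →+ KY}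

/-- `O(m)`. -/
abbrev Ot (n : ℕ) (Y : Scheme.{u}) (m : ℤ) : (KRR.PY n Y).Modules :=
  KRR.twF n Y m (Coh.structureModule (KRR.PY n Y))

theorem twF_zero_structure (Y : Scheme.{u}) :
    Nonempty (Ot n Y 0 ≅ Coh.structureModule (KRR.PY n Y)) := twF_zero _

theorem isFinLocFreeOfRank_Ot (Y : Scheme.{u}) (m : ℤ) : FlatMod.IsFinLocFreeOfRank 1 (Ot n Y m) :=
  (ConsPropLib.isFinLocFreeOfRank_iso (twF_structure_iso Y m).some).2
    (InvEnd.isFinLocFreeOfRank_one (PicClLib.isInvertible_pullback _ (TwistFlat.isInvertible_twistProjSpace n m)))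

theorem cl_twF_eq (m : ℤ) (F : (KRR.PY n Y).Modules) :
    PicF.cl (KRR.twF n Y m F) = PicF.cl (CohB1.tensorMod (Ot n Y m) F) := by
  rw [cl_twF, cl_tensor, cl_twF]
  show _ = PicF.cl (O (gfst n Y) m) * 1 * PicF.cl F
  rw [mul_one]

theorem isFinLocFree_twF {m : ℤ} {F : (KRR.PY n Y).Modules} (hF : FlatMod.IsFinLocFree F) :
    FlatMod.IsFinLocFree (KRR.twF n Y m F) :=
  KFlatLib.isFinLocFree_tensor
    (H23.PullPush.isFinLocFree_of_isInvertible
      (PicClLib.isInvertible_pullback _ (TwistFlat.isInvertible_twistProjSpace n m))) hF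

theorem phi_twF (hKP : KRR.IsModel (KRR.PY n Y) KP PP φP) (m : ℤ) {F : (KRR.PY n Y).Modules}
    (hF : FlatMod.IsFinLocFree F) :
    φP (KRR.cl _ (KRR.twF n Y m F)) = φP (KRR.cl _ (Ot n Y m)) * φP (KRR.cl _ F) := by
  rw [hKP.map_mul _ _ (isFinLocFree_twF_structure Y m) hF]
  obtain ⟨e⟩ := cl_eq_iff.1 (cl_twF_eq m F)
  exact congrArg φP (cl_iso e (isFinLocFree_twF hF))

theorem phi_Ot_add (hKP : KRR.IsModel (KRR.PY n Y) KP PP φP) (a b : ℤ) :
    φP (KRR.cl _ (Ot n Y (a + b))) = φP (KRR.cl _ (Ot n Y a)) * φP (KRR.cl _ (Ot n Y b)) := by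
  rw [hKP.map_mul _ _ (isFinLocFree_twF_structure Y a) (isFinLocFree_twF_structure Y b)]
  refine congrArg φP (cl_iso (cl_eq_iff.1 ?_).some (isFinLocFree_twF_structure Y _))
  show PicF.cl (O (gfst n Y) (a + b)) * 1 = PicF.cl (O (gfst n Y) a) * 1 * (PicF.cl (O (gfst n Y) b) * 1)
  rw [cl_O_add, mul_one, mul_one, mul_one]

theorem phi_Ot_zero (hKP : KRR.IsModel (KRR.PY n Y) KP PP φP) : φP (KRR.cl _ (Ot n Y 0)) = 1 := by
  rw [← hKP.map_one]
  exact congrArg φP (cl_iso (twF_zero_structure Y).some (isFinLocFree_twF_structure Y _))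

theorem phi_Ot_pow (hKP : KRR.IsModel (KRR.PY n Y) KP PP φP) (m : ℕ) :
    φP (KRR.cl _ (Ot n Y m)) = φP (KRR.cl _ (Ot n Y 1)) ^ m := by
  induction m with
  | zero => rw [pow_zero]; exact phi_Ot_zero hKP
  | succ m ih => rw [pow_succ, ← ih, Nat.cast_succ, phi_Ot_add hKP]

variable {q : KY →+ KP}

theorem rb_Gs {F : (KRR.PY n Y).Modules} (hF : RB n Y F) :
    ∀ i, RB n Y (Gs F i) ∧
      FlatMod.IsFinLocFree ((Scheme.Modules.pushforward (KRR.pr n Y)).obj (Gs F i)) ∧
      FlatMod.IsFinLocFree (syz (Gs F i))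
  | 0 => by
    have hp := S3756.result n Y F hF.1 hF.2
    exact ⟨hF, hp, vb_X₁ (shortExact_syz (isQCoh_vb hF.1) hF.2) (KFlatLib.isFinLocFree_pullback _ hp) hF.1⟩
  | i + 1 => by
    obtain ⟨⟨h1, h2⟩, -, h3⟩ := rb_Gs hF i
    have h4 : RB n Y (Gs F (i + 1)) := ⟨isFinLocFree_twF h3, isRegSheaf_syz (isQCoh_vb h1) h2⟩
    have hp := S3756.result n Y _ h4.1 h4.2
    exact ⟨h4, hp, vb_X₁ (shortExact_syz (isQCoh_vb h4.1) h4.2) (KFlatLib.isFinLocFree_pullback _ hp) h4.1⟩

/-- The powers of `O(1)` generate `K(P^n_Y)` over `K(Y)`. -/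
theorem mem_closure_powers (hKP : KRR.IsModel (KRR.PY n Y) KP PP φP)
    (hq : KRR.IsPull (KRR.pr n Y) φY φP q) (x : KP) :
    x ∈ AddSubgroup.closure {z : KP | ∃ (m : ℕ) (E : Y.Modules), FlatMod.IsFinLocFree E ∧
      z = q (φY (KRR.cl Y E)) * φP (KRR.cl _ (Ot n Y 1)) ^ m} := by
  set l := φP (KRR.cl _ (Ot n Y 1))
  set H := AddSubgroup.closure {z : KP | ∃ (m : ℕ) (E : Y.Modules), FlatMod.IsFinLocFree E ∧
    z = q (φY (KRR.cl Y E)) * l ^ m}
  have hreg : ∀ F, RB n Y F → l ^ n * φP (KRR.cl _ F) ∈ H := fun F hF => by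
    have hstep : ∀ i, φP (KRR.cl _ (Gs F i)) =
        q (φY (KRR.cl Y ((Scheme.Modules.pushforward (KRR.pr n Y)).obj (Gs F i)))) -
          φP (KRR.cl _ (syz (Gs F i))) := fun i => by
      obtain ⟨⟨h1, h2⟩, hp, h3⟩ := rb_Gs hF i
      rw [hq _ hp, ← map_sub]
      refine congrArg φP (eq_sub_of_add_eq' ?_)
      exact (KZ.clSub_ses (KRR.vbP _) (shortExact_syz (isQCoh_vb h1) h2) h3
        (KFlatLib.isFinLocFree_pullback _ hp) h1).symm
    have hj : ∀ j ≤ n, l ^ j * φP (KRR.cl _ (Gs F (n - j))) ∈ H := by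
      intro j
      induction j with
      | zero =>
        intro _
        rw [pow_zero, one_mul, Nat.sub_zero, hstep n,
          show KRR.cl (KRR.PY n Y) (syz (Gs F n)) = 0 from
            KZ.clSub_isZero _ (isZero_syz_last (isQCoh_vb hF.1) hF.2), map_zero, sub_zero]
        exact AddSubgroup.subset_closure ⟨0, _, (rb_Gs hF n).2.1, by rw [pow_zero, mul_one]⟩
      | succ j ih =>
        intro hj
        rw [hstep, mul_sub]
        refine sub_mem (AddSubgroup.subset_closure ⟨j + 1, _, (rb_Gs hF _).2.1, mul_comm _ _⟩) ?_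
        have h := ih (by omega)
        rw [show n - j = n - (j + 1) + 1 by omega] at h
        rw [show φP (KRR.cl _ (Gs F (n - (j + 1) + 1))) = l * φP (KRR.cl _ (syz (Gs F (n - (j + 1))))) from
          phi_twF hKP 1 (rb_Gs hF _).2.2] at h
        rwa [pow_succ, mul_assoc]
    simpa [Gs] using hj n le_rfl
  have hall : ∀ y, l ^ n * y ∈ H := fun y => by
    obtain ⟨z, rfl⟩ := hKP.bijective.2 y
    have h := DFunLike.congr_fun (vbHom_ext
      (f := (QuotientAddGroup.mk' H).comp ((AddMonoidHom.mulLeft (l ^ n)).comp φP)) (g := 0)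
      fun F hF => (QuotientAddGroup.eq_zero_iff _).2 (hreg F hF)) z
    exact (QuotientAddGroup.eq_zero_iff _).1 h
  have hinv : l ^ n * φP (KRR.cl _ (Ot n Y (-(n : ℤ)))) = 1 := by
    rw [← phi_Ot_pow hKP, ← phi_Ot_add hKP, add_neg_cancel, phi_Ot_zero hKP]
  have h := hall (φP (KRR.cl _ (Ot n Y (-(n : ℤ)))) * x)
  rwa [← mul_assoc, hinv, one_mul] at h

/-- The transported filtration. -/
def pushFil (PY : LambdaRing.PosStructure KY) (q : KY →+* KP) (l : KP) (r : ℕ) : Ideal KP :=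
  Ideal.span {z | ∃ (i : ℕ) (a : KY), a ∈ LambdaRing.gammaFiltration PY (r - i) ∧ z = q a * (l - 1) ^ i}

theorem pushFil_isMulFiltration (q : KY →+* KP) (l : KP) :
    Lambda.IsMulFiltration (pushFil PY q l) where
  zero := by
    refine (Ideal.eq_top_iff_one _).2 (Ideal.subset_span ⟨0, 1, ?_, by simp⟩)
    rw [Nat.sub_zero, Lambda.gammaFiltration_zero]
    trivial
  anti r s h := Ideal.span_le.2 fun z ⟨i, a, ha, hz⟩ =>
    Ideal.subset_span ⟨i, a, Lambda.gammaFiltration_anti (by omega) ha, hz⟩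
  mul_mem {r s x y} hx hy := by
    have h := Ideal.mul_mem_mul hx hy
    refine (?_ : pushFil PY q l r * pushFil PY q l s ≤ pushFil PY q l (r + s)) h
    rw [pushFil, pushFil, Ideal.span_mul_span']
    refine Ideal.span_le.2 ?_
    rintro _ ⟨_, ⟨i, a, ha, rfl⟩, _, ⟨j, b, hb, rfl⟩, rfl⟩
    exact Ideal.subset_span ⟨i + j, a * b, Lambda.gammaFiltration_anti (by omega)
      (Lambda.mul_mem_add ha hb), by rw [map_mul, pow_add]; ring⟩

/-- `p_*` lowers the γ-filtration by at most `n`, given the twisting rule for `λ`. -/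
theorem push_gamma_mem (hKP : KRR.IsModel (KRR.PY n Y) KP PP φP) (hKY : KRR.IsModel Y KY PY φY)
    {g : KP →+ KY} (hg : KRR.IsPushPr n Y φP φY g)
    (htw : ∀ (E : Y.Modules) (m k : ℕ), FlatMod.IsFinLocFree E →
      LambdaRing.LambdaOps.lam k (φP (KRR.cl _ ((Scheme.Modules.pullback (KRR.pr n Y)).obj E)) *
          φP (KRR.cl _ (Ot n Y 1)) ^ m) =
        LambdaRing.LambdaOps.lam k (φP (KRR.cl _ ((Scheme.Modules.pullback (KRR.pr n Y)).obj E))) *
          (φP (KRR.cl _ (Ot n Y 1)) ^ m) ^ k)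
    (k : ℕ) {x : KP} (hx : x ∈ LambdaRing.gammaFiltration PP k) :
    g x ∈ LambdaRing.gammaFiltration PY (k - n) := by
  obtain ⟨q₀, hq, -⟩ := existsUnique_isPull (KRR.pr n Y) φP hKY.bijective
  let q : KY →+* KP := pullRingHom hKP hKY hq
  have hqq : ∀ y, q y = q₀ y := fun _ => rfl
  haveI : Nonempty ↥(KRR.PY n Y) := by
    obtain ⟨y⟩ := (inferInstance : Nonempty ↥Y)
    haveI : Surjective (KRR.pr n Y) := S3582.result n Y
    obtain ⟨p, -⟩ := (KRR.pr n Y).surjective y
    exact ⟨p⟩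
  set l := φP (KRR.cl _ (Ot n Y 1))
  have hT := pushFil_isMulFiltration (PY := PY) q l
  have hl1 : FlatMod.IsFinLocFreeOfRank 1 (Ot n Y 1) := isFinLocFreeOfRank_Ot Y 1
  have haug_l : PP.aug l = 1 := by simpa using hKP.aug_cl 1 _ hl1
  have hlpos : l ∈ PP.pos := (hKP.mem_pos_iff l).2 ⟨1, _, le_rfl, hl1, rfl⟩
  have haug_q : ∀ y, PP.aug (q y) = PY.aug y := pull_aug hKP hKY hq
  have hqlam : ∀ j y, q (LambdaRing.LambdaOps.lam j y) = LambdaRing.LambdaOps.lam j (q y) := pull_lam hKP hKY hq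
  -- every element minus its augmentation lies in the γ-subgroup
  let S : AddSubgroup KP := hT.gammaSubgroup.comap
    (AddMonoidHom.id KP - (Int.castAddHom KP).comp PP.aug.toAddMonoidHom)
  have hS : ∀ y : KP, y ∈ S := fun y => by
    refine (AddSubgroup.closure_le S).2 ?_ (mem_closure_powers hKP hq y)
    rintro z ⟨m, E, hE, rfl⟩
    have hlm : PP.IsLine (l ^ m) := Lambda.isLine_pow ⟨hlpos, haug_l⟩ m
    obtain ⟨a, b, ha, hb, hab⟩ := PY.exists_sub (φY (KRR.cl Y E))
    rw [SetLike.mem_coe, hab, map_sub, sub_mul]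
    have key : ∀ e ∈ PY.pos, q₀ e * l ^ m ∈ S := fun e he => by
      obtain ⟨d, E', hd, hE', rfl⟩ := (hKY.mem_pos_iff e).1 he
      have haugx : PP.aug (q₀ (φY (KRR.cl Y E')) * l ^ m) = d := by
        rw [map_mul, hlm.2, mul_one, ← hqq, haug_q, hKY.aug_cl d E' hE']
      have hpos : q₀ (φY (KRR.cl Y E')) * l ^ m ∈ PP.pos :=
        PP.mul_mem _ _ ((hKP.mem_pos_iff _).2 ⟨d, _, hd, isFinLocFreeOfRank_pullback _ hE',
          (hq E' (ExtPowSh.flf_of_rank hE')).symm⟩) hlm.1
      have h := gammaSeries_twist_mem (PP := PP) (PY := PY) hT q he (fun i => ?_) hpos ?_ (u := l ^ m) (fun j => ?_) ?_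
      · show q₀ (φY (KRR.cl Y E')) * l ^ m - ((PP.aug (q₀ (φY (KRR.cl Y E')) * l ^ m) : ℤ) : KP) ∈ hT.gammaSubgroup
        rw [haugx] at h ⊢
        simpa using h
      · refine Ideal.subset_span ⟨0, _, ?_, by rw [pow_zero, mul_one]⟩
        rw [Nat.sub_zero]
        exact Lambda.gamma_mem (by rw [map_sub, map_natCast, Lambda.aug_toNat he, sub_self]) i
      · rw [haugx, hKY.aug_cl d E' hE']
      · rw [hqlam, hqq, hq E' (ExtPowSh.flf_of_rank hE')]
        exact htw E' m j (ExtPowSh.flf_of_rank hE')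
      · have h1 : l - 1 ∈ pushFil PY q l 1 := Ideal.subset_span ⟨1, 1, by
          rw [Nat.sub_self, Lambda.gammaFiltration_zero]; trivial, by rw [map_one, one_mul, pow_one]⟩
        rw [← geom_sum_mul l m]
        exact Ideal.mul_mem_left _ _ h1
    exact sub_mem (key a ha) (key b hb)
  have hgamma : ∀ (r : ℕ) (y : KP), PP.aug y = 0 → LambdaRing.gamma r y ∈ pushFil PY q l r := fun r y hy => by
    have h : y - ((PP.aug y : ℤ) : KP) ∈ hT.gammaSubgroup := hS y
    rw [hy, Int.cast_zero, sub_zero] at h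
    exact hT.mem_gammaSubgroup.1 h r
  have hxT : x ∈ pushFil PY q l k := by
    rcases Nat.eq_zero_or_pos k with rfl | hk
    · rw [hT.zero]; trivial
    rw [Lambda.gammaFiltration_of_ne_zero PP hk.ne'] at hx
    refine (AddSubgroup.closure_le (pushFil PY q l k).toAddSubgroup).2 ?_ hx
    rintro _ ⟨L, hL, hk', rfl⟩
    show _ ∈ pushFil PY q l k
    refine hT.anti hk' ?_
    clear hk'
    induction L with
    | nil => simp [hT.zero]
    | cons p L ih =>
      simp only [List.map_cons, List.prod_cons, List.sum_cons]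
      exact hT.mul_mem (hgamma _ _ (hL p List.mem_cons_self)) (ih fun p' hp' => hL p' (List.mem_cons_of_mem _ hp'))
  have hcoef : ∀ i m : ℕ, g ((l - 1) ^ i * l ^ m) = if i ≤ n then (((n + m).choose (n - i) : ℕ) : KY) else 0 := by
    intro i
    induction i with
    | zero =>
      intro m
      rw [pow_zero, one_mul, if_pos (Nat.zero_le n), Nat.sub_zero, ← phi_Ot_pow hKP,
        push_class_nonneg Y (toRingModel hKY) hg m]
      exact congrArg Nat.cast (Nat.choose_symm_add (a := n) (b := m)).symm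
    | succ i ih =>
      intro m
      rw [show (l - 1) ^ (i + 1) * l ^ m = (l - 1) ^ i * l ^ (m + 1) - (l - 1) ^ i * l ^ m by ring, map_sub, ih, ih]
      rcases lt_trichotomy i n with h | h | h
      · rw [if_pos h.le, if_pos h.le, if_pos (by omega), show n - i = n - (i + 1) + 1 by omega,
          show n + (m + 1) = n + m + 1 by omega, Nat.choose_succ_succ, Nat.cast_add, add_sub_cancel_right]
      · subst h
        rw [if_pos le_rfl, if_pos le_rfl, if_neg (by omega), Nat.sub_self, Nat.choose_zero_right,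
          Nat.choose_zero_right, sub_self]
      · rw [if_neg (by omega), if_neg (by omega), if_neg (by omega), sub_self]
  suffices H : ∀ z ∈ pushFil PY q l k, ∀ c : KP, g (c * z) ∈ LambdaRing.gammaFiltration PY (k - n) by
    simpa using H x hxT 1
  intro z hz
  induction hz using Submodule.span_induction with
  | zero => intro c; rw [mul_zero, map_zero]; exact zero_mem _
  | add z z' _ _ h h' => intro c; rw [mul_add, map_add]; exact add_mem (h c) (h' c)
  | smul r z _ h => intro c; rw [smul_eq_mul, ← mul_assoc]; exact h _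
  | mem z hz =>
    obtain ⟨i, a, ha, rfl⟩ := hz
    intro c
    induction mem_closure_powers hKP hq c using AddSubgroup.closure_induction with
    | zero => rw [zero_mul, map_zero]; exact zero_mem _
    | add c c' _ _ h h' => rw [add_mul, map_add]; exact add_mem h h'
    | neg c _ h => rw [neg_mul, map_neg]; exact neg_mem h
    | mem c hc =>
      obtain ⟨m, E, -, rfl⟩ := hc
      have he : q₀ (φY (KRR.cl Y E)) * l ^ m * (q a * (l - 1) ^ i) =
          (l - 1) ^ i * l ^ m * q₀ (φY (KRR.cl Y E) * a) := by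
        rw [← hqq, ← hqq, map_mul]; ring
      rw [he, pushPr_mul_pull (toRingModel hKP) (toRingModel hKY) hg hq, hcoef]
      split_ifs with hi
      · exact Lambda.mul_mem_left _ (Lambda.mul_mem_left _ (Lambda.gammaFiltration_anti (by omega) ha))
      · rw [zero_mul]; exact zero_mem _

end Groth.Agent.KRRReg
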