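import Groth.Agent.Lambda.GammaFil
import Groth.Agent.Lambda.GammaPoly
import Groth.Agent.Lambda.Filtration
import Groth.Agent.KRRReg.LamPull

/-!
# γ-operations on line twists
-/

set_option linter.style.haveILetI false
set_option linter.unusedSectionVars false
set_option autoImplicit false

universe u v

open PowerSeries Finset LambdaRing

noncomputable section

namespace Groth.Agent.KRRReg

theorem homogeneous_identity {R : Type u} [CommRing R] (a c : ℕ → R) (d : ℕ)
    (h : ∑ i ∈ range (d + 1), Polynomial.C (c i) * Polynomial.X ^ (d - i) =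
      ∑ i ∈ range (d + 1), Polynomial.C (a i) * (Polynomial.X - 1) ^ (d - i)) (s w : R) :
    ∑ k ∈ range (d + 1), a k * (s ^ k * w ^ (d - k)) =
      ∑ i ∈ range (d + 1), c i * (s ^ i * (s + w) ^ (d - i)) := by
  have h2 : ∑ i ∈ range (d + 1), Polynomial.C (a i) * Polynomial.X ^ (d - i) =
      ∑ i ∈ range (d + 1), Polynomial.C (c i) * (Polynomial.X + 1) ^ (d - i) := by
    have h' := congrArg (fun p => Polynomial.comp p (Polynomial.X + 1)) h
    simp only [Polynomial.sum_comp, Polynomial.mul_comp, Polynomial.pow_comp, Polynomial.C_comp,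
      Polynomial.X_comp, Polynomial.sub_comp, Polynomial.one_comp, add_sub_cancel_right] at h'
    exact h'.symm
  have hco : ∀ j ≤ d, a (d - j) = ∑ i ∈ range (d + 1), c i * ((d - i).choose j : R) := fun j hj => by
    have := congrArg (fun p => Polynomial.coeff p j) h2
    simp only [Polynomial.finsetSum_coeff, Polynomial.coeff_C_mul, Polynomial.coeff_X_pow, mul_ite, mul_one,
      mul_zero, Polynomial.coeff_X_add_one_pow] at this
    rw [Finset.sum_eq_single (d - j) (fun i hi hne => if_neg (by have := mem_range.1 hi; omega))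
      (fun hn => absurd (mem_range.2 (by omega)) hn), if_pos (by omega)] at this
    exact this
  rw [← Finset.sum_range_reflect]
  calc ∑ j ∈ range (d + 1), a (d + 1 - 1 - j) * (s ^ (d + 1 - 1 - j) * w ^ (d - (d + 1 - 1 - j)))
      = ∑ j ∈ range (d + 1), ∑ i ∈ range (d + 1), c i * ((d - i).choose j : R) * (s ^ (d - j) * w ^ j) := by
        refine sum_congr rfl fun j hj => ?_
        have := mem_range.1 hj
        rw [show d + 1 - 1 - j = d - j by omega, show d - (d - j) = j by omega, hco j (by omega), sum_mul]
    _ = _ := by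
        rw [sum_comm]
        refine sum_congr rfl fun i hi => ?_
        have := mem_range.1 hi
        rw [add_comm s w, add_pow, mul_sum, mul_sum,
          ← Finset.sum_subset (s₁ := range (d - i + 1)) (s₂ := range (d + 1)) (range_mono (by omega))]
        · refine sum_congr rfl fun j hj => ?_
          have := mem_range.1 hj
          rw [show d - j = i + (d - i - j) by omega, pow_add]
          ring
        · intro j _ hj
          rw [mem_range] at hj
          rw [Nat.choose_eq_zero_of_lt (by omega), Nat.cast_zero, mul_zero, zero_mul]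

variable {KP : Type v} [CommRing KP] [LambdaOps KP] {KY : Type v} [CommRing KY] [LambdaOps KY]
  {PP : PosStructure KP} {PY : PosStructure KY}

/-- The `γ`-series of a line twist of a positive element. -/
theorem gammaSeries_twist_mem {T : ℕ → Ideal KP} (hT : Lambda.IsMulFiltration T) (q : KY →+* KP)
    {e : KY} (he : e ∈ PY.pos) (hq : ∀ i, q (gamma i (e - ((PY.aug e).toNat : KY))) ∈ T i)
    {x : KP} (hx : x ∈ PP.pos) (hd : (PP.aug x).toNat = (PY.aug e).toNat) {u : KP}
    (hlam : ∀ k, LambdaOps.lam k x = q (LambdaOps.lam k e) * u ^ k) (hu : u - 1 ∈ T 1) :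
    x - ((PP.aug x).toNat : KP) ∈ hT.gammaSubgroup := by
  set d := (PY.aug e).toNat with hdd
  show Lambda.gammaSeries (x - ((PP.aug x).toNat : KP)) ∈ hT.series
  rw [Lambda.gamma_sub_natCast hx 0, hd]
  have hp := congrArg (Polynomial.map ((C (R := KP)).comp q)) (Lambda.gamma_sub_aug_identity he)
  simp only [Polynomial.map_sum, Polynomial.map_mul, Polynomial.map_C, Polynomial.map_pow, Polynomial.map_X,
    Polynomial.map_sub, Polynomial.map_one, RingHom.comp_apply] at hp
  have hid := homogeneous_identity (fun k => C (q (LambdaOps.lam k e))) (fun i => C (q (gamma i (e - (d : KY))))) d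
    hp (C u * X) (1 - X)
  have heq : ∑ k ∈ range (d + 1), C (LambdaOps.lam k x) * (X ^ k * (1 - X) ^ (d - k)) =
      ∑ i ∈ range (d + 1), C (q (gamma i (e - (d : KY)))) * ((C u * X) ^ i * (C u * X + (1 - X)) ^ (d - i)) := by
    rw [← hid]
    refine sum_congr rfl fun k _ => ?_
    rw [hlam, map_mul, map_pow, mul_pow]
    ring
  rw [heq]
  have hC : ∀ y : KP, C y ∈ hT.series := fun y r => by
    rcases r with _ | r
    · simp [hT.zero]
    · simp [coeff_C]
  have hbase : C u * X + (1 - X) ∈ hT.series := fun r => by
    rcases r with _ | _ | r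
    · simp [hT.zero]
    · simpa [coeff_one, ← sub_eq_add_neg] using hu
    · simp [coeff_one, coeff_X, coeff_succ_mul_X]
  have hmono : ∀ i, C (q (gamma i (e - (d : KY)))) * X ^ i ∈ hT.series := fun i r => by
    rw [coeff_C_mul, coeff_X_pow]
    split_ifs with h
    · subst h; simpa using hq r
    · simp
  refine Subring.sum_mem _ fun i _ => ?_
  rw [mul_pow, show ∀ a b c e : PowerSeries KP, a * (b * c * e) = a * c * b * e from fun a b c e => by ring]
  refine Subring.mul_mem _ (Subring.mul_mem _ (hmono i) ?_) (Subring.pow_mem _ hbase _)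
  rw [← map_pow]
  exact hC _

end Groth.Agent.KRRReg
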