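import Groth.Agent.KRRReg.Indep

/-!
# Composition of factorized morphisms
-/

set_option linter.style.haveILetI false
set_option linter.unusedSectionVars false
set_option backward.isDefEq.respectTransparency false
set_option backward.isDefEq.respectTransparency.types false
set_option maxHeartbeats 1000000
set_option autoImplicit false

universe u v

open CategoryTheory CategoryTheory.Limits AlgebraicGeometry TopologicalSpace Opposite
open Groth.Agent.H23.PicMul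
open RingTheory.Sequence

noncomputable section

namespace Groth.Agent.KRRReg

open Groth.Agent

/-- A Koszul regular closed immersion into a locally noetherian scheme is regular. -/
theorem regClosed_of_koszulAt {X Z : Scheme.{u}} [IsLocallyNoetherian X] (i : Z ⟶ X) [IsClosedImmersion i]
    (h : ∀ z, ∃ n, RegImmLib.IsKoszulAtLength i n z) : Mor2.IsRegularClosedImmersion i := by
  refine ⟨inferInstance, fun z' => ?_⟩
  obtain ⟨n, W, hW, hzW, -, f, hf, hker⟩ := h z'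
  haveI : IsNoetherianRing Γ(X, W) := IsLocallyNoetherian.component_noetherian ⟨W, hW⟩
  have hle : RingHom.ker (i.app W).hom ≤ (hW.primeIdealOf ⟨i z', hzW⟩).asIdeal := by
    have hp := congrArg PrimeSpectrum.asIdeal (IsAffineOpen.comap_primeIdealOf_appLE (f := i) W hW (i ⁻¹ᵁ W)
      (hW.preimage i) le_rfl hzW)
    rw [← Scheme.Hom.app_eq_appLE] at hp
    rw [← hp]
    intro x hx
    refine Ideal.mem_comap.2 ?_
    rw [RingHom.mem_ker.1 hx]
    exact zero_mem _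
  haveI : Module.Flat Γ(X, W) (Localization.Away (1 : Γ(X, W))) := IsLocalization.flat _ (Submonoid.powers 1)
  have hK : KRegLib.KReg (RingHom.ker (i.app W).hom) (hW.primeIdealOf ⟨i z', hzW⟩).asIdeal := by
    refine ⟨1, fun h => (hW.primeIdealOf ⟨i z', hzW⟩).isPrime.ne_top ((Ideal.eq_top_iff_one _).2 h), _,
      fun k => algebraMap Γ(X, W) (Localization.Away (1 : Γ(X, W))) (f k), WiebeLib.isExact_map hf, ?_⟩
    rw [hker, Ideal.map_span, ← Set.range_comp]
    rfl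
  obtain ⟨t, ht, ts, hts, htsI⟩ := KRegLib.exists_isRegular_of_kReg _ _ hle hK
  letI : Algebra Γ(X, W) Γ(X, X.basicOpen t) :=
    (X.presheaf.map (homOfLE (X.basicOpen_le t)).op).hom.toAlgebra
  haveI : IsLocalization.Away t Γ(X, X.basicOpen t) := hW.isLocalization_basicOpen t
  let ee : Localization.Away t ≃ₐ[Γ(X, W)] Γ(X, X.basicOpen t) :=
    IsLocalization.algEquiv (Submonoid.powers t) _ _
  have hzt : i z' ∈ X.basicOpen t := by
    rw [← hW.fromSpec_image_basicOpen t]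
    exact ⟨hW.primeIdealOf ⟨i z', hzW⟩, ht, hW.fromSpec_primeIdealOf _⟩
  refine ⟨X.basicOpen t, hW.basicOpen t, hzt, ts.map ee, ?_, ?_⟩
  · refine (AddEquiv.isRegular_congr (e := ee.toRingEquiv.toAddEquiv) (as := ts) (bs := ts.map ee) ?_).1 hts
    exact List.forall₂_map_right_iff.2 (List.forall₂_same.2 fun x _ y => map_mul ee x y)
  · obtain ⟨hW', hWs⟩ := Synt29.surjective_app_of_isClosedImmersion_restrict i W hW
    rw [Scheme.Hom.ker_apply]
    refine Eq.trans (KRegLib.app_basicOpen_props i hW hW' hWs t).2.2 ?_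
    have h4 : (Ideal.ofList ts).map ee.toRingEquiv.toRingHom = Ideal.ofList (ts.map ee) := Ideal.map_ofList _ _
    rw [← h4, htsI, Ideal.map_map]
    congr 1
    exact (RingHom.ext fun x => (ee.commutes x)).symm


theorem exists_koszulAtLength {X Z : Scheme.{u}} {i : Z ⟶ X} (hi : Mor2.IsRegularClosedImmersion i) (z : Z) :
    ∃ n, RegImmLib.IsKoszulAtLength i n z := by
  haveI := hi.1
  obtain ⟨U, hU, hzU, rs, hrs, hI⟩ := hi.2 z
  exact ⟨rs.length, U, hU, hzU, inferInstance, rs.get,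
    KRegLib.isExact_of_isWeaklyRegular rs.get (by rw [List.ofFn_get]; exact hrs.toIsWeaklyRegular),
    by rw [← Scheme.Hom.ker_apply i ⟨U, hU⟩, hI, RegImmLib.span_range_eq_ofList, List.ofFn_get]⟩

/-- Regular closed immersions compose. -/
theorem regClosed_comp {A B C : Scheme.{u}} [IsLocallyNoetherian C] {i : A ⟶ B} {j : B ⟶ C}
    (hi : Mor2.IsRegularClosedImmersion i) (hj : Mor2.IsRegularClosedImmersion j) :
    Mor2.IsRegularClosedImmersion (i ≫ j) := by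
  haveI := hi.1
  haveI := hj.1
  refine regClosed_of_koszulAt (i ≫ j) fun z => ?_
  obtain ⟨a, ha⟩ := exists_koszulAtLength hi z
  obtain ⟨b, hb⟩ := exists_koszulAtLength hj (i z)
  exact ⟨b + a, RegImmLib.IsKoszulAtLength.comp j i z hb ha⟩

/-- Regular closed immersions are local complete intersections. -/
theorem isLCI'_of_regClosed {A B : Scheme.{u}} {k : A ⟶ B} (hk : Mor2.IsRegularClosedImmersion k) :
    KRegLib.IsLCI' k := by
  haveI := hk.1
  refine (KRegLib.forall_isKoszulAt_iff k).1 fun x => ⟨⊤, B, (⊤ : A.Opens).ι ≫ k, 𝟙 B, trivial,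
    inferInstance, ⟨inferInstance, fun z => ?_⟩, inferInstance, Category.comp_id _⟩
  haveI : IsIso (⊤ : A.Opens).ι := by rw [← Scheme.topIso_hom]; infer_instance
  refine (RegImmLib.isRegularImmersionAt_iff _ z).2 ?_
  obtain ⟨a, ha⟩ := exists_koszulAtLength
    (isRegularClosedImmersion_of_isIso (⊤ : A.Opens).ι) z
  obtain ⟨b, hb⟩ := exists_koszulAtLength hk ((⊤ : A.Opens).ι z)
  exact ⟨b + a, RegImmLib.IsKoszulAtLength.comp k _ z hb ha⟩

variable {n : ℕ} {Y : Scheme.{u}} [IsNoetherian Y]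

theorem isCoh_twF {F : (KRR.PY n Y).Modules} (hF : Coh.IsCoh F) (d : ℤ) : Coh.IsCoh (KRR.twF n Y d F) := by
  haveI := isNoetherian_PY (n := n) (Y := Y)
  exact AmpleVan.isCoh_tensor (isCoh_of_finLocFree (isFinLocFree_twistOver n Y d)) hF

/-- Large twists of coherent modules are regular. -/
theorem exists_regular_bound_coh {F : (KRR.PY n Y).Modules} (hF : Coh.IsCoh F) :
    ∃ m : ℤ, 0 ≤ m ∧ ∀ j, m ≤ j → KRR.IsRegSheaf n Y (KRR.twF n Y j F) := by
  classical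
  choose d₀ hd₀ using exists_bound_affine hF
  obtain ⟨t, ht⟩ := isCompact_univ.elim_finite_subcover (fun V : Y.affineOpens => (V.1 : Set Y))
    (fun V => V.1.isOpen) (fun y _ => by
      obtain ⟨U, hU, hy, -⟩ := exists_isAffineOpen_mem_and_subset (x := y) (U := ⊤) trivial
      exact Set.mem_iUnion.2 ⟨⟨U, hU⟩, hy⟩)
  refine ⟨((t.sup d₀ + n : ℕ) : ℤ), Int.natCast_nonneg _, fun j hj q hq => ?_⟩
  obtain ⟨p, rfl⟩ := Nat.exists_eq_add_of_le' hq
  haveI := isProper_pr (n := n) (T := Y)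
  refine CohBasic.isZero_RpushAb_of_HH (KRR.pr n Y) (isQCoh_twF (isQCoh_twF hF.1 j) _) p
    (fun V : t => V.1.1) (fun V => V.1.2) (fun y => ?_) fun V => ?_
  · obtain ⟨V, hVt, hy⟩ := Set.mem_iUnion₂.1 (ht (Set.mem_univ y))
    exact ⟨⟨V, hVt⟩, hy⟩
  by_cases hp : n + 1 ≤ p + 1
  · exact subsingleton_HH_UV_gt (isQCoh_twF (isQCoh_twF hF.1 j) _) V.1 _ hp
  have hd : d₀ V.1 ≤ (j - ((p + 1 : ℕ) : ℤ)).toNat := by
    have := Finset.le_sup (f := d₀) V.2
    omega
  obtain ⟨e⟩ := twF_twF F (-((p + 1 : ℕ) : ℤ)) j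
  refine QCoh.subsingleton_HH_of_iso (((Scheme.Modules.restrictFunctor _).mapIso e ≪≫
    (twF_restrict_iso F V.1.1 _).some).symm) _ ?_
  have h := hd₀ V.1 _ hd p
  rwa [show (((j - ((p + 1 : ℕ) : ℤ)).toNat : ℕ) : ℤ) = -((p + 1 : ℕ) : ℤ) + j by omega] at h

/-- Projective space over a base with enough bundles has enough bundles. -/
theorem hasEnoughLocFree_PY (hY : KRR.HasEnoughLocFree Y) : KRR.HasEnoughLocFree (KRR.PY n Y) := by
  intro F hF
  haveI := isNoetherian_PY (n := n) (Y := Y)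
  haveI := isProper_pr (n := n) (T := Y)
  obtain ⟨m, -, hm⟩ := exists_regular_bound_coh hF
  let G := KRR.twF n Y m F
  have hG : Coh.IsCoh G := isCoh_twF hF m
  obtain ⟨E, q, hE, hq⟩ := hY _ (ExistEasy.isCoh_pushforward_proper (KRR.pr n Y) hG)
  haveI := epi_counit hG.1 (hm m le_rfl)
  let p : (Scheme.Modules.pullback (KRR.pr n Y)).obj E ⟶ G :=
    (Scheme.Modules.pullback (KRR.pr n Y)).map q ≫
      (Scheme.Modules.pullbackPushforwardAdjunction (KRR.pr n Y)).counit.app G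
  haveI : Epi p := epi_comp _ _
  haveI := AmpleVan.isEquivalence_tw (P := O (gfst n Y) (-m))
    (PicClLib.isInvertible_pullback (gfst n Y) (TwistFlat.isInvertible_twistProjSpace n (-m)))
  let e : tg G (-m) ≅ F :=
    (tg_iso G (-m)).some ≪≫ (twF_twF F (-m) m).some ≪≫ eqToIso (by rw [neg_add_cancel]) ≪≫ (twF_zero F).some
  exact ⟨_, (AmpleVan.tw (O (gfst n Y) (-m))).map p ≫ e.hom,
    isFinLocFree_tg (KFlatLib.isFinLocFree_pullback _ hE) (-m), epi_comp _ _⟩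

/-- The push-forward of a composite of factorized morphisms. -/
theorem push_comp {n m l : ℕ} {X Y Z : Scheme.{u}} [IsNoetherian Y] [IsNoetherian Z]
    (hZ : KRR.HasEnoughLocFree Z)
    {i : X ⟶ KRR.PY n Y} (hi : Mor2.IsRegularClosedImmersion i)
    {j : Y ⟶ KRR.PY m Z} (hj : Mor2.IsRegularClosedImmersion j)
    {k : X ⟶ KRR.PY l Z} (hk : Mor2.IsRegularClosedImmersion k)
    (hfg : k ≫ KRR.pr l Z = i ≫ KRR.pr n Y ≫ j ≫ KRR.pr m Z)
    {KX KY KT K₁ K₂ K₃ : Type*} [CommRing KX] [CommRing KY] [CommRing KT] [CommRing K₁] [CommRing K₂] [CommRing K₃]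
    {φX : SGA6.Kvb X →+ KX} (hKX : IsRingModel X KX φX)
    {φY : SGA6.Kvb Y →+ KY} (hKY : IsRingModel Y KY φY)
    {φZ : SGA6.Kvb Z →+ KT} (hKZ : IsRingModel Z KT φZ)
    {φ₁ : SGA6.Kvb (KRR.PY n Y) →+ K₁} (hK₁ : IsRingModel _ K₁ φ₁)
    {φ₂ : SGA6.Kvb (KRR.PY m Z) →+ K₂} (hK₂ : IsRingModel _ K₂ φ₂)
    {φ₃ : SGA6.Kvb (KRR.PY l Z) →+ K₃} (hK₃ : IsRingModel _ K₃ φ₃)
    {a₁ : KX →+ K₁} (ha₁ : KRR.IsPushCl i φX φ₁ a₁) {b₁ : K₁ →+ KY} (hb₁ : KRR.IsPushPr n Y φ₁ φY b₁)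
    {a₂ : KY →+ K₂} (ha₂ : KRR.IsPushCl j φY φ₂ a₂) {b₂ : K₂ →+ KT} (hb₂ : KRR.IsPushPr m Z φ₂ φZ b₂)
    {a₃ : KX →+ K₃} (ha₃ : KRR.IsPushCl k φX φ₃ a₃) {b₃ : K₃ →+ KT} (hb₃ : KRR.IsPushPr l Z φ₃ φZ b₃) :
    b₃.comp a₃ = (b₂.comp a₂).comp (b₁.comp a₁) := by
  haveI := hi.1
  haveI := hj.1
  haveI := hk.1
  haveI := isNoetherian_PY (n := n) (Y := Y)
  haveI := isNoetherian_PY (n := m) (Y := Z)
  haveI := isNoetherian_PY (n := l) (Y := Z)
  haveI : IsNoetherian X := {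
    toIsLocallyNoetherian := LocallyOfFiniteType.isLocallyNoetherian i
    toCompactSpace := QuasiCompact.compactSpace_of_compactSpace i }
  have hM : ∀ a, KRR.HasEnoughLocFree (KRR.PY a Z) := fun a => hasEnoughLocFree_PY hZ
  haveI hN₂ : ∀ a b, IsNoetherian (KRR.PY a (KRR.PY b Z)) := fun a b => by
    haveI := isNoetherian_PY (n := b) (Y := Z)
    exact isNoetherian_PY
  let W := KRR.PY m Z
  have hW : KRR.HasEnoughLocFree W := hM m
  have hstar : ∀ a : ℕ, KRR.HasEnoughLocFree (KRR.PY a W) ∧ ∀ b : ℕ, KRR.HasEnoughLocFree (KRR.PY a (KRR.PY b W)) :=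
    fun a => ⟨hasEnoughLocFree_PY hW, fun b => hasEnoughLocFree_PY (hasEnoughLocFree_PY hW)⟩
  let J := KRR.projSpaceMap n j
  have hJ : Mor2.IsRegularClosedImmersion J :=
    regClosed_baseChange (isPullback_projSpaceMap j (projSpaceMap_pr j)).flip hj
  haveI := hJ.1
  have hPYe : KRR.HasEnoughLocFree (KRR.PY n Y) :=
    hasEnoughLocFree_of_closed (hstar n).1 J
  obtain ⟨KP, _, φP, hKP⟩ := exists_ringModel (KRR.PY n W)
  obtain ⟨KR, _, φR, hKR⟩ := exists_ringModel (KRR.PY l W)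
  obtain ⟨KS, _, φS, hKS⟩ := exists_ringModel (KRR.PY m (KRR.PY l Z))
  obtain ⟨aJ, haJ, -⟩ := existsUnique_isPushCl (hstar n).1 hJ hK₁.bijective φP
  obtain ⟨cn, hcn, -⟩ := existsUnique_isPushPr hKP.bijective φ₂
  obtain ⟨cl', hcl, -⟩ := existsUnique_isPushPr hKR.bijective φ₂
  -- the first way
  have h1 : cn.comp aJ = a₂.comp b₁ :=
    ((pushCl_pushPr hj hW (hstar n).1 hKY hK₂ hK₁ hKP ha₂ haJ hb₁ hcn).2).symm
  have hP₁ : ∀ F : X.Modules, FlatMod.IsFinLocFree F →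
      KZ.LFRes.P₁ (KRR.PY n Y) ((Scheme.Modules.pushforward i).obj F) := fun F hF =>
    ⟨(exists_pdlt_push hi hF).choose_spec.1, hasLFRes_push hPYe hi hF⟩
  have hiJ : Mor2.IsRegularClosedImmersion (i ≫ J) := regClosed_comp hi hJ
  have haiJ := isPushCl_comp hPYe (hstar n).1 hP₁ hJ ha₁ haJ
  -- the lift of `k`
  let k' : X ⟶ KRR.PY l W :=
    pullback.lift (k ≫ gfst l Z) (i ≫ KRR.pr n Y ≫ j) (specULiftZIsTerminal.hom_ext _ _)
  have hk'₁ : k' ≫ gfst l W = k ≫ gfst l Z := pullback.lift_fst _ _ _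
  have hk'₂ : k' ≫ KRR.pr l W = i ≫ KRR.pr n Y ≫ j := pullback.lift_snd _ _ _
  let P := KRR.projSpaceMap l (KRR.pr m Z)
  have hk'P : k' ≫ P = k := by
    refine (IsPullback.of_hasPullback (CohB1.ProjSpace.toSpec l Zu.{u}) (specULiftZIsTerminal.from Z)).hom_ext ?_ ?_
    · show (k' ≫ P) ≫ gfst l Z = k ≫ gfst l Z
      rw [Category.assoc, projSpaceMap_gfst, hk'₁]
    · show (k' ≫ P) ≫ KRR.pr l Z = k ≫ KRR.pr l Z
      rw [Category.assoc, projSpaceMap_pr, ← Category.assoc, hk'₂, hfg]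
      simp only [Category.assoc]
  haveI : Smooth (KRR.pr m Z) := smooth_pr
  haveI : Smooth P :=
    MorphismProperty.of_isPullback (P := @Smooth) (isPullback_projSpaceMap (n := l) (KRR.pr m Z) (projSpaceMap_pr _)).flip
      inferInstance
  haveI : IsProper (KRR.pr m Z) := isProper_pr
  haveI : IsSeparated P :=
    MorphismProperty.of_isPullback (P := @IsSeparated) (isPullback_projSpaceMap (n := l) (KRR.pr m Z) (projSpaceMap_pr _)).flip
      inferInstance
  haveI : IsClosedImmersion (k' ≫ P) := by rw [hk'P]; infer_instance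
  haveI : IsClosedImmersion k' := IsClosedImmersion.of_comp k' P
  have hk'R : Mor2.IsRegularClosedImmersion k' :=
    regClosed_of_lci_into_smooth k' P (by rw [hk'P]; exact isLCI'_of_regClosed hk)
  obtain ⟨ak, hak, -⟩ := existsUnique_isPushCl (hstar l).1 hk'R hKX.bijective φR
  have h2 := push_indep hstar hiJ hk'R (by
      rw [hk'₂, Category.assoc, projSpaceMap_pr]) hKX hK₂ hKP hKR haiJ hcn hak hcl
  -- the second way
  obtain ⟨c', hc', -⟩ := existsUnique_isPushPr hKS.bijective φ₃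
  have hQ : KRR.HasEnoughLocFree (KRR.PY m (KRR.PY l Z)) := hasEnoughLocFree_PY (hM l)
  obtain ⟨j', a', hj', hj'₁, hj'₂, ha', hca'⟩ :=
    push_eq_lift hk (hM l) hQ (i ≫ KRR.pr n Y ≫ j ≫ gfst m Z) hKX hK₃ hKS ha₃ hc'
  obtain ⟨σ, hσ, hσ₁, hσ₂⟩ := exists_swap l m Z
  have hσR := isRegularClosedImmersion_of_isIso σ
  obtain ⟨sσ, hsσ, -⟩ := existsUnique_isPushCl hQ hσR hKR.bijective φS
  have hP₁' : ∀ F : X.Modules, FlatMod.IsFinLocFree F →
      KZ.LFRes.P₁ (KRR.PY l W) ((Scheme.Modules.pushforward k').obj F) := fun F hF =>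
    ⟨(exists_pdlt_push hk'R hF).choose_spec.1, hasLFRes_push (hstar l).1 hk'R hF⟩
  have hkk : k' ≫ σ = j' := by
    refine (isPullback_projSpaceMap (n := m) (KRR.pr l Z) (projSpaceMap_pr _)).hom_ext ?_ ?_
    · rw [Category.assoc, hσ₂, hk'₂]
      refine (IsPullback.of_hasPullback (CohB1.ProjSpace.toSpec m Zu.{u}) (specULiftZIsTerminal.from Z)).hom_ext ?_ ?_
      · show (i ≫ KRR.pr n Y ≫ j) ≫ gfst m Z = (j' ≫ KRR.projSpaceMap m (KRR.pr l Z)) ≫ gfst m Z
        rw [Category.assoc j', projSpaceMap_gfst, hj'₂]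
        simp only [Category.assoc]
      · show (i ≫ KRR.pr n Y ≫ j) ≫ KRR.pr m Z = (j' ≫ KRR.projSpaceMap m (KRR.pr l Z)) ≫ KRR.pr m Z
        rw [Category.assoc j', projSpaceMap_pr, ← Category.assoc j', hj'₁, hfg]
        simp only [Category.assoc]
    · rw [Category.assoc, hσ₁, hj'₁, hk'P]
  have heq := isPushCl_ext hkk.symm hj' hKX.bijective ha' (isPushCl_comp (hstar l).1 hQ hP₁' hσR hak hsσ)
  refine AddMonoidHom.ext fun x => ?_
  show b₃ (a₃ x) = b₂ (a₂ (b₁ (a₁ x)))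
  rw [show a₂ (b₁ (a₁ x)) = cn (aJ (a₁ x)) from (DFunLike.congr_fun h1 _).symm,
    show cn (aJ (a₁ x)) = cl' (ak x) from DFunLike.congr_fun h2 x, ← hca', heq]
  exact fubini hQ hσ₁ hσ₂ hKZ hK₃ hK₂ hKR hKS hb₃ hb₂ hcl hc' hsσ (ak x)

end Groth.Agent.KRRReg
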