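import Mathlib.RingTheory.Flat.Basic
import Mathlib.LinearAlgebra.TensorProduct.RightExactness
import Mathlib.LinearAlgebra.Finsupp.LinearCombination

/-!
# Exact tails of flat complexes stay exact after tensoring
-/

set_option autoImplicit false
set_option backward.isDefEq.respectTransparency false
set_option backward.isDefEq.respectTransparency.types false

universe u


open TensorProduct

namespace Groth.Agent.KRRReg

variable {A : Type u} [CommRing A]

/-- If `X₁ → X₂ → X₃` stays exact after every tensor and `X₀ → X₁ → X₂` is exact with `X₃` flat, then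
`X₀ → X₁ → X₂` stays exact after every tensor. -/
theorem exact_lTensor_step {X₀ X₁ X₂ X₃ : Type u} [AddCommGroup X₀] [AddCommGroup X₁] [AddCommGroup X₂]
    [AddCommGroup X₃] [Module A X₀] [Module A X₁] [Module A X₂] [Module A X₃]
    (f : X₀ →ₗ[A] X₁) (g : X₁ →ₗ[A] X₂) (h : X₂ →ₗ[A] X₃) [Module.Flat A X₃]
    (hfg : Function.Exact f g) (hgh : h ∘ₗ g = 0)
    (H : ∀ (K : Type u) [AddCommGroup K] [Module A K], Function.Exact (g.lTensor K) (h.lTensor K))
    (M : Type u) [AddCommGroup M] [Module A M] : Function.Exact (f.lTensor M) (g.lTensor M) := by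
  let π : (M →₀ A) →ₗ[A] M := Finsupp.linearCombination A id
  have hπ : Function.Surjective π := fun m => ⟨Finsupp.single m 1, by simp [π]⟩
  let K := LinearMap.ker π
  let j : K →ₗ[A] (M →₀ A) := K.subtype
  intro x
  refine ⟨fun hx => ?_, ?_⟩
  · obtain ⟨y, rfl⟩ := LinearMap.rTensor_surjective X₁ hπ x
    have h1 : π.rTensor X₂ (g.lTensor _ y) = 0 := by
      rw [← LinearMap.comp_apply, LinearMap.rTensor_comp_lTensor, ← LinearMap.lTensor_comp_rTensor]
      exact hx
    have hjπ : Function.Exact j π := LinearMap.exact_subtype_ker_map π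
    have hh := rTensor_exact (M := ↥K) (N := M →₀ A) (P := M) (R := A) (f := j) (g := π) X₂
    obtain ⟨z, hz⟩ := (hh hjπ hπ _).1 h1
    have h2 : h.lTensor K z = 0 := by
      refine Module.Flat.rTensor_preserves_injective_linearMap (M := X₃) j K.injective_subtype ?_
      rw [map_zero, ← LinearMap.comp_apply, LinearMap.rTensor_comp_lTensor, ← LinearMap.lTensor_comp_rTensor,
        LinearMap.comp_apply, show j.rTensor X₂ z = g.lTensor _ y from hz, ← LinearMap.comp_apply,
        ← LinearMap.lTensor_comp, hgh, LinearMap.lTensor_zero, LinearMap.zero_apply]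
    obtain ⟨w, rfl⟩ := (H K z).1 h2
    have h3 : g.lTensor (M →₀ A) (y - j.rTensor X₁ w) = 0 := by
      rw [map_sub, ← LinearMap.comp_apply (g.lTensor _) (j.rTensor X₁), LinearMap.lTensor_comp_rTensor,
        ← LinearMap.rTensor_comp_lTensor, LinearMap.comp_apply]
      exact sub_eq_zero.2 hz.symm
    obtain ⟨v, hv⟩ := (Module.Flat.lTensor_exact (M →₀ A) hfg _).1 h3
    refine ⟨π.rTensor X₀ v, ?_⟩
    rw [← LinearMap.comp_apply, LinearMap.lTensor_comp_rTensor, ← LinearMap.rTensor_comp_lTensor,
      LinearMap.comp_apply, hv, map_sub, ← LinearMap.comp_apply (π.rTensor X₁) (j.rTensor X₁),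
      ← LinearMap.rTensor_comp]
    rw [show π ∘ₗ j = 0 from LinearMap.ext fun k => k.2, LinearMap.rTensor_zero, LinearMap.zero_apply, sub_zero]
  · rintro ⟨v, rfl⟩
    rw [← LinearMap.comp_apply, ← LinearMap.lTensor_comp, hfg.linearMap_comp_eq_zero, LinearMap.lTensor_zero,
      LinearMap.zero_apply]

/-- Exchanging the sides of a tensor. -/
theorem exact_lTensor_of_rTensor {X₀ X₁ X₂ : Type u} [AddCommGroup X₀] [AddCommGroup X₁] [AddCommGroup X₂]
    [Module A X₀] [Module A X₁] [Module A X₂] (f : X₀ →ₗ[A] X₁) (g : X₁ →ₗ[A] X₂)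
    (M : Type u) [AddCommGroup M] [Module A M] (h : Function.Exact (f.rTensor M) (g.rTensor M)) :
    Function.Exact (f.lTensor M) (g.lTensor M) := by
  refine Function.Exact.of_ladder_linearEquiv_of_exact (e₁ := TensorProduct.comm A X₀ M)
    (e₂ := TensorProduct.comm A X₁ M) (e₃ := TensorProduct.comm A X₂ M) ?_ ?_ h
  · exact TensorProduct.ext' fun a b => rfl
  · exact TensorProduct.ext' fun a b => rfl

/-- A sequence of flat modules, exact, and exact after every tensor from some point on, stays exact after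
every tensor. -/
theorem exact_lTensor_of_eventually {D : ℕ → Type u} [∀ i, AddCommGroup (D i)] [∀ i, Module A (D i)]
    [∀ i, Module.Flat A (D i)] (d : ∀ i, D i →ₗ[A] D (i + 1)) {q N : ℕ}
    (hd : ∀ i, d (i + 1) ∘ₗ d i = 0) (hex : ∀ i, q ≤ i → Function.Exact (d i) (d (i + 1)))
    (hbig : ∀ (M : Type u) [AddCommGroup M] [Module A M] (i : ℕ), N ≤ i →
      Function.Exact ((d i).lTensor M) ((d (i + 1)).lTensor M)) :
    ∀ (i : ℕ), q ≤ i → ∀ (M : Type u) [AddCommGroup M] [Module A M],
      Function.Exact ((d i).lTensor M) ((d (i + 1)).lTensor M) := by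
  suffices h : ∀ k i : ℕ, N ≤ i + k → q ≤ i → ∀ (M : Type u) [AddCommGroup M] [Module A M],
      Function.Exact ((d i).lTensor M) ((d (i + 1)).lTensor M) from fun i hi => h N i (by omega) hi
  intro k
  induction k with
  | zero => exact fun i hi _ M _ _ => hbig M i hi
  | succ k ih =>
    exact fun i hi hq M _ _ => exact_lTensor_step (d i) (d (i + 1)) (d (i + 2)) (hex i hq) (hd (i + 1))
      (fun K _ _ => ih (i + 1) (by omega) (by omega) K) M

end Groth.Agent.KRRReg
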