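import Groth.Agent.KRRReg.TorGeom

/-!
# Regularly meeting subschemes
-/

set_option linter.style.haveILetI false
set_option linter.unusedSectionVars false
set_option backward.isDefEq.respectTransparency false
set_option backward.isDefEq.respectTransparency.types false
set_option maxHeartbeats 1000000
set_option autoImplicit false

universe u v

open CategoryTheory CategoryTheory.Limits AlgebraicGeometry

noncomputable section

namespace Groth.Agent.KRRReg

open Groth.Agent

variable {X Z : Scheme.{u}}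

/-- A closed subscheme of a scheme with enough bundles has enough bundles. -/
theorem hasEnoughLocFree_of_closed [IsNoetherian X] [IsNoetherian Z] (hX : KRR.HasEnoughLocFree X) (i : Z ⟶ X)
    [IsClosedImmersion i] : KRR.HasEnoughLocFree Z := by
  intro F hF
  obtain ⟨E, p, hE, hp⟩ := hX _ (ExistEasy.isCoh_pushforward_proper i hF)
  haveI := AmpleVan.isIso_counit i hF.1
  exact ⟨_, (Scheme.Modules.pullback i).map p ≫ (Scheme.Modules.pullbackPushforwardAdjunction i).counit.app F,
    KFlatLib.isFinLocFree_pullback i hE, epi_comp _ _⟩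

/-- The classes of two regularly meeting subschemes multiply to the class of the intersection. -/
theorem pushCl_one_mul {X Y Z W : Scheme.{u}} [IsNoetherian X] (hXe : KRR.HasEnoughLocFree X) (i : Y ⟶ X)
    (hi : Mor2.IsRegularClosedImmersion i) (j : Z ⟶ X) (hj : Mor2.IsRegularClosedImmersion j)
    (h : W ⟶ Y) (g : W ⟶ Z) (hsq : IsPullback g h j i) (hg : Mor2.IsRegularClosedImmersion g) (d : ℕ)
    (hci : FlatMod.IsFinLocFreeOfRank d (Omega.conormal i)) (hcg : FlatMod.IsFinLocFreeOfRank d (Omega.conormal g))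
    [IsNoetherian Y] [IsNoetherian Z] [IsNoetherian W]
    {KX : Type*} {KY : Type*} {KT : Type*} {KW : Type*} [CommRing KX] [CommRing KY] [CommRing KT]
 [CommRing KW] {φX : SGA6.Kvb X →+ KX} (hKX : IsRingModel X KX φX)
    {φY : SGA6.Kvb Y →+ KY} (hφY : Function.Bijective φY) (hY1 : φY (KRR.cl Y (Coh.structureModule Y)) = 1) {φZ : SGA6.Kvb Z →+ KT} (hKZ : IsRingModel Z KT φZ)
    {φW : SGA6.Kvb W →+ KW} (hφW : Function.Bijective φW) (hW1 : φW (KRR.cl W (Coh.structureModule W)) = 1)
    {a : KY →+ KX} (ha : KRR.IsPushCl i φY φX a) {b : KT →+ KX} (hb : KRR.IsPushCl j φZ φX b)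
    {c : KW →+ KX} (hc : KRR.IsPushCl (g ≫ j) φW φX c) : a 1 * b 1 = c 1 := by
  haveI := hj.1
  have hZe := hasEnoughLocFree_of_closed hXe j
  obtain ⟨a', ha', -⟩ := existsUnique_isPushCl hZe hg hφW φZ
  obtain ⟨jP, hjP, -⟩ := existsUnique_isPull j φZ hKX.bijective
  obtain ⟨hP, hhP, -⟩ := existsUnique_isPull h φW hφY
  haveI : IsIso (SheafOfModules.pullbackObjUnitToUnit h.toRingCatSheafHom) := inferInstance
  let e : (Scheme.Modules.pullback h).obj (Coh.structureModule Y) ≅ Coh.structureModule W :=
    asIso (SheafOfModules.pullbackObjUnitToUnit h.toRingCatSheafHom)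
  have h1 : hP 1 = 1 := by
    rw [← hY1, hhP _ (isFinLocFree_structure Y), cl_iso e (isFinLocFree_iso e.symm (isFinLocFree_structure W)),
      hW1]
  have key := pull_pushCl_of_sameCodim i j g h hsq hi hg d hci hcg hZe hXe hφY hjP hhP ha ha' 1
  rw [h1] at key
  rw [pushCl_comp hZe hXe hg hj hφW ha' hb hc, AddMonoidHom.comp_apply, ← key, mul_comm,
    ← pushCl_mul_pull hXe hj hKZ hKX hjP hb 1 (a 1), one_mul]

end Groth.Agent.KRRReg
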