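import Groth.Agent.KRRReg.PnBaseChange
import Groth.Agent.KRRReg.Meet

/-!
# Independence of the push-forward from the factorization
-/

set_option linter.style.haveILetI false
set_option linter.unusedSectionVars false
set_option backward.isDefEq.respectTransparency false
set_option backward.isDefEq.respectTransparency.types false
set_option maxHeartbeats 1000000
set_option autoImplicit false

universe u v

open CategoryTheory CategoryTheory.Limits AlgebraicGeometry TopologicalSpace Opposite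
open Groth.Agent.H23.PicMul
open RingTheory.Sequence

noncomputable section

namespace Groth.Agent.KRRReg

open Groth.Agent

/-- The class of `O(t)`. -/
abbrev tw1 (n : ℕ) (Y : Scheme.{u}) (t : ℤ) : SGA6.Kvb (KRR.PY n Y) := KRR.cl (KRR.PY n Y) (Twist.twistOver n Y t)

theorem isFinLocFree_twistOver (n : ℕ) (Y : Scheme.{u}) (t : ℤ) : FlatMod.IsFinLocFree (Twist.twistOver n Y t) :=
  H23.PullPush.isFinLocFree_of_isInvertible
    (PicClLib.isInvertible_pullback (gfst n Y) (TwistFlat.isInvertible_twistProjSpace n t))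

theorem push_tw1 {n : ℕ} {Y : Scheme.{u}} [IsNoetherian Y] {KP KY : Type*} [CommRing KP] [CommRing KY]
    {φP : SGA6.Kvb (KRR.PY n Y) →+ KP} {φY : SGA6.Kvb Y →+ KY} (hKY : IsRingModel Y KY φY) {g : KP →+ KY}
    (hg : KRR.IsPushPr n Y φP φY g) (t : ℤ) :
    g (φP (tw1 n Y t)) = ((Ring.choose (t + n) n : ℤ) : KY) := by
  show g (φP (KRR.cl (KRR.PY n Y) (O (gfst n Y) t))) = _
  rw [← cl_iso (twF_structure_iso Y t).some (isFinLocFree_twF_structure Y t)]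
  exact push_class Y hKY hg t

theorem cl_pullback_comp {A B C : Scheme.{u}} (a : A ⟶ B) (b : B ⟶ C) (c : A ⟶ C) (h : a ≫ b = c) {M : C.Modules}
    (hM : FlatMod.IsFinLocFree M) :
    KRR.cl A ((Scheme.Modules.pullback a).obj ((Scheme.Modules.pullback b).obj M)) =
      KRR.cl A ((Scheme.Modules.pullback c).obj M) :=
  cl_iso ((Scheme.Modules.pullbackComp a b).app M ≪≫ (Scheme.Modules.pullbackCongr h).app M)
    (KFlatLib.isFinLocFree_pullback a (KFlatLib.isFinLocFree_pullback b hM))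

theorem pull_pull_eq {A B B' C : Scheme.{u}} {a : A ⟶ B} {b : B ⟶ C} {a' : A ⟶ B'} {b' : B' ⟶ C}
    (h : a ≫ b = a' ≫ b') {KA KB KB' KC : Type*} [CommRing KA] [CommRing KB] [CommRing KB'] [CommRing KC]
    {φA : SGA6.Kvb A →+ KA} {φB : SGA6.Kvb B →+ KB} {φB' : SGA6.Kvb B' →+ KB'} {φC : SGA6.Kvb C →+ KC}
    {ga : KB →+ KA} (hga : KRR.IsPull a φB φA ga) {gb : KC →+ KB} (hgb : KRR.IsPull b φC φB gb)
    {ga' : KB' →+ KA} (hga' : KRR.IsPull a' φB' φA ga') {gb' : KC →+ KB'} (hgb' : KRR.IsPull b' φC φB' gb')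
    {M : C.Modules} (hM : FlatMod.IsFinLocFree M) :
    ga (gb (φC (KRR.cl C M))) = ga' (gb' (φC (KRR.cl C M))) := by
  rw [hgb M hM, hga _ (KFlatLib.isFinLocFree_pullback b hM), hgb' M hM,
    hga' _ (KFlatLib.isFinLocFree_pullback b' hM), cl_pullback_comp a b (a' ≫ b') h hM,
    cl_pullback_comp a' b' _ rfl hM]

theorem pull_mul {A B : Scheme.{u}} {a : A ⟶ B} {KA KB : Type*} [CommRing KA] [CommRing KB]
    {φA : SGA6.Kvb A →+ KA} (hKA : IsRingModel A KA φA) {φB : SGA6.Kvb B →+ KB} (hKB : IsRingModel B KB φB)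
    {ga : KB →+ KA} (hga : KRR.IsPull a φB φA ga) (x y : KB) : ga (x * y) = ga x * ga y := by
  obtain ⟨x, rfl⟩ := hKB.bijective.2 x
  obtain ⟨y, rfl⟩ := hKB.bijective.2 y
  refine DFunLike.congr_fun (KZ.K0sub_hom_ext (KRR.vbP B) (f := ga.comp ((AddMonoidHom.mulRight (φB y)).comp φB))
    (g := (AddMonoidHom.mulRight (ga (φB y))).comp (ga.comp φB)) fun E hE => ?_) x
  refine DFunLike.congr_fun (KZ.K0sub_hom_ext (KRR.vbP B)
    (f := ga.comp ((AddMonoidHom.mulLeft (φB (KRR.cl B E))).comp φB))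
    (g := (AddMonoidHom.mulLeft (ga (φB (KRR.cl B E)))).comp (ga.comp φB)) fun F hF => ?_) y
  show ga (φB (KRR.cl B E) * φB (KRR.cl B F)) = ga (φB (KRR.cl B E)) * ga (φB (KRR.cl B F))
  rw [hKB.map_mul E F hE hF, hga E hE, hga F hF, hga _ (KFlatLib.isFinLocFree_tensor hE hF),
    hKA.map_mul _ _ (KFlatLib.isFinLocFree_pullback a hE) (KFlatLib.isFinLocFree_pullback a hF)]
  obtain ⟨e⟩ := H23.PicMul.pull a E F
  exact congrArg φA (cl_iso e (KFlatLib.isFinLocFree_pullback a (KFlatLib.isFinLocFree_tensor hE hF)))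

/-- The composite of two push-forwards is the push-forward of the composite. -/
theorem isPushCl_comp {X Y Z : Scheme.{u}} [IsNoetherian X] [IsNoetherian Y] [IsNoetherian Z]
    (hY : KRR.HasEnoughLocFree Y) (hZ : KRR.HasEnoughLocFree Z) {f : X ⟶ Y} {g : Y ⟶ Z}
    (hP₀ : ∀ F : X.Modules, FlatMod.IsFinLocFree F → KZ.LFRes.P₁ Y ((Scheme.Modules.pushforward f).obj F))
    (hg : Mor2.IsRegularClosedImmersion g) {KX KY KT : Type*}
    [CommRing KX] [CommRing KY] [CommRing KT] {φX : SGA6.Kvb X →+ KX}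
    {φY : SGA6.Kvb Y →+ KY} {φZ : SGA6.Kvb Z →+ KT} {a : KX →+ KY} (ha : KRR.IsPushCl f φX φY a)
    {b : KY →+ KT} (hb : KRR.IsPushCl g φY φZ b) : KRR.IsPushCl (f ≫ g) φX φZ (b.comp a) := by
  haveI := hg.1
  intro F hF n L π hres
  obtain ⟨eY, heY⟩ := exists_bundleClass hY
  obtain ⟨eZ, heZ⟩ := exists_bundleClass hZ
  obtain ⟨Φ, hΦ⟩ := KZ.exists_liftSub (KZ.LFRes.P₁ Y)
    (fun A => φZ (eZ (KZero.clSub (KZ.LFRes.P₁ Z) ((Scheme.Modules.pushforward g).obj A)))) fun S hS h₁ h₂ h₃ => by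
      have := KZ.clSub_ses _ (shortExact_pushClosed (f := g) hS h₂.1.1 h₃.1.1) (p₁_push hY hZ hg h₁)
        (p₁_push hY hZ hg h₂) (p₁_push hY hZ hg h₃)
      exact (congrArg (φZ.comp eZ) this).trans (map_add _ _ _)
  have key : (b.comp φY).comp eY = Φ := p₁_hom_ext hY fun E hE => by
    show b (φY (eY (KZero.clSub (KZ.LFRes.P₁ Y) E))) = _
    rw [heY E hE, hΦ E (p₁_vb hY hE)]
    exact pushCl_apply hZ heZ hb hE (p₁_push hY hZ hg (p₁_vb hY hE))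
  have hP : KZ.LFRes.P₁ Y ((Scheme.Modules.pushforward f).obj F) := hP₀ F hF
  let ε := ((Scheme.Modules.pushforwardComp f g).app F).symm
  have hP' := p₁_push hY hZ hg hP
  show b (a (φX (KRR.cl X F))) = _
  rw [pushCl_apply hY heY ha hF hP]
  refine Eq.trans (DFunLike.congr_fun key _) ?_
  rw [hΦ _ hP]
  refine (congrArg (fun t => φZ (eZ t)) (clSub_p₁_iso hZ ε.symm hP')).trans ?_
  show φZ (eZ (KZero.clSub (KZ.LFRes.P₁ Z) ((Scheme.Modules.pushforward (f ≫ g)).obj F))) = _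
  rw [cl_eq_altsum hZ hres, map_sum, map_sum]
  refine Finset.sum_congr rfl fun k _ => ?_
  rw [map_zsmul, map_zsmul, heZ _ (hres.finLocFree k)]

theorem isRegularClosedImmersion_of_isIso {A B : Scheme.{u}} (e : A ⟶ B) [IsIso e] :
    Mor2.IsRegularClosedImmersion e := by
  refine ⟨inferInstance, fun z => ?_⟩
  obtain ⟨U, hU, hzU, -⟩ := exists_isAffineOpen_mem_and_subset (U := ⊤) (x := e z) trivial
  refine ⟨U, hU, hzU, [], ?_, ?_⟩
  · haveI : Nonempty U := ⟨⟨e z, hzU⟩⟩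
    haveI : Nontrivial Γ(B, U) := inferInstance
    exact RingTheory.Sequence.IsRegular.nil _ _
  · rw [Scheme.Hom.ker_apply, Ideal.ofList_nil]
    exact (RingHom.injective_iff_ker_eq_bot _).1 (ConcreteCategory.bijective_of_isIso (e.app U)).1

/-- For an isomorphism push-forward inverts pull-back. -/
theorem pushCl_pull_iso {A B : Scheme.{u}} [IsNoetherian A] [IsNoetherian B] (hB : KRR.HasEnoughLocFree B)
    (e : A ⟶ B) [IsIso e] {KA KB : Type*} [CommRing KA] [CommRing KB] {φA : SGA6.Kvb A →+ KA}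
    (hKA : IsRingModel A KA φA) {φB : SGA6.Kvb B →+ KB} (hKB : IsRingModel B KB φB) {g : KB →+ KA}
    (hg : KRR.IsPull e φB φA g) {h : KA →+ KB} (hh : KRR.IsPushCl e φA φB h) (w : KB) : h (g w) = w := by
  have he := isRegularClosedImmersion_of_isIso e
  obtain ⟨eB, heB⟩ := exists_bundleClass hB
  let ε := H23.PullPush.structureModuleIsoPush e fun U => ConcreteCategory.bijective_of_isIso (e.app U)
  have h1 : h 1 = 1 := by
    rw [← hKA.map_one, ← hKB.map_one, pushCl_apply hB heB hh (isFinLocFree_structure A)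
      (p₁_iso hB ε (p₁_vb hB (isFinLocFree_structure B))),
      ← clSub_p₁_iso hB ε (p₁_vb hB (isFinLocFree_structure B)), heB _ (isFinLocFree_structure B)]
  have := pushCl_mul_pull hB he hKA hKB hg hh 1 w
  rwa [one_mul, h1, one_mul] at this

variable {n m : ℕ} {Y : Scheme.{u}}

theorem projSpaceMap_pr {n : ℕ} {A B : Scheme.{u}} (i : A ⟶ B) :
    KRR.projSpaceMap n i ≫ KRR.pr n B = KRR.pr n A ≫ i := pullback.lift_snd _ _ _

/-- Push-forward from `P^n × P^m` does not depend on the order. -/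
theorem fubini [IsNoetherian Y] (hQ : KRR.HasEnoughLocFree (KRR.PY m (KRR.PY n Y)))
    {σ : KRR.PY n (KRR.PY m Y) ⟶ KRR.PY m (KRR.PY n Y)} [IsIso σ]
    (hσ₁ : σ ≫ KRR.pr m (KRR.PY n Y) = KRR.projSpaceMap n (KRR.pr m Y))
    (hσ₂ : σ ≫ KRR.projSpaceMap m (KRR.pr n Y) = KRR.pr n (KRR.PY m Y))
    {KY K₁ K₂ KQ KQ' : Type*} [CommRing KY] [CommRing K₁] [CommRing K₂] [CommRing KQ] [CommRing KQ']
    {φY : SGA6.Kvb Y →+ KY} (hKY : IsRingModel Y KY φY)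
    {φ₁ : SGA6.Kvb (KRR.PY n Y) →+ K₁} (hK₁ : IsRingModel _ K₁ φ₁)
    {φ₂ : SGA6.Kvb (KRR.PY m Y) →+ K₂} (hK₂ : IsRingModel _ K₂ φ₂)
    {φQ : SGA6.Kvb (KRR.PY n (KRR.PY m Y)) →+ KQ} (hKQ : IsRingModel _ KQ φQ)
    {φQ' : SGA6.Kvb (KRR.PY m (KRR.PY n Y)) →+ KQ'} (hKQ' : IsRingModel _ KQ' φQ')
    {b₁ : K₁ →+ KY} (hb₁ : KRR.IsPushPr n Y φ₁ φY b₁) {b₂ : K₂ →+ KY} (hb₂ : KRR.IsPushPr m Y φ₂ φY b₂)
    {c : KQ →+ K₂} (hc : KRR.IsPushPr n (KRR.PY m Y) φQ φ₂ c)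
    {c' : KQ' →+ K₁} (hc' : KRR.IsPushPr m (KRR.PY n Y) φQ' φ₁ c')
    {s : KQ →+ KQ'} (hs : KRR.IsPushCl σ φQ φQ' s) (z : KQ) : b₁ (c' (s z)) = b₂ (c z) := by
  haveI := isNoetherian_PY (n := n) (Y := Y)
  haveI := isNoetherian_PY (n := m) (Y := Y)
  haveI := isNoetherian_PY (n := n) (Y := KRR.PY m Y)
  haveI := isNoetherian_PY (n := m) (Y := KRR.PY n Y)
  obtain ⟨σs, hσs, -⟩ := existsUnique_isPull σ φQ hKQ'.bijective
  suffices key : ∀ w : KQ', b₁ (c' w) = b₂ (c (σs w)) by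
    have hsurj : ∀ z, σs (s z) = z := fun z => by
      obtain ⟨t, ht, -⟩ := existsUnique_isPull (inv σ) φQ' hKQ.bijective
      have h2 : ∀ z, σs (t z) = z := fun z => by
        obtain ⟨z, rfl⟩ := hKQ.bijective.2 z
        refine DFunLike.congr_fun (KZ.K0sub_hom_ext (KRR.vbP _) (f := σs.comp (t.comp φQ)) (g := φQ) fun E hE => ?_) z
        show σs (t (φQ (KRR.cl _ E))) = φQ (KRR.cl _ E)
        rw [ht E hE, hσs _ (KFlatLib.isFinLocFree_pullback _ hE), cl_pullback_comp σ (inv σ) (𝟙 _) (by simp) hE]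
        exact congrArg φQ (cl_iso ((Scheme.Modules.pullbackId _).app E) (KFlatLib.isFinLocFree_pullback _ hE))
      rw [← h2 z, pushCl_pull_iso hQ σ hKQ hKQ' hσs hs]
    rw [key, hsurj]
  obtain ⟨q₁, hq₁, -⟩ := existsUnique_isPull (KRR.pr m (KRR.PY n Y)) φQ' hK₁.bijective
  obtain ⟨q₂, hq₂, -⟩ := existsUnique_isPull (KRR.pr n (KRR.PY m Y)) φQ hK₂.bijective
  obtain ⟨p₁, hp₁, -⟩ := existsUnique_isPull (KRR.pr n Y) φ₁ hKY.bijective
  obtain ⟨p₂, hp₂, -⟩ := existsUnique_isPull (KRR.pr m Y) φ₂ hKY.bijective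
  obtain ⟨r, hr, -⟩ := existsUnique_isPull (KRR.projSpaceMap n (KRR.pr m Y)) φQ hK₁.bijective
  intro w
  obtain ⟨w, rfl⟩ := hKQ'.bijective.2 w
  refine DFunLike.congr_fun (hom_ext_twists (n := m) (a := b₁.comp (c'.comp φQ'))
    (b := b₂.comp (c.comp (σs.comp φQ'))) fun t E₁ _ hE₁ => ?_) w
  show b₁ (c' (φQ' _)) = b₂ (c (σs (φQ' _)))
  let M : ℤ := (Ring.choose (-(t : ℤ) + m) m : ℤ)
  rw [← hKQ'.map_mul _ _ (isFinLocFree_twistOver m _ _) (KFlatLib.isFinLocFree_pullback _ hE₁), ← hq₁ E₁ hE₁,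
    pushPr_mul_pull hKQ' hK₁ hc' hq₁, push_tw1 hK₁ hc', ← zsmul_eq_mul, map_zsmul, pull_mul hKQ hKQ' hσs]
  -- pull back of the twist
  have htw : σs (φQ' (tw1 m (KRR.PY n Y) (-(t : ℤ)))) = q₂ (φ₂ (tw1 m Y (-(t : ℤ)))) := by
    rw [hq₂ _ (isFinLocFree_twistOver m Y _), hσs _ (isFinLocFree_twistOver m _ _)]
    refine congrArg φQ ?_
    have hT : FlatMod.IsFinLocFree (Twist.twistProjSpace m Zu.{u} (-(t : ℤ))) :=
      H23.PullPush.isFinLocFree_of_isInvertible (TwistFlat.isInvertible_twistProjSpace m (-(t : ℤ)))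
    refine Eq.trans (cl_pullback_comp σ (gfst m (KRR.PY n Y))
      (KRR.pr n (KRR.PY m Y) ≫ gfst m Y) ?_ hT) (cl_pullback_comp _ (gfst m Y) _ rfl hT).symm
    rw [← hσ₂, Category.assoc, projSpaceMap_gfst]
  have hre : ∀ x, σs (q₁ x) = r x := fun x => by
    obtain ⟨x, rfl⟩ := hK₁.bijective.2 x
    refine DFunLike.congr_fun (KZ.K0sub_hom_ext (KRR.vbP _) (f := σs.comp (q₁.comp φ₁)) (g := r.comp φ₁)
      fun E hE => ?_) x
    show σs (q₁ (φ₁ (KRR.cl _ E))) = r (φ₁ (KRR.cl _ E))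
    rw [hq₁ E hE, hr E hE, hσs _ (KFlatLib.isFinLocFree_pullback _ hE), cl_pullback_comp σ _ _ hσ₁ hE]
  rw [htw, hre, mul_comm, pushPr_mul_pull hKQ hK₂ hc hq₂]
  -- base change along `P^m → Y`
  have hbc : ∀ x, c (r x) = p₂ (b₁ x) := fun x => by
    obtain ⟨x, rfl⟩ := hK₁.bijective.2 x
    refine DFunLike.congr_fun (hom_ext_twists (n := n) (a := c.comp (r.comp φ₁))
      (b := p₂.comp (b₁.comp φ₁)) fun a E _ hE => ?_) x
    show c (r (φ₁ _)) = p₂ (b₁ (φ₁ _))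
    rw [← hK₁.map_mul _ _ (isFinLocFree_twistOver n _ _) (KFlatLib.isFinLocFree_pullback _ hE), ← hp₁ E hE,
      pull_mul hKQ hK₁ hr, pushPr_mul_pull hK₁ hKY hb₁ hp₁, push_tw1 hKY hb₁, ← zsmul_eq_mul, map_zsmul]
    have hra : r (φ₁ (tw1 n Y (-(a : ℤ)))) = φQ (tw1 n (KRR.PY m Y) (-(a : ℤ))) := by
      rw [hr _ (isFinLocFree_twistOver n Y _)]
      exact congrArg φQ (cl_pullback_comp _ (gfst n Y) _ (projSpaceMap_gfst _)
        (H23.PullPush.isFinLocFree_of_isInvertible (TwistFlat.isInvertible_twistProjSpace n _)))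
    rw [hra, pull_pull_eq (projSpaceMap_pr (n := n) (KRR.pr m Y)) hr hp₁ hq₂ hp₂ hE,
      pushPr_mul_pull hKQ hK₂ hc hq₂, push_tw1 hK₂ hc, zsmul_eq_mul]
  rw [hbc, mul_comm, pushPr_mul_pull hK₂ hKY hb₂ hp₂, push_tw1 hKY hb₂, zsmul_eq_mul]

/-- The lift of a morphism to `P^n_X`. -/
theorem exists_section {X : Scheme.{u}} (g : X ⟶ Pz n) :
    ∃ s : X ⟶ KRR.PY n X, s ≫ KRR.pr n X = 𝟙 X ∧ s ≫ gfst n X = g :=
  ⟨pullback.lift g (𝟙 X) (specULiftZIsTerminal.hom_ext _ _), pullback.lift_snd _ _ _, pullback.lift_fst _ _ _⟩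

/-- Push-forwards along the same morphism agree. -/
theorem isPushCl_ext {X Z : Scheme.{u}} {j j' : X ⟶ Z} (h : j = j')
    (hres : ∀ F : X.Modules, FlatMod.IsFinLocFree F → KZ.LFRes.P₁ Z ((Scheme.Modules.pushforward j).obj F))
    {KX KT : Type*} [CommRing KX] [CommRing KT] {φX : SGA6.Kvb X →+ KX} (hφ : Function.Bijective φX)
    {φZ : SGA6.Kvb Z →+ KT} {a a' : KX →+ KT} (ha : KRR.IsPushCl j φX φZ a) (ha' : KRR.IsPushCl j' φX φZ a') :
    a = a' := by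
  subst h
  refine AddMonoidHom.ext fun z => ?_
  obtain ⟨x, rfl⟩ := hφ.2 z
  refine DFunLike.congr_fun (KZ.K0sub_hom_ext (KRR.vbP X) (f := a.comp φX) (g := a'.comp φX) fun F hF => ?_) x
  obtain ⟨n, L, π, hL⟩ := (hres F hF).2
  exact (ha F hF n L π hL).trans (ha' F hF n L π hL).symm

/-- Pushing a factorization forward through a larger product gives the same answer. -/
theorem push_eq_lift [IsNoetherian Y] {X : Scheme.{u}} [IsNoetherian X] {i₂ : X ⟶ KRR.PY m Y}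
    (h₂ : Mor2.IsRegularClosedImmersion i₂) (hP₂ : KRR.HasEnoughLocFree (KRR.PY m Y))
    (hQ : KRR.HasEnoughLocFree (KRR.PY n (KRR.PY m Y))) (g : X ⟶ Pz n)
    {KX K₂ KQ : Type*} [CommRing KX] [CommRing K₂] [CommRing KQ] {φX : SGA6.Kvb X →+ KX}
    (hKX : IsRingModel X KX φX) {φ₂ : SGA6.Kvb (KRR.PY m Y) →+ K₂} (hK₂ : IsRingModel _ K₂ φ₂)
    {φQ : SGA6.Kvb (KRR.PY n (KRR.PY m Y)) →+ KQ} (hKQ : IsRingModel _ KQ φQ)
    {a₂ : KX →+ K₂} (ha₂ : KRR.IsPushCl i₂ φX φ₂ a₂) {c : KQ →+ K₂}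
    (hc : KRR.IsPushPr n (KRR.PY m Y) φQ φ₂ c) :
    ∃ (j : X ⟶ KRR.PY n (KRR.PY m Y)) (a : KX →+ KQ),
      (∀ F : X.Modules, FlatMod.IsFinLocFree F →
        KZ.LFRes.P₁ (KRR.PY n (KRR.PY m Y)) ((Scheme.Modules.pushforward j).obj F)) ∧
      j ≫ KRR.pr n (KRR.PY m Y) = i₂ ∧ j ≫ gfst n (KRR.PY m Y) = g ∧
      KRR.IsPushCl j φX φQ a ∧ c.comp a = a₂ := by
  haveI := isNoetherian_PY (n := m) (Y := Y)
  haveI := isNoetherian_PY (n := n) (Y := KRR.PY m Y)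
  haveI := isNoetherian_PY (n := n) (Y := X)
  obtain ⟨KP, _, φP, hKP⟩ := exists_ringModel (KRR.PY n X)
  obtain ⟨s, hs, hsg⟩ := exists_section (n := n) g
  have hsR := isRegularClosedImmersion_section hs
  haveI := h₂.1
  have hJ : Mor2.IsRegularClosedImmersion (KRR.projSpaceMap n i₂) :=
    regClosed_baseChange (isPullback_projSpaceMap i₂ (projSpaceMap_pr i₂)).flip h₂
  haveI := hJ.1
  have hXPe := hasEnoughLocFree_of_closed hQ (KRR.projSpaceMap n i₂)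
  obtain ⟨as, has, -⟩ := existsUnique_isPushCl hXPe hsR hKX.bijective φP
  obtain ⟨aJ, haJ, -⟩ := existsUnique_isPushCl hQ hJ hKP.bijective φQ
  obtain ⟨gX, hgX, -⟩ := existsUnique_isPushPr hKP.bijective φX
  have hP₁ : ∀ F : X.Modules, FlatMod.IsFinLocFree F →
      KZ.LFRes.P₁ (KRR.PY n X) ((Scheme.Modules.pushforward s).obj F) := fun F hF =>
    ⟨(exists_pdlt_push hsR hF).choose_spec.1, hasLFRes_push hXPe hsR hF⟩
  refine ⟨s ≫ KRR.projSpaceMap n i₂, aJ.comp as,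
    fun F hF => p₁_iso hQ ((Scheme.Modules.pushforwardComp s (KRR.projSpaceMap n i₂)).app F)
      (p₁_push hXPe hQ hJ (hP₁ F hF)), ?_, ?_, isPushCl_comp hXPe hQ hP₁ hJ has haJ, ?_⟩
  · rw [Category.assoc, projSpaceMap_pr, ← Category.assoc, hs, Category.id_comp]
  · rw [Category.assoc, projSpaceMap_gfst, hsg]
  · have h1 := pushPr_pushCl_section hXPe hs hKP hKX has hgX
    have h2 := (pushCl_pushPr h₂ hP₂ hQ hKX hK₂ hKP hKQ ha₂ haJ hgX hc).2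
    rw [← AddMonoidHom.comp_assoc, ← h2, AddMonoidHom.comp_assoc, h1, AddMonoidHom.comp_id]

/-- The swap of the two projective factors. -/
theorem exists_swap (n m : ℕ) (Y : Scheme.{u}) :
    ∃ σ : KRR.PY n (KRR.PY m Y) ⟶ KRR.PY m (KRR.PY n Y), IsIso σ ∧
      σ ≫ KRR.pr m (KRR.PY n Y) = KRR.projSpaceMap n (KRR.pr m Y) ∧
      σ ≫ KRR.projSpaceMap m (KRR.pr n Y) = KRR.pr n (KRR.PY m Y) := by
  have h₁ := isPullback_projSpaceMap (n := n) (KRR.pr m Y) (projSpaceMap_pr _)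
  have h₂ := (isPullback_projSpaceMap (n := m) (KRR.pr n Y) (projSpaceMap_pr _)).flip
  exact ⟨(h₁.isoIsPullback _ _ h₂).hom, inferInstance, IsPullback.isoIsPullback_hom_fst _ _ _ _,
    IsPullback.isoIsPullback_hom_snd _ _ _ _⟩

/-- The push-forward does not depend on the factorization. -/
theorem push_indep [IsNoetherian Y] {X : Scheme.{u}} [IsNoetherian X]
    (hstar : ∀ a : ℕ, KRR.HasEnoughLocFree (KRR.PY a Y) ∧ ∀ b : ℕ, KRR.HasEnoughLocFree (KRR.PY a (KRR.PY b Y)))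
    {i₁ : X ⟶ KRR.PY n Y} {i₂ : X ⟶ KRR.PY m Y} (h₁ : Mor2.IsRegularClosedImmersion i₁)
    (h₂ : Mor2.IsRegularClosedImmersion i₂) (hf : i₁ ≫ KRR.pr n Y = i₂ ≫ KRR.pr m Y)
    {KX KY K₁ K₂ : Type*} [CommRing KX] [CommRing KY] [CommRing K₁] [CommRing K₂]
    {φX : SGA6.Kvb X →+ KX} (hKX : IsRingModel X KX φX) {φY : SGA6.Kvb Y →+ KY} (hKY : IsRingModel Y KY φY)
    {φ₁ : SGA6.Kvb (KRR.PY n Y) →+ K₁} (hK₁ : IsRingModel _ K₁ φ₁)
    {φ₂ : SGA6.Kvb (KRR.PY m Y) →+ K₂} (hK₂ : IsRingModel _ K₂ φ₂)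
    {a₁ : KX →+ K₁} (ha₁ : KRR.IsPushCl i₁ φX φ₁ a₁) {b₁ : K₁ →+ KY} (hb₁ : KRR.IsPushPr n Y φ₁ φY b₁)
    {a₂ : KX →+ K₂} (ha₂ : KRR.IsPushCl i₂ φX φ₂ a₂) {b₂ : K₂ →+ KY} (hb₂ : KRR.IsPushPr m Y φ₂ φY b₂) :
    b₁.comp a₁ = b₂.comp a₂ := by
  haveI := isNoetherian_PY (n := n) (Y := Y)
  haveI := isNoetherian_PY (n := m) (Y := Y)
  haveI := isNoetherian_PY (n := n) (Y := KRR.PY m Y)
  haveI := isNoetherian_PY (n := m) (Y := KRR.PY n Y)
  obtain ⟨KQ, _, φQ, hKQ⟩ := exists_ringModel (KRR.PY n (KRR.PY m Y))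
  obtain ⟨KQ', _, φQ', hKQ'⟩ := exists_ringModel (KRR.PY m (KRR.PY n Y))
  obtain ⟨c, hc, -⟩ := existsUnique_isPushPr hKQ.bijective φ₂
  obtain ⟨c', hc', -⟩ := existsUnique_isPushPr hKQ'.bijective φ₁
  have hQ := (hstar n).2 m
  have hQ' := (hstar m).2 n
  obtain ⟨j, a, hj, hj₁, hj₂, ha, hca⟩ :=
    push_eq_lift h₂ (hstar m).1 hQ (i₁ ≫ gfst n Y) hKX hK₂ hKQ ha₂ hc
  obtain ⟨j', a', hj', hj'₁, hj'₂, ha', hca'⟩ :=
    push_eq_lift h₁ (hstar n).1 hQ' (i₂ ≫ gfst m Y) hKX hK₁ hKQ' ha₁ hc'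
  obtain ⟨σ, hσ, hσ₁, hσ₂⟩ := exists_swap n m Y
  have hσR := isRegularClosedImmersion_of_isIso σ
  obtain ⟨sσ, hsσ, -⟩ := existsUnique_isPushCl hQ' hσR hKQ.bijective φQ'
  have hjj : j ≫ σ = j' := by
    refine (isPullback_projSpaceMap (n := m) (KRR.pr n Y) (projSpaceMap_pr _)).hom_ext ?_ ?_
    · rw [Category.assoc, hσ₂, hj₁]
      refine (IsPullback.of_hasPullback (CohB1.ProjSpace.toSpec m Zu.{u}) (specULiftZIsTerminal.from Y)).hom_ext ?_ ?_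
      · show i₂ ≫ gfst m Y = _
        rw [← hj'₂, ← projSpaceMap_gfst (n := m) (KRR.pr n Y), ← Category.assoc]
      · show i₂ ≫ KRR.pr m Y = (j' ≫ KRR.projSpaceMap m (KRR.pr n Y)) ≫ KRR.pr m Y
        rw [Category.assoc, projSpaceMap_pr, ← Category.assoc, hj'₁, hf]
    · rw [Category.assoc, hσ₁, hj'₁]
      refine (IsPullback.of_hasPullback (CohB1.ProjSpace.toSpec n Zu.{u}) (specULiftZIsTerminal.from Y)).hom_ext ?_ ?_
      · show (j ≫ KRR.projSpaceMap n (KRR.pr m Y)) ≫ gfst n Y = i₁ ≫ gfst n Y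
        rw [Category.assoc, projSpaceMap_gfst, hj₂]
      · show (j ≫ KRR.projSpaceMap n (KRR.pr m Y)) ≫ KRR.pr n Y = i₁ ≫ KRR.pr n Y
        rw [Category.assoc, projSpaceMap_pr, ← Category.assoc, hj₁, hf]
  have hcomb := isPushCl_comp hQ hQ' hj hσR ha hsσ
  have heq := isPushCl_ext hjj.symm hj' hKX.bijective ha' hcomb
  rw [← hca, ← hca', heq]
  refine AddMonoidHom.ext fun x => ?_
  exact fubini hQ' hσ₁ hσ₂ hKY hK₁ hK₂ hKQ hKQ' hb₁ hb₂ hc hc' hsσ (a x)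

end Groth.Agent.KRRReg
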