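import Groth.Agent.KRRReg.BaseVan
import Groth.Agent.KRRReg.Exact

/-!
# The kernel of the counit of a regular module
-/

set_option linter.style.haveILetI false
set_option backward.isDefEq.respectTransparency false
set_option backward.isDefEq.respectTransparency.types false
set_option autoImplicit false

universe u

open CategoryTheory CategoryTheory.Limits AlgebraicGeometry

noncomputable section

namespace Groth.Agent.KRRReg

open Groth.Agent

variable {n : ℕ} {T : Scheme.{u}}

theorem isQCoh_push {F : (KRR.PY n T).Modules} (hF : Coh.IsQCoh F) :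
    Coh.IsQCoh ((Scheme.Modules.pushforward (KRR.pr n T)).obj F) := by
  haveI := isProper_pr (n := n) (T := T)
  exact QCoh.isQCoh_pushforward _ hF

/-- The kernel of the counit. -/
abbrev syz (F : (KRR.PY n T).Modules) : (KRR.PY n T).Modules :=
  kernel ((Scheme.Modules.pullbackPushforwardAdjunction (KRR.pr n T)).counit.app F)

theorem isQCoh_syz {F : (KRR.PY n T).Modules} (hF : Coh.IsQCoh F) : Coh.IsQCoh (syz F) :=
  QCoh.isQCoh_kernel (QCoh.isQCoh_pullback _ (isQCoh_push hF)) hF _

theorem shortExact_syz {F : (KRR.PY n T).Modules} (hF : Coh.IsQCoh F) (hreg : KRR.IsRegSheaf n T F) :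
    (ShortComplex.mk (kernel.ι ((Scheme.Modules.pullbackPushforwardAdjunction (KRR.pr n T)).counit.app F))
      ((Scheme.Modules.pullbackPushforwardAdjunction (KRR.pr n T)).counit.app F) (kernel.condition _)).ShortExact :=
  { exact := ShortComplex.exact_kernel _
    mono_f := inferInstance
    epi_g := epi_counit hF hreg }

theorem isRegSheaf_syz {F : (KRR.PY n T).Modules} (hF : Coh.IsQCoh F) (hreg : KRR.IsRegSheaf n T F) :
    KRR.IsRegSheaf n T (KRR.twF n T 1 (syz F)) := by
  let adj := Scheme.Modules.pullbackPushforwardAdjunction (KRR.pr n T)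
  let p := KRR.pr n T
  let S : ShortComplex (KRR.PY n T).Modules :=
    ShortComplex.mk (kernel.ι (adj.counit.app F)) (adj.counit.app F) (kernel.condition _)
  have h2 : Coh.IsQCoh S.X₂ := QCoh.isQCoh_pullback _ (isQCoh_push hF)
  have r2 : KRR.IsRegSheaf n T (KRR.twF n T 1 S.X₂) := isRegSheaf_one_pullback (isQCoh_push hF)
  haveI : IsSplitEpi ((Scheme.Modules.pushforward p).map S.g) :=
    ⟨⟨⟨adj.unit.app _, adj.right_triangle_components F⟩⟩⟩
  have hS : S.ShortExact := shortExact_syz hF hreg
  have h1 : Coh.IsQCoh S.X₁ := isQCoh_syz hF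
  exact isRegSheaf_one_X₁_of_epi (S' := S) hS h1 h2 hF r2 hreg inferInstance

end Groth.Agent.KRRReg
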