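import Groth.Agent.KRRReg.Ample
import Groth.Agent.ExtPowSh.Model
import Groth.Agent.KFlatLib.Perfect.Top
import Groth.Agent.Lambda.GammaPoly
import Groth.Agent.Lambda.LamAlt
import Mathlib.RingTheory.Polynomial.Nilpotent
import Mathlib.RingTheory.Noetherian.Nilpotent
import Mathlib.LinearAlgebra.TensorProduct.Basic

/-!
# The augmentation ideal of `K(X)` is nil
-/

set_option linter.style.haveILetI false
set_option linter.unusedSectionVars false
set_option backward.isDefEq.respectTransparency false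
set_option backward.isDefEq.respectTransparency.types false
set_option autoImplicit false

universe u v

open CategoryTheory CategoryTheory.Limits AlgebraicGeometry TopologicalSpace
open scoped TensorProduct

noncomputable section

namespace Groth.Agent.KRRReg

open Groth.Agent LambdaRing

variable {K : Type v} [CommRing K] [LambdaOps K] {P : PosStructure K}

/-- A positive element with a positive complement to an integer is unipotent. -/
theorem isNilpotent_sub_aug_of_add_eq {e f : K} (he : e ∈ P.pos) (hf : f ∈ P.pos) {N : ℕ}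
    (h : e + f = N) : IsNilpotent (e - ((P.aug e).toNat : K)) := by
  classical
  have hN : (P.aug e).toNat + (P.aug f).toNat = N := by
    have h1 := congrArg P.aug h
    rw [map_add, map_natCast, ← Lambda.aug_toNat he, ← Lambda.aug_toNat hf] at h1
    exact_mod_cast h1
  have hxy : (e - ((P.aug e).toNat : K)) + (f - ((P.aug f).toNat : K)) = 0 := by
    rw [sub_add_sub_comm, h, ← Nat.cast_add, hN, sub_self]
  have h1 := Lambda.lam_one_eq_zero P
  let poly : K → ℕ → Polynomial K := fun x a =>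
    ∑ i ∈ Finset.range (a + 1), Polynomial.C (LambdaRing.gamma i x) * Polynomial.X ^ i
  have hpoly : ∀ g ∈ P.pos, ((poly (g - ((P.aug g).toNat : K)) (P.aug g).toNat : Polynomial K) : PowerSeries K) =
      Lambda.gammaSeries (g - ((P.aug g).toNat : K)) := fun g hg => by
    ext i
    rw [Polynomial.coeff_coe, Lambda.coeff_gammaSeries, Polynomial.finsetSum_coeff]
    simp only [Polynomial.coeff_C_mul, Polynomial.coeff_X_pow, mul_ite, mul_one, mul_zero,
      Finset.sum_ite_eq, Finset.mem_range]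
    split_ifs with hi
    · rfl
    · exact (Lambda.gamma_sub_natCast_eq_zero h1 (fun l hl => Lambda.lam_eq_zero_of_toNat_lt hg hl)
        (by omega)).symm
  have hmul : poly (e - ((P.aug e).toNat : K)) (P.aug e).toNat *
      poly (f - ((P.aug f).toNat : K)) (P.aug f).toNat = 1 := by
    apply Polynomial.coe_injective (R := K)
    rw [Polynomial.coe_mul, hpoly e he, hpoly f hf, ← Lambda.gammaSeries_add, hxy, Lambda.gammaSeries_zero,
      Polynomial.coe_one]
  have hu := (Polynomial.isUnit_iff_coeff_isUnit_isNilpotent.1 (IsUnit.of_mul_eq_one _ hmul)).2 1 one_ne_zero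
  rw [Polynomial.finsetSum_coeff] at hu
  simp only [Polynomial.coeff_C_mul, Polynomial.coeff_X_pow, mul_ite, mul_one, mul_zero,
    Finset.sum_ite_eq, Finset.mem_range] at hu
  split_ifs at hu with hi
  · rwa [Lambda.gamma_one] at hu
  · have hpos := P.aug_pos _ he
    have := Lambda.aug_toNat he
    omega

variable {X : Scheme.{u}} {φ : SGA6.Kvb X →+ K}

theorem isNilpotent_cl_of_generated [ConnectedSpace ↥X] [CompactSpace ↥X] (hK : KRR.IsModel X K P φ)
    {G : X.Modules} {r : ℕ} (hr : 1 ≤ r) (hG : FlatMod.IsFinLocFreeOfRank r G) {ι : Type u}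
    (s : ι → Γ(G, ⊤)) (hs : ProjUP.GeneratedBy G s) : IsNilpotent (φ (KRR.cl X G) - (r : K)) := by
  have hGf := ExtPowSh.flf_of_rank hG
  obtain ⟨N, j, hj⟩ := AmpleVan.exists_fin_generatedBy (isCoh_of_finLocFree hGf) s hs
  obtain ⟨p, hp⟩ := InvX.exists_epi_freeMod hj
  let S := ShortComplex.mk (kernel.ι p) p (kernel.condition p)
  have hS : S.ShortExact :=
    ShortComplex.ShortExact.mk' (ShortComplex.exact_of_f_is_kernel _ (kernelIsKernel p)) inferInstance hp
  have hN : FlatMod.IsFinLocFree (FlatMod.freeMod X N) := KFlatLib.isFinLocFree_freeMod N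
  haveI := hp
  have hH : FlatMod.IsFinLocFree (kernel p) := KFlatLib.isFinLocFree_kernel p hN hGf
  have hO := isFinLocFree_structure X
  obtain ⟨x₀⟩ := (inferInstance : Nonempty ↥X)
  have hB := ExtPowSh.isFinLocFree_biprod hH hO
  have hclB : φ (KRR.cl X (kernel p ⊞ Coh.structureModule X)) = φ (KRR.cl X (kernel p)) + 1 := by
    rw [ExtPowSh.cl_biprod hH hO, map_add, hK.map_one]
  have hB1 : 1 ≤ ExtPowSh.rk (kernel p ⊞ Coh.structureModule X) x₀ := by
    have h := ExtPowSh.rk_add (ShortComplex.Splitting.ofHasBinaryBiproduct (kernel p) (Coh.structureModule X)).shortExact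
      hH hO x₀
    have h1 : ExtPowSh.rk (Coh.structureModule X) x₀ = 1 :=
      ExtPowSh.rk_eq (InvEnd.isFinLocFreeOfRank_one (PicLoc.isInvertible_structureModule X)) x₀
    exact le_trans (le_of_eq h1.symm) (le_trans (Nat.le_add_left _ _) h.ge)
  have h2 : φ (KRR.cl X (FlatMod.freeMod X N)) = φ (KRR.cl X (kernel p)) + φ (KRR.cl X G) := by
    rw [← map_add]
    exact congrArg φ (KZ.clSub_ses (KRR.vbP X) hS hH hN hGf)
  rw [cl_freeMod, map_nsmul, hK.map_one, nsmul_one] at h2
  have he : φ (KRR.cl X G) ∈ P.pos := (hK.mem_pos_iff _).2 ⟨r, G, hr, hG, rfl⟩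
  have h := isNilpotent_sub_aug_of_add_eq he
    ((hK.mem_pos_iff _).2 ⟨_, _, hB1, ExtPowSh.isFinLocFreeOfRank_rk hB x₀, rfl⟩) (N := N + 1) (by
      rw [hclB, Nat.cast_succ, h2]; ring)
  rwa [hK.aug_cl r G hG, Int.toNat_natCast] at h

/-- Elements of augmentation zero of `K(X)` are nilpotent. -/
theorem isNilpotent_of_aug_eq_zero [ConnectedSpace ↥X] {L : X.Modules} (hL : CohB1.IsAmple L)
    (hK : KRR.IsModel X K P φ) {x : K} (hx : P.aug x = 0) : IsNilpotent x := by
  haveI : X.IsSeparated := AmpleX.isSeparated_of_isAmple hL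
  haveI : CompactSpace ↥X := hL.2.1
  obtain ⟨x₀⟩ := (inferInstance : Nonempty ↥X)
  have hL1 : FlatMod.IsFinLocFreeOfRank 1 L := InvEnd.isFinLocFreeOfRank_one hL.1
  have key : ∀ (r : ℕ) (E : X.Modules), 1 ≤ r → FlatMod.IsFinLocFreeOfRank r E →
      ∃ n₀, ∀ n ≥ n₀, IsNilpotent (φ (KRR.cl X E) * φ (KRR.cl X L) ^ n - (r : K)) := fun r E hr hE => by
    have hEf := ExtPowSh.flf_of_rank hE
    obtain ⟨n₀, hn₀⟩ := AmpleX.eventually_generated hL (isCoh_of_finLocFree hEf).1 (isCoh_of_finLocFree hEf).2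
    refine ⟨n₀, fun n hn => ?_⟩
    obtain ⟨G, iso, ι, s, hs⟩ := hn₀ n hn
    have hT := KFlatLib.isFinLocFree_tensor hEf (isFinLocFree_tensorPow hL.1 n)
    have hGf : FlatMod.IsFinLocFree G := isFinLocFree_iso iso.symm hT
    have hG : FlatMod.IsFinLocFreeOfRank r G := by
      have h := ExtPowSh.isFinLocFreeOfRank_rk hT x₀
      have h1 := ExtPowSh.rk_tensor hEf (isFinLocFree_tensorPow hL.1 n) x₀
      rw [ExtPowSh.rk_eq hE x₀, ExtPowSh.rk_eq (InvEnd.isFinLocFreeOfRank_one (InvX.isInvertible_tensorPow hL.1 n)) x₀,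
        mul_one] at h1
      exact (ConsPropLib.isFinLocFreeOfRank_iso iso).2 (h1 ▸ h)
    have h := isNilpotent_cl_of_generated hK hr hG s hs
    rwa [cl_iso iso hGf, show KRR.cl X (CohB1.tensorMod E (CohB1.tensorPow L n)) =
        KRR.cl X ((DCoh.tensorBi.obj E).obj (CohB1.tensorPow L n)) from rfl,
      ← hK.map_mul _ _ hEf (isFinLocFree_tensorPow hL.1 n), model_pow hK hL.1] at h
  have hpos : ∀ e ∈ P.pos, IsNilpotent (e - ((P.aug e : ℤ) : K)) := fun e he => by
    obtain ⟨r, E, hr, hE, rfl⟩ := (hK.mem_pos_iff e).1 he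
    obtain ⟨n₁, h₁⟩ := key r E hr hE
    obtain ⟨n₂, h₂⟩ := key 1 _ le_rfl (InvEnd.isFinLocFreeOfRank_one (PicLoc.isInvertible_structureModule X))
    have hn₁ := h₁ (max n₁ n₂) (le_max_left _ _)
    have hn₂ := h₂ (max n₁ n₂) (le_max_right _ _)
    rw [hK.map_one, one_mul, Nat.cast_one] at hn₂
    have hu : IsUnit (φ (KRR.cl X L) ^ max n₁ n₂) := by
      simpa using IsNilpotent.isUnit_add_left_of_commute hn₂ isUnit_one (Commute.one_right _)
    rw [hK.aug_cl r E hE, Int.cast_natCast]
    have h3 : IsNilpotent ((φ (KRR.cl X E) - (r : K)) * φ (KRR.cl X L) ^ max n₁ n₂) := by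
      have h4 := (Commute.all _ _).isNilpotent_sub hn₁ ((Commute.all (r : K) _).isNilpotent_mul_left hn₂)
      convert h4 using 1
      ring
    obtain ⟨m, hm⟩ := h3
    exact ⟨m, (hu.pow m).mul_left_eq_zero.1 (by rwa [← mul_pow])⟩
  obtain ⟨a, b, ha, hb, rfl⟩ := P.exists_sub x
  rw [map_sub, sub_eq_zero] at hx
  have h := (Commute.all _ _).isNilpotent_sub (hpos a ha) (hpos b hb)
  rwa [hx, sub_sub_sub_cancel_right] at h

/-- A subring generated by finitely many elements, each an integer plus a nilpotent. -/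
theorem closure_props {s : Set K} (hs : s.Finite) (hnil : ∀ y : K, P.aug y = 0 → IsNilpotent y) :
    (∃ n : ℕ, ∀ f : Fin n → K, (∀ t, f t ∈ Subring.closure s ∧ P.aug (f t) = 0) → ∏ t, f t = 0) ∧
      (Subring.closure s).toAddSubgroup.FG := by
  classical
  let d : K → K := fun y => y - ((P.aug y : ℤ) : K)
  have hd : ∀ y, IsNilpotent (d y) := fun y => hnil _ (by simp [d])
  let I : Ideal K := Ideal.span (d '' s)
  obtain ⟨n, hn⟩ : IsNilpotent I := by
    refine (Ideal.FG.isNilpotent_iff_le_nilradical (Submodule.fg_span (hs.image d))).2 (Ideal.span_le.2 ?_)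
    rintro _ ⟨y, -, rfl⟩
    exact mem_nilradical.2 (hd y)
  have hsub : ∀ y ∈ Subring.closure s, d y ∈ I := fun y hy => by
    induction hy using Subring.closure_induction with
    | mem y hy => exact Ideal.subset_span ⟨y, hy, rfl⟩
    | zero => simp [d]
    | one => simp [d]
    | add a b _ _ ha hb => simpa [d, add_sub_add_comm] using I.add_mem ha hb
    | neg a _ ha => simpa [d, sub_eq_neg_add, add_comm] using I.neg_mem ha
    | mul a b _ _ ha hb =>
      have e : d (a * b) = a * d b + ((P.aug b : ℤ) : K) * d a := by simp only [d, map_mul, Int.cast_mul]; ring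
      rw [e]
      exact I.add_mem (I.mul_mem_left _ hb) (I.mul_mem_left _ ha)
  refine ⟨⟨n, fun f hf => ?_⟩, ?_⟩
  · have hmem : ∀ t, f t ∈ I := fun t => by
      have h := hsub _ (hf t).1
      simpa [d, (hf t).2] using h
    have h := Ideal.prod_mem_prod (s := (Finset.univ : Finset (Fin n))) (I := fun _ => I) fun t _ => hmem t
    rw [Finset.prod_const, Finset.card_univ, Fintype.card_fin, hn] at h
    simpa using h
  · have hint : ∀ y ∈ s, IsIntegral ℤ y := fun y _ => by
      obtain ⟨m, hm⟩ := hd y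
      exact ⟨(Polynomial.X - Polynomial.C (P.aug y)) ^ m, (Polynomial.monic_X_sub_C _).pow m, by
        rw [Polynomial.eval₂_pow, Polynomial.eval₂_sub, Polynomial.eval₂_X, Polynomial.eval₂_C]
        simpa [d] using hm⟩
    have hfg := fg_adjoin_of_finite (R := ℤ) hs hint
    have e : (Algebra.adjoin ℤ s).toSubmodule.toAddSubgroup = (Subring.closure s).toAddSubgroup := by
      refine AddSubgroup.ext fun y => ?_
      show y ∈ Algebra.adjoin ℤ s ↔ y ∈ Subring.closure s
      exact mem_subalgebraOfSubring (R := K) (S := Subring.closure s) |>.symm.trans (by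
        rw [Algebra.adjoin_int]) |>.symm
    rw [← e, ← Submodule.fg_iff_addSubgroup_fg]
    exact hfg

/-- Units of `A ⊗ K(X)`. -/
theorem isUnit_iff_map_aug (hnil : ∀ y : K, P.aug y = 0 → IsNilpotent y) (A : Type v) [CommRing A]
    (y : A ⊗[ℤ] K) :
    IsUnit y ↔ IsUnit (Algebra.TensorProduct.map (AlgHom.id ℤ A) P.aug.toIntAlgHom y) := by
  refine ⟨fun h => h.map _, fun h => ?_⟩
  let ε := Algebra.TensorProduct.map (AlgHom.id ℤ A) P.aug.toIntAlgHom
  let ι : A ⊗[ℤ] ℤ →ₐ[ℤ] A ⊗[ℤ] K := Algebra.TensorProduct.map (AlgHom.id ℤ A) (Algebra.ofId ℤ K)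
  have hker : ∀ z, IsNilpotent (z - ι (ε z)) := fun z => by
    induction z using TensorProduct.induction_on with
    | zero => simp
    | add a b ha hb =>
      rw [map_add, map_add, add_sub_add_comm]
      exact (Commute.all _ _).isNilpotent_add ha hb
    | tmul a k =>
      have hk := hnil (k - ((P.aug k : ℤ) : K)) (by simp)
      obtain ⟨m, hm⟩ := hk
      refine ⟨m + 1, ?_⟩
      show (a ⊗ₜ[ℤ] k - a ⊗ₜ[ℤ] ((P.aug k : ℤ) : K)) ^ (m + 1) = 0
      rw [← TensorProduct.tmul_sub, Algebra.TensorProduct.tmul_pow, pow_succ (k - _), hm, zero_mul,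
        TensorProduct.tmul_zero]
  have h1 : IsUnit (ι (ε y)) := h.map ι
  simpa using (hker y).isUnit_add_left_of_commute h1 (Commute.all _ _)

end Groth.Agent.KRRReg
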