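import Groth.Agent.KRRReg.TorAC
import Groth.Agent.KRRReg.ConormalRank
import Groth.Agent.KRRReg.PushDisjoint
import Groth.Agent.H23.GysinSq
import Groth.Agent.H23.SpClosed
import Groth.Agent.S12131
import Groth.Agent.S18944

/-!
# Tor independence of a regular immersion and its base change of the same codimension
-/

set_option autoImplicit false
set_option linter.style.haveILetI false
set_option linter.unusedSectionVars false
set_option backward.isDefEq.respectTransparency false
set_option backward.isDefEq.respectTransparency.types false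
set_option maxHeartbeats 1000000

universe u v

open CategoryTheory CategoryTheory.Limits AlgebraicGeometry TopologicalSpace Opposite IsLocalRing
open scoped TensorProduct
open RingTheory.Sequence

noncomputable section

namespace Groth.Agent.KRRReg

open Groth.Agent

variable {M Y : Scheme.{u}}

/-- `Tor_{>0}(A_m, O_{Y,y}) = 0` for a map of local rings `χ`. -/
def ACat (A : M.Modules) (m : M) (y : Y) (χ : M.presheaf.stalk m ⟶ Y.presheaf.stalk y) : Prop :=
  letI := χ.hom.toAlgebra
  AC (R := M.presheaf.stalk m) (KZ.LFRes.stk A m) (Y.presheaf.stalk y)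

/-- `Tor_{>0}(A, O_Y) = 0` along `φ`. -/
def TorFree (φ : Y ⟶ M) (A : M.Modules) : Prop :=
  ∀ y : Y, ACat A (φ y) y (φ.stalkMap y)

theorem acat_transport (φ : Y ⟶ M) (A : M.Modules) {y : Y} {m : M} (h : φ y = m)
    (hA : ACat A m y (M.presheaf.stalkSpecializes (specializes_of_eq h) ≫ φ.stalkMap y)) :
    ACat A (φ y) y (φ.stalkMap y) := by
  subst h
  rwa [TopCat.Presheaf.stalkSpecializes_refl, Category.id_comp] at hA

theorem isRegularImmersion_of_regClosed {P : Scheme.{u}} {F : P ⟶ M} (hF : Mor2.IsRegularClosedImmersion F) :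
    RegImm.IsRegularImmersion RegImm.Kind.regular F := by
  haveI := hF.1
  refine ⟨inferInstance, fun z => ?_⟩
  obtain ⟨U, hU, hz, rs, hrs, hI⟩ := hF.2 z
  refine ⟨⟨U, hU⟩, hz, inferInstance, rs, hrs, ?_⟩
  rw [← hI, Scheme.Hom.ker_apply]

/-- Two lists of the same length with the same span, one regular and minimal. -/
theorem isWeaklyRegular_of_lists {B : Type u} [CommRing B] [IsLocalRing B] [IsNoetherianRing B] (l₁ l₂ : List B)
    (hlen : l₁.length = l₂.length) (hspan : Ideal.ofList l₁ = Ideal.ofList l₂) (hreg : IsRegular B l₂)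
    (hm : Ideal.ofList l₂ ≤ maximalIdeal B)
    (hmin : ∀ (n : ℕ) (a : Fin n → B), Ideal.span (Set.range a) = Ideal.ofList l₂ → l₂.length ≤ n) :
    IsWeaklyRegular B l₁ := by
  let f : Fin l₂.length → B := l₂.get
  let g : Fin l₂.length → B := fun k => l₁.get (Fin.cast hlen.symm k)
  have hf : List.ofFn f = l₂ := List.ofFn_get l₂
  have hg : List.ofFn g = l₁ := List.ext_getElem (by simp [hlen]) fun i h₁ h₂ => by simp [g]
  have hs : ∀ {n : ℕ} (a : Fin n → B), Ideal.span (Set.range a) = Ideal.ofList (List.ofFn a) := fun a => by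
    rw [Ideal.ofList]
    congr 1
    ext r
    simp [List.mem_ofFn]
  rw [← hg]
  refine isWeaklyRegular_of_span_eq f g (hf.symm ▸ hreg.toIsWeaklyRegular) ?_ ?_ fun n a ha => hmin n a ?_
  · rw [hs, hf]; exact hm
  · rw [hs, hs, hf, hg]; exact hspan
  · rw [ha, hs, hf]

/-- A bundle pushed along a regular immersion is Tor independent of a base change of the same codimension. -/
theorem torFree_push {X P : Scheme.{u}} [IsLocallyNoetherian M] [IsLocallyNoetherian Y] [IsLocallyNoetherian X]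
    [IsLocallyNoetherian P] (F : P ⟶ M) (φ : Y ⟶ M) (f : X ⟶ Y) (ψ : X ⟶ P) (hsq : IsPullback f ψ φ F)
    (hF : Mor2.IsRegularClosedImmersion F) (hf : Mor2.IsRegularClosedImmersion f) (d : ℕ)
    (hcF : FlatMod.IsFinLocFreeOfRank d (Omega.conormal F)) (hcf : FlatMod.IsFinLocFreeOfRank d (Omega.conormal f))
    {G : P.Modules} (hG : FlatMod.IsFinLocFree G) : TorFree φ ((Scheme.Modules.pushforward F).obj G) := by
  haveI := hF.1
  haveI := hf.1
  intro y
  by_cases hy : φ y ∈ Set.range F
  swap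
  · haveI : Subsingleton (((Scheme.Modules.pushforward F).obj G).presheaf.stalk (φ y)) :=
      not_not.1 fun h => hy (QCoh.support_push_subset F (QCoh.isQCoh_of_isFinLocFree hG) h)
    letI := (φ.stalkMap y).hom.toAlgebra
    haveI : Subsingleton (KZ.LFRes.stk ((Scheme.Modules.pushforward F).obj G) (φ y)) := ‹_›
    exact AC.of_subsingleton _
  have h1 : y ∈ Set.range (pullback.fst φ F).base := by
    rw [Scheme.Pullback.range_fst]
    exact hy
  obtain ⟨z, rfl⟩ := h1
  refine acat_transport φ _ (H23.GysinPb.apply_fst_eq φ F z) ?_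
  let p := pullback.snd φ F z
  let R := M.presheaf.stalk (F p)
  let B := Y.presheaf.stalk (pullback.fst φ F z)
  let χ : R ⟶ B := H23.GysinPb.baseMap φ F z
  show ACat _ (F p) (pullback.fst φ F z) χ
  letI : Algebra R B := χ.hom.toAlgebra
  -- the regular sequence on `M`
  obtain ⟨rs, hrs, hI⟩ := Groth.Agent.S18944.result F (isRegularImmersion_of_regClosed hF) p
  have hlen := length_eq_rank F hcF p hrs hI
  -- the regular sequence on `Y`
  obtain ⟨a, ha, rfl⟩ : ∃ a : X ⟶ pullback φ F, IsIso a ∧ a ≫ pullback.fst φ F = f :=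
    ⟨hsq.isoPullback.hom, inferInstance, hsq.isoPullback_hom_fst⟩
  haveI := ha
  obtain ⟨x, hx⟩ : ∃ x, a x = z := a.surjective z
  subst hx
  obtain ⟨rs', hrs', hI'⟩ := Groth.Agent.S18944.result _ (isRegularImmersion_of_regClosed hf) x
  have hlen' := length_eq_rank (a ≫ pullback.fst φ F) hcf x hrs' hI'
  let J : Ideal B := RingHom.ker ((a ≫ pullback.fst φ F).stalkMap x).hom
  have hJ : J = (Ideal.ofList rs).map (algebraMap R B) := by
    refine (H23.GysinSq.ker_stalkMap_iso_comp a (pullback.fst φ F) x).trans ?_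
    refine (H23.GysinPb.ker_stalkMap_fst φ F (a x)).trans ?_
    rw [hI]
    rfl
  have hJ1 : J = Ideal.ofList (rs.map (algebraMap R B)) := hJ.trans (Ideal.map_ofList _ _)
  have hJ2 : Ideal.ofList (rs.map (algebraMap R B)) = Ideal.ofList rs' := hJ1.symm.trans hI'
  have hw : IsWeaklyRegular B (rs.map (algebraMap R B)) :=
    isWeaklyRegular_of_lists (B := B) _ rs' ((List.length_map _).trans (hlen.trans hlen'.symm)) hJ2 hrs'
      (hI' ▸ le_maximalIdeal (RingHom.ker_ne_top _))
      fun n b hb => hlen'.le.trans (rank_le_card_gens (a ≫ pullback.fst φ F) hcf x b (hb.trans hI'.symm))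
  have hR : AC (R := R) (R ⧸ Ideal.ofList rs) B := AC.of_ring rs hrs.toIsWeaklyRegular hw
  -- the stalk of the direct image
  show AC (R := R) (KZ.LFRes.stk ((Scheme.Modules.pushforward F).obj G) (F p)) B
  let O := P.presheaf.stalk p
  letI : Algebra R O := (F.stalkMap p).hom.toAlgebra
  letI : Module R (G.presheaf.stalk p) := Module.compHom _ (F.stalkMap p).hom
  haveI : IsScalarTower R O (G.presheaf.stalk p) := IsScalarTower.of_algebraMap_smul fun _ _ => rfl
  obtain ⟨e⟩ := H23.SpClosed.nonempty_stalkEquiv F G p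
  haveI := QCoh.free_stalk_of_isFinLocFree hG p
  haveI : Module.Finite O (G.presheaf.stalk p) :=
    QCoh.finite_stalk_of_isFT (isCoh_of_finLocFree hG).1 (isCoh_of_finLocFree hG).2 p
  let b := Module.finBasis O (G.presheaf.stalk p)
  have hs : Function.Surjective (Algebra.linearMap R O) := F.stalkMap_surjective p
  let q : (R ⧸ Ideal.ofList rs) ≃ₗ[R] O :=
    (Submodule.quotEquivOfEq _ _ (hI.symm : Ideal.ofList rs = RingHom.ker (F.stalkMap p).hom)).trans
      ((Algebra.linearMap R O).quotKerEquivOfSurjective hs)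
  let eG : G.presheaf.stalk p ≃ₗ[R] (Fin (Module.finrank O (G.presheaf.stalk p)) → (R ⧸ Ideal.ofList rs)) :=
    (b.equivFun.restrictScalars R).trans (LinearEquiv.piCongrRight fun _ => q.symm)
  let e' : KZ.LFRes.stk ((Scheme.Modules.pushforward F).obj G) (F p) ≃ₗ[R] G.presheaf.stalk p := e
  exact (AC.pi hR (Module.finrank O (G.presheaf.stalk p))).congr (e'.trans eG).symm

/-- Tor independence passes to kernels of maps from flat modules. -/
theorem torFree_kernel {φ : Y ⟶ M} {S : ShortComplex M.Modules} (hS : S.ShortExact)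
    (h₂ : FlatMod.IsFinLocFree S.X₂) (h₃ : TorFree φ S.X₃) : TorFree φ S.X₁ := by
  intro y
  haveI : (DerSch.stalkFunctor M (φ y)).Additive := Functor.additive_of_preserves_binary_products _
  have hx := KZ.LFRes.stk_shortExact hS (φ y)
  letI := (φ.stalkMap y).hom.toAlgebra
  haveI : Module.Free (M.presheaf.stalk (φ y)) (KZ.LFRes.stk S.X₂ (φ y)) :=
    QCoh.free_stalk_of_isFinLocFree h₂ (φ y)
  exact AC.kernel (f := ((DerSch.stalkFunctor M (φ y)).map S.f).hom) (g := ((DerSch.stalkFunctor M (φ y)).map S.g).hom)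
    ((ModuleCat.mono_iff_injective _).1 hx.mono_f)
    ((ShortComplex.ShortExact.moduleCat_exact_iff_function_exact _).1 hx.exact)
    ((ModuleCat.epi_iff_surjective _).1 hx.epi_g) (h₃ y)

theorem torFree_iso {φ : Y ⟶ M} {A A' : M.Modules} (e : A ≅ A') (h : TorFree φ A) : TorFree φ A' := fun y => by
  letI := (φ.stalkMap y).hom.toAlgebra
  exact (h y : AC (R := M.presheaf.stalk (φ y)) (KZ.LFRes.stk A (φ y)) (Y.presheaf.stalk y)).congr
    ((DerSch.stalkFunctor M (φ y)).mapIso e).toLinearEquiv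

theorem torFree_finLocFree {φ : Y ⟶ M} {A : M.Modules} (h : FlatMod.IsFinLocFree A) : TorFree φ A := fun y => by
  letI := (φ.stalkMap y).hom.toAlgebra
  haveI : Module.Free (M.presheaf.stalk (φ y)) (KZ.LFRes.stk A (φ y)) := QCoh.free_stalk_of_isFinLocFree h (φ y)
  exact AC.of_flat (R := M.presheaf.stalk (φ y)) (N := KZ.LFRes.stk A (φ y)) _

/-- Pull-back is exact on short exact sequences with flat middle term and Tor independent quotient. -/
theorem shortExact_pullback_torFree (φ : Y ⟶ M) {S : ShortComplex M.Modules} (hS : S.ShortExact)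
    (h₂ : FlatMod.IsFinLocFree S.X₂) (h₃ : TorFree φ S.X₃) : (S.map (Scheme.Modules.pullback φ)).ShortExact := by
  have hr := ((Functor.preservesFiniteColimits_tfae (Scheme.Modules.pullback φ)).out 3 0 rfl rfl).1
    (inferInstance : PreservesFiniteColimits (Scheme.Modules.pullback φ)) S hS
  haveI : Mono ((Scheme.Modules.pullback φ).map S.f) := by
    refine mono_of_stalks _ fun y => ?_
    have hx := KZ.LFRes.stk_shortExact hS (φ y)
    let R := M.presheaf.stalk (φ y)
    letI := (φ.stalkMap y).hom.toAlgebra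
    haveI : Module.Free R (KZ.LFRes.stk S.X₂ (φ y)) := QCoh.free_stalk_of_isFinLocFree h₂ (φ y)
    let sf := ((DerSch.stalkFunctor M (φ y)).map S.f).hom
    have hinj : Function.Injective (sf.lTensor (Y.presheaf.stalk y)) :=
      (LinearMap.lTensor_inj_iff_rTensor_inj _ _).2 (rTensor_injective_of_torV (g := ((DerSch.stalkFunctor M (φ y)).map S.g).hom)
        ((ModuleCat.mono_iff_injective _).1 hx.mono_f)
        ((ShortComplex.ShortExact.moduleCat_exact_iff_function_exact _).1 hx.exact)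
        ((ModuleCat.epi_iff_surjective _).1 hx.epi_g) _ (h₃ y 0))
    let ω := KFlatLib.stalkPullbackIso φ y
    show Mono ((Scheme.Modules.pullback φ ⋙ DerSch.stalkFunctor Y y).map S.f)
    have hm : Mono ((DerSch.stalkFunctor M (φ y) ⋙ ModuleCat.extendScalars (φ.stalkMap y).hom).map S.f) :=
      (ModuleCat.mono_iff_injective _).2 hinj
    rw [← NatIso.naturality_2 ω S.f]
    exact @mono_comp _ _ _ _ _ _ (IsIso.mono_of_iso _) _ (@mono_comp _ _ _ _ _ _ hm _ (IsIso.mono_of_iso _))
  exact ShortComplex.ShortExact.mk' hr.1 ‹_› hr.2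

/-- An additive function on resolvable Tor independent modules. -/
theorem altsum_of_res_vb {F : M.Modules} {n : ℕ} {L : ChainComplex M.Modules ℕ}
    {π : L ⟶ (ChainComplex.single₀ M.Modules).obj F} (hres : KRR.IsLFRes F n L π)
    (Q : M.Modules → Prop) (hiso : ∀ {A B : M.Modules}, (A ≅ B) → Q A → Q B)
    (hker : ∀ S : ShortComplex M.Modules, S.ShortExact → FlatMod.IsFinLocFree S.X₂ → Q S.X₃ → Q S.X₁)
    {G : Type*} [AddCommGroup G] (c : M.Modules → G)
    (hciso : ∀ {A B : M.Modules}, (A ≅ B) → Q A → c A = c B) (hc0 : ∀ A, IsZero A → c A = 0)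
    (hadd : ∀ S : ShortComplex M.Modules, S.ShortExact → Q S.X₁ → FlatMod.IsFinLocFree S.X₂ → Q S.X₃ →
      c S.X₂ = c S.X₁ + c S.X₃)
    (hF : Q F) :
    c F = ∑ k ∈ Finset.range (n + 1), (-1 : ℤ) ^ k • c (L.X k) := by
  obtain ⟨hfl, hz, hq⟩ := hres
  haveI := hq
  have hex : ∀ k, L.ExactAt (k + 1) := fun k => by
    rw [← quasiIsoAt_iff_exactAt' π (k + 1) (HomologicalComplex.exactAt_single_obj _ _ _ _ (by simp))]
    infer_instance
  let e : L.opcycles 0 ≅ F := (L.isoHomologyι₀).symm ≪≫ asIso (HomologicalComplex.homologyMap π 0) ≪≫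
    HomologicalComplex.singleObjHomologySelfIso (ComplexShape.down ℕ) 0 F
  have hQ : ∀ k, Q (L.opcycles k) := by
    intro k
    induction k with
    | zero => exact hiso e.symm hF
    | succ k ih => exact hker _ (shortExact_opcycles L hex k).choose_spec (hfl k) ih
  have key : ∀ j k, k + j = n + 1 →
      c (L.opcycles k) = ∑ i ∈ Finset.range j, (-1 : ℤ) ^ i • c (L.X (k + i)) := by
    intro j
    induction j with
    | zero =>
      intro k hk
      rw [Finset.sum_range_zero]
      exact hc0 _ (IsZero.of_epi (L.pOpcycles k) (hz k (by omega)))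
    | succ j ih =>
      intro k hk
      have h1 : c (L.X k) = c (L.opcycles (k + 1)) + c (L.opcycles k) :=
        hadd _ (shortExact_opcycles L hex k).choose_spec (hQ (k + 1)) (hfl k) (hQ k)
      rw [Finset.sum_range_succ', pow_zero, one_smul, add_zero]
      have hneg : ∑ i ∈ Finset.range j, (-1 : ℤ) ^ (i + 1) • c (L.X (k + (i + 1))) = -c (L.opcycles (k + 1)) := by
        rw [ih (k + 1) (by omega), ← Finset.sum_neg_distrib]
        refine Finset.sum_congr rfl fun i _ => ?_
        rw [pow_succ, mul_neg_one, neg_smul, show k + (i + 1) = k + 1 + i by omega]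
      rw [hneg, h1]
      abel
  rw [← hciso e (hQ 0), key (n + 1) 0 (zero_add _)]
  exact Finset.sum_congr rfl fun i _ => by rw [zero_add]

/-- Pull-back commutes with push-forward for a Tor independent base change. -/
theorem pull_pushCl_of_torFree {X P : Scheme.{u}} [IsNoetherian M] [IsNoetherian Y] [IsNoetherian X]
    [IsNoetherian P] (F : P ⟶ M) (φ : Y ⟶ M) (f : X ⟶ Y) (ψ : X ⟶ P) (hsq : IsPullback f ψ φ F)
    (hF : Mor2.IsRegularClosedImmersion F) (hf : Mor2.IsRegularClosedImmersion f)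
    (hTF : ∀ G : P.Modules, FlatMod.IsFinLocFree G → TorFree φ ((Scheme.Modules.pushforward F).obj G))
    (hY : KRR.HasEnoughLocFree Y) (hM : KRR.HasEnoughLocFree M)
    {KX : Type*} {KY : Type*} {KP : Type*} {KM : Type*} [CommRing KX] [CommRing KY] [CommRing KP] [CommRing KM]
    {φX : SGA6.Kvb X →+ KX} {φY : SGA6.Kvb Y →+ KY} {φP : SGA6.Kvb P →+ KP} (hφP : Function.Bijective φP)
    {φM : SGA6.Kvb M →+ KM} {gφ : KM →+ KY} (hgφ : KRR.IsPull φ φM φY gφ) {gψ : KP →+ KX}
    (hgψ : KRR.IsPull ψ φP φX gψ) {gF : KP →+ KM} (hgF : KRR.IsPushCl F φP φM gF) {gf : KX →+ KY}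
    (hgf : KRR.IsPushCl f φX φY gf) (p : KP) : gφ (gF p) = gf (gψ p) := by
  haveI := hF.1
  haveI := hf.1
  obtain ⟨eY, heY⟩ := exists_bundleClass hY
  obtain ⟨x, rfl⟩ := hφP.2 p
  refine DFunLike.congr_fun (KZ.K0sub_hom_ext (KRR.vbP P) (f := gφ.comp (gF.comp φP))
    (g := gf.comp (gψ.comp φP)) fun G hG => ?_) x
  obtain ⟨n, L, π, hres⟩ := hasLFRes_push hM hF hG
  have hψG := KFlatLib.isFinLocFree_pullback ψ hG
  have hPf : KZ.LFRes.P₁ Y ((Scheme.Modules.pushforward f).obj ((Scheme.Modules.pullback ψ).obj G)) :=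
    ⟨(exists_pdlt_push hf hψG).choose_spec.1, hasLFRes_push hY hf hψG⟩
  haveI : Coh.IsQCoh G := QCoh.isQCoh_of_isFinLocFree hG
  haveI := Groth.Agent.S12131.result F φ ψ f hsq.flip G
  let bc : (Scheme.Modules.pullback φ).obj ((Scheme.Modules.pushforward F).obj G) ≅
      (Scheme.Modules.pushforward f).obj ((Scheme.Modules.pullback ψ).obj G) :=
    @asIso _ _ _ _ _ this
  let Q : M.Modules → Prop := fun A => TorFree φ A ∧ KZ.LFRes.P₁ Y ((Scheme.Modules.pullback φ).obj A)
  let c : M.Modules → KY := fun A => φY (eY (KZero.clSub (KZ.LFRes.P₁ Y) ((Scheme.Modules.pullback φ).obj A)))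
  have hQF : Q ((Scheme.Modules.pushforward F).obj G) :=
    ⟨hTF G hG, p₁_iso hY bc.symm hPf⟩
  have key := altsum_of_res_vb hres Q
    (fun e h => ⟨torFree_iso e h.1, p₁_iso hY ((Scheme.Modules.pullback φ).mapIso e) h.2⟩)
    (fun S hS h₂ h₃ => ⟨torFree_kernel hS h₂ h₃.1,
      (KZ.LFRes.resSetup hY).ker₁ _ (shortExact_pullback_torFree φ hS h₂ h₃.1)
        (p₁_vb hY (KFlatLib.isFinLocFree_pullback φ h₂)) h₃.2⟩)
    c (fun e h => congrArg (fun t => φY (eY t)) (clSub_p₁_iso hY ((Scheme.Modules.pullback φ).mapIso e) h.2))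
    (fun A hA => by
      show φY (eY _) = 0
      rw [KZ.clSub_isZero _ ((Scheme.Modules.pullback φ).map_isZero hA), map_zero, map_zero])
    (fun S hS h₁ h₂ h₃ => (congrArg (φY.comp eY) (KZ.clSub_ses _ (shortExact_pullback_torFree φ hS h₂ h₃.1)
        h₁.2 (p₁_vb hY (KFlatLib.isFinLocFree_pullback φ h₂)) h₃.2)).trans (map_add _ _ _))
    hQF
  show gφ (gF (φP (KRR.cl P G))) = gf (gψ (φP (KRR.cl P G)))
  rw [hgψ G hG, pushCl_apply hY heY hgf hψG hPf, ← clSub_p₁_iso hY bc hQF.2]
  refine Eq.trans ?_ key.symm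
  rw [hgF G hG n L π hres, map_sum]
  refine Finset.sum_congr rfl fun k _ => ?_
  rw [map_zsmul, hgφ _ (hres.finLocFree k)]
  exact congrArg (_ • ·) (congrArg φY (heY _ (KFlatLib.isFinLocFree_pullback φ (hres.finLocFree k))).symm)

/-- Pull-back commutes with push-forward for a base change of the same codimension. -/
theorem pull_pushCl_of_sameCodim {X P : Scheme.{u}} [IsNoetherian M] [IsNoetherian Y] [IsNoetherian X]
    [IsNoetherian P] (F : P ⟶ M) (φ : Y ⟶ M) (f : X ⟶ Y) (ψ : X ⟶ P) (hsq : IsPullback f ψ φ F)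
    (hF : Mor2.IsRegularClosedImmersion F) (hf : Mor2.IsRegularClosedImmersion f) (d : ℕ)
    (hcF : FlatMod.IsFinLocFreeOfRank d (Omega.conormal F)) (hcf : FlatMod.IsFinLocFreeOfRank d (Omega.conormal f))
    (hY : KRR.HasEnoughLocFree Y) (hM : KRR.HasEnoughLocFree M)
    {KX : Type*} {KY : Type*} {KP : Type*} {KM : Type*} [CommRing KX] [CommRing KY] [CommRing KP] [CommRing KM]
    {φX : SGA6.Kvb X →+ KX} {φY : SGA6.Kvb Y →+ KY} {φP : SGA6.Kvb P →+ KP} (hφP : Function.Bijective φP)
    {φM : SGA6.Kvb M →+ KM} {gφ : KM →+ KY} (hgφ : KRR.IsPull φ φM φY gφ) {gψ : KP →+ KX}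
    (hgψ : KRR.IsPull ψ φP φX gψ) {gF : KP →+ KM} (hgF : KRR.IsPushCl F φP φM gF) {gf : KX →+ KY}
    (hgf : KRR.IsPushCl f φX φY gf) (p : KP) : gφ (gF p) = gf (gψ p) :=
  pull_pushCl_of_torFree F φ f ψ hsq hF hf (fun _ hG => torFree_push F φ f ψ hsq hF hf d hcF hcf hG)
    hY hM hφP hgφ hgψ hgF hgf p

end Groth.Agent.KRRReg
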