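import Groth.Agent.KRRReg.Section
import Groth.Agent.KRRReg.TorGeom
import Groth.Agent.KRRReg.BaseChange
import Groth.Agent.RegImmLib.Basic
import Groth.Agent.W4Lib.Flat

/-!
# Push-forward and projective space over a regular closed immersion
-/

set_option linter.style.haveILetI false
set_option linter.unusedSectionVars false
set_option backward.isDefEq.respectTransparency false
set_option backward.isDefEq.respectTransparency.types false
set_option maxHeartbeats 1000000
set_option autoImplicit false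

universe u v

open CategoryTheory CategoryTheory.Limits AlgebraicGeometry TopologicalSpace Opposite
open RingTheory.Sequence
open scoped TensorProduct
open Groth.Agent.H23.PicMul

noncomputable section

namespace Groth.Agent.KRRReg

open Groth.Agent

/-- Regular closed immersions into locally noetherian schemes are stable under flat base change. -/
theorem regClosed_baseChange {X Y X' Y' : Scheme.{u}} {i : Y ⟶ X} {g : X' ⟶ X} [Flat g] [IsLocallyNoetherian X']
    {i' : Y' ⟶ X'} {g' : Y' ⟶ Y} (hsq : IsPullback g' i' i g) (hi : Mor2.IsRegularClosedImmersion i) :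
    Mor2.IsRegularClosedImmersion i' := by
  haveI := hi.1
  haveI hci' : IsClosedImmersion i' := MorphismProperty.of_isPullback (P := @IsClosedImmersion) hsq hi.1
  refine ⟨hci', fun z' => ?_⟩
  obtain ⟨U, hU, hzU, rs, hrs, hI⟩ := hi.2 (g' z')
  have h0 : RegImmLib.IsKoszulAtLength i rs.length (g' z') :=
    ⟨U, hU, hzU, inferInstance, rs.get,
      KRegLib.isExact_of_isWeaklyRegular rs.get (by rw [List.ofFn_get]; exact hrs.toIsWeaklyRegular),
      by rw [← Scheme.Hom.ker_apply i ⟨U, hU⟩, hI, RegImmLib.span_range_eq_ofList, List.ofFn_get]⟩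
  obtain ⟨W, hW, hzW, -, f, hf, hker⟩ := h0.baseChange hsq z'
  haveI : IsNoetherianRing Γ(X', W) := IsLocallyNoetherian.component_noetherian ⟨W, hW⟩
  have hle : RingHom.ker (i'.app W).hom ≤ (hW.primeIdealOf ⟨i' z', hzW⟩).asIdeal := by
    have hp := congrArg PrimeSpectrum.asIdeal (IsAffineOpen.comap_primeIdealOf_appLE (f := i') W hW (i' ⁻¹ᵁ W)
      (hW.preimage i') le_rfl hzW)
    rw [← Scheme.Hom.app_eq_appLE] at hp
    rw [← hp]
    intro x hx
    refine Ideal.mem_comap.2 ?_
    rw [RingHom.mem_ker.1 hx]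
    exact zero_mem _
  haveI : Module.Flat Γ(X', W) (Localization.Away (1 : Γ(X', W))) := IsLocalization.flat _ (Submonoid.powers 1)
  have hK : KRegLib.KReg (RingHom.ker (i'.app W).hom) (hW.primeIdealOf ⟨i' z', hzW⟩).asIdeal := by
    refine ⟨1, fun h => (hW.primeIdealOf ⟨i' z', hzW⟩).isPrime.ne_top ((Ideal.eq_top_iff_one _).2 h), _,
      fun k => algebraMap Γ(X', W) (Localization.Away (1 : Γ(X', W))) (f k), WiebeLib.isExact_map hf, ?_⟩
    rw [hker, Ideal.map_span, ← Set.range_comp]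
    rfl
  obtain ⟨t, ht, ts, hts, htsI⟩ := KRegLib.exists_isRegular_of_kReg _ _ hle hK
  letI : Algebra Γ(X', W) Γ(X', X'.basicOpen t) :=
    (X'.presheaf.map (homOfLE (X'.basicOpen_le t)).op).hom.toAlgebra
  haveI : IsLocalization.Away t Γ(X', X'.basicOpen t) := hW.isLocalization_basicOpen t
  let ee : Localization.Away t ≃ₐ[Γ(X', W)] Γ(X', X'.basicOpen t) :=
    IsLocalization.algEquiv (Submonoid.powers t) _ _
  have hzt : i' z' ∈ X'.basicOpen t := by
    rw [← hW.fromSpec_image_basicOpen t]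
    exact ⟨hW.primeIdealOf ⟨i' z', hzW⟩, ht, hW.fromSpec_primeIdealOf _⟩
  refine ⟨X'.basicOpen t, hW.basicOpen t, hzt, ts.map ee, ?_, ?_⟩
  · refine (AddEquiv.isRegular_congr (e := ee.toRingEquiv.toAddEquiv) (as := ts) (bs := ts.map ee) ?_).1 hts
    exact List.forall₂_map_right_iff.2 (List.forall₂_same.2 fun x _ y => map_mul ee x y)
  · obtain ⟨hW', hWs⟩ := Synt29.surjective_app_of_isClosedImmersion_restrict i' W hW
    rw [Scheme.Hom.ker_apply]
    refine Eq.trans (KRegLib.app_basicOpen_props i' hW hW' hWs t).2.2 ?_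
    have h4 : (Ideal.ofList ts).map ee.toRingEquiv.toRingHom = Ideal.ofList (ts.map ee) := Ideal.map_ofList _ _
    rw [← h4, htsI, Ideal.map_map]
    congr 1
    exact (RingHom.ext fun x => (ee.commutes x)).symm

theorem torV_of_flat_right {R : Type u} [CommRing R] {N : Type u} [AddCommGroup N] [Module R N] :
    ∀ (k : ℕ) (B : Type u) [AddCommGroup B] [Module R B], Module.Flat R B → TorV (R := R) N k B
  | 0, B, _, _, hB => by
    haveI := hB
    have hh := W4Lib.lTensor_injective_of_flat_quotient (R := R) (M₁ := ↥(syzB (R := R) B)) (M₂ := B →₀ R)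
      (M₃ := B) (f := (syzB (R := R) B).subtype) (g := cov (R := R) B)
    exact hh (syzB (R := R) B).injective_subtype (LinearMap.exact_subtype_ker_map (cov (R := R) B))
      (cov_surjective B) N
  | k + 1, B, _, _, hB => by
    haveI := hB
    refine torV_of_flat_right k _ ?_
    have hh := Groth.Agent.S6304.result (R := R) (M' := ↥(syzB (R := R) B)) (M := B →₀ R) (M'' := B)
      (syzB (R := R) B).subtype (cov (R := R) B)
    exact (hh (syzB (R := R) B).injective_subtype (LinearMap.exact_subtype_ker_map (cov (R := R) B))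
      (cov_surjective B)).2 inferInstance

/-- Everything is Tor independent of a flat base change. -/
theorem torFree_of_flat {M Y : Scheme.{u}} (φ : Y ⟶ M) [Flat φ] (A : M.Modules) : TorFree φ A := fun y => by
  letI := (φ.stalkMap y).hom.toAlgebra
  intro k
  exact torV_of_flat_right k _ (Flat.stalkMap φ y)

variable {n : ℕ} {X Y : Scheme.{u}}

/-- Additive maps on `K(P^n_X)` are determined on twists of pulled back bundles. -/
theorem hom_ext_twists [IsNoetherian X] {G : Type*} [AddCommGroup G]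
    {a b : SGA6.Kvb (KRR.PY n X) →+ G}
    (h : ∀ (t : ℕ) (E : X.Modules), t ≤ n → FlatMod.IsFinLocFree E →
      a (KRR.cl (KRR.PY n X) ((DCoh.tensorBi.obj (Twist.twistOver n X (-(t : ℤ)))).obj
          ((Scheme.Modules.pullback (KRR.pr n X)).obj E))) =
      b (KRR.cl (KRR.PY n X) ((DCoh.tensorBi.obj (Twist.twistOver n X (-(t : ℤ)))).obj
          ((Scheme.Modules.pullback (KRR.pr n X)).obj E)))) : a = b := by
  haveI := isNoetherian_PY (n := n) (Y := X)
  refine vbHom_ext fun F hF => ?_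
  have hc := isCoh_of_finLocFree hF.1
  have hfl := isFlatOver_finLocFree hF.1
  let E := fun i => (Scheme.Modules.pushforward (KRR.pr n X)).obj (Gs F i)
  have hE : ∀ i, FlatMod.IsFinLocFree (E i) := fun i =>
    isFinLocFree_push (isFlatOver_Gs hc hfl hF.2 i).1 (isFlatOver_Gs hc hfl hF.2 i).2 (gs_props hc.1 hF.2 i).2.1
  have hterm : ∀ i, Nonempty (term F i ≅ (DCoh.tensorBi.obj (Twist.twistOver n X (-(i : ℤ)))).obj
      ((Scheme.Modules.pullback (KRR.pr n X)).obj (E i))) := fun i => cl_eq_iff.1 (cl_term (F := F) i)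
  have hTE : ∀ i : ℕ, FlatMod.IsFinLocFree ((DCoh.tensorBi.obj (Twist.twistOver n X (-(i : ℤ)))).obj
      ((Scheme.Modules.pullback (KRR.pr n X)).obj (E i))) := fun i =>
    KFlatLib.isFinLocFree_tensor (H23.PullPush.isFinLocFree_of_isInvertible
      (PicClLib.isInvertible_pullback (gfst n X) (TwistFlat.isInvertible_twistProjSpace n _)))
      (KFlatLib.isFinLocFree_pullback _ (hE i))
  have hres : KRR.IsLFRes F n (cx F) (π F) :=
    ⟨fun i => isFinLocFree_iso (hterm i).some.symm (hTE i), fun i hi => isZero_term hc.1 hF.2 i hi,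
      quasiIso_π hc.1 hF.2⟩
  have key : ∀ c : SGA6.Kvb (KRR.PY n X) →+ G, c (KRR.cl _ F) =
      ∑ k ∈ Finset.range (n + 1), (-1 : ℤ) ^ k • c (KRR.cl _ ((cx F).X k)) := fun c =>
    altsum_of_res_vb hres (fun A => FlatMod.IsFinLocFree A) (fun e h => isFinLocFree_iso e h)
      (fun S hS h₂ h₃ => KZ.LFRes.pdlt_one_iff.1 (KZ.LFRes.PDLT.kernel_of hS (KZ.LFRes.pdlt_one_iff.2 h₂)
        ((KZ.LFRes.pdlt_one_iff.2 h₃).mono (by omega))))
      (fun A => c (KRR.cl _ A)) (fun e h => congrArg c (cl_iso e h))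
      (fun A hA => (congrArg c (KZ.clSub_isZero _ hA)).trans (map_zero c))
      (fun S hS h₁ h₂ h₃ => (congrArg c (KZ.clSub_ses _ hS h₁ h₂ h₃)).trans (map_add _ _ _)) hF.1
  rw [key a, key b]
  refine Finset.sum_congr rfl fun k hk => ?_
  rw [cx_X, cl_iso (hterm k).some (isFinLocFree_iso (hterm k).some.symm (hTE k)),
    h k (E k) (Nat.lt_succ_iff.1 (Finset.mem_range.1 hk)) (hE k)]

theorem pushCl_pushPr [IsNoetherian X] [IsNoetherian Y] {i : X ⟶ Y}
    (hi : Mor2.IsRegularClosedImmersion i) (hYe : KRR.HasEnoughLocFree Y)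
    (hPe : KRR.HasEnoughLocFree (KRR.PY n Y))
    {KX : Type*} {KY : Type*} {KPX : Type*} {KPY : Type*} [CommRing KX] [CommRing KY]
    [CommRing KPX] [CommRing KPY] {φX : SGA6.Kvb X →+ KX} (hKX : IsRingModel X KX φX) {φY : SGA6.Kvb Y →+ KY} (hKY : IsRingModel Y KY φY) {φPX : SGA6.Kvb (KRR.PY n X) →+ KPX}
    (hKPX : IsRingModel (KRR.PY n X) KPX φPX) {φPY : SGA6.Kvb (KRR.PY n Y) →+ KPY}
    (hKPY : IsRingModel (KRR.PY n Y) KPY φPY)
    {gi : KX →+ KY} (hgi : KRR.IsPushCl i φX φY gi)
    {gj : KPX →+ KPY} (hgj : KRR.IsPushCl (KRR.projSpaceMap n i) φPX φPY gj)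
    {gX : KPX →+ KX} (hgX : KRR.IsPushPr n X φPX φX gX) {gY : KPY →+ KY} (hgY : KRR.IsPushPr n Y φPY φY gY) :
    Mor2.IsRegularClosedImmersion (KRR.projSpaceMap n i) ∧ gi.comp gX = gY.comp gj := by
  haveI := hi.1
  haveI := isNoetherian_PY (n := n) (Y := Y)
  haveI := isNoetherian_PY (n := n) (Y := X)
  have hw : KRR.projSpaceMap n i ≫ KRR.pr n Y = KRR.pr n X ≫ i := pullback.lift_snd _ _ _
  have hsq := (isPullback_projSpaceMap i hw).flip
  have hj : Mor2.IsRegularClosedImmersion (KRR.projSpaceMap n i) := regClosed_baseChange hsq hi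
  refine ⟨hj, ?_⟩
  obtain ⟨qX, hqX, -⟩ := existsUnique_isPull (KRR.pr n X) φPX hKX.bijective
  obtain ⟨qY, hqY, -⟩ := existsUnique_isPull (KRR.pr n Y) φPY hKY.bijective
  obtain ⟨jP, hjP, -⟩ := existsUnique_isPull (KRR.projSpaceMap n i) φPX hKPY.bijective
  refine AddMonoidHom.ext fun z => ?_
  obtain ⟨z, rfl⟩ := hKPX.bijective.2 z
  refine DFunLike.congr_fun (hom_ext_twists (a := gi.comp (gX.comp φPX)) (b := gY.comp (gj.comp φPX))
    fun t E _ hE => ?_) z
  let OX := KRR.twF n X (-(t : ℤ)) (Coh.structureModule (KRR.PY n X))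
  let OY := KRR.twF n Y (-(t : ℤ)) (Coh.structureModule (KRR.PY n Y))
  have hT : FlatMod.IsFinLocFree (Twist.twistOver n X (-(t : ℤ))) := H23.PullPush.isFinLocFree_of_isInvertible
      (PicClLib.isInvertible_pullback (gfst n X) (TwistFlat.isInvertible_twistProjSpace n _))
  have hcl : φPX (KRR.cl _ ((DCoh.tensorBi.obj (Twist.twistOver n X (-(t : ℤ)))).obj
      ((Scheme.Modules.pullback (KRR.pr n X)).obj E))) =
      φPX (KRR.cl _ OX) * qX (φX (KRR.cl X E)) := by
    rw [hqX E hE, cl_iso (twF_structure_iso X (-(t : ℤ))).some (isFinLocFree_twF_structure X _)]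
    exact (hKPX.map_mul _ _ hT (KFlatLib.isFinLocFree_pullback _ hE)).symm
  have hjO : jP (φPY (KRR.cl _ OY)) = φPX (KRR.cl _ OX) := by
    rw [hjP _ (isFinLocFree_twF_structure Y _)]
    haveI : IsIso (SheafOfModules.pullbackObjUnitToUnit (KRR.projSpaceMap n i).toRingCatSheafHom) := inferInstance
    let e : (Scheme.Modules.pullback (KRR.projSpaceMap n i)).obj (Coh.structureModule (KRR.PY n Y)) ≅
        Coh.structureModule (KRR.PY n X) :=
      asIso (SheafOfModules.pullbackObjUnitToUnit (KRR.projSpaceMap n i).toRingCatSheafHom)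
    let ε := (twF_pullback_iso i (Coh.structureModule (KRR.PY n Y)) (-(t : ℤ))).some.symm ≪≫
      (DCoh.tensorBi.obj (Twist.twistOver n X (-(t : ℤ)))).mapIso e
    exact congrArg φPX (cl_iso ε (isFinLocFree_iso ε.symm (isFinLocFree_twF_structure X _)))
  have hbase : ∀ x, qY (gi x) = gj (qX x) := fun x =>
    pull_pushCl_of_torFree i (KRR.pr n Y) (KRR.projSpaceMap n i) (KRR.pr n X)
      (isPullback_projSpaceMap i hw) hi hj (fun _ _ => torFree_of_flat _ _) hPe hYe hKX.bijective hqY hqX hgi hgj x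
  show gi (gX (φPX _)) = gY (gj (φPX _))
  rw [hcl, pushPr_mul_pull hKPX hKX hgX hqX, push_class X hKX hgX]
  rw [← hjO, mul_comm (jP _), pushCl_mul_pull hPe hj hKPX hKPY hjP hgj, ← hbase, mul_comm (qY _),
    pushPr_mul_pull hKPY hKY hgY hqY, push_class Y hKY hgY, ← zsmul_eq_mul, ← zsmul_eq_mul, map_zsmul]

end Groth.Agent.KRRReg
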