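import Groth.Agent.KRRReg.RegImm
import Groth.Agent.KRRReg.KMaps
import Groth.Agent.AmpleVan.AdicBase

/-!
# The push-forward along a regular closed immersion on `K`
-/

set_option linter.style.haveILetI false
set_option linter.unusedSectionVars false
set_option backward.isDefEq.respectTransparency false
set_option backward.isDefEq.respectTransparency.types false
set_option maxHeartbeats 1000000
set_option autoImplicit false

universe u v

open CategoryTheory CategoryTheory.Limits AlgebraicGeometry TopologicalSpace Opposite ZeroObject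

noncomputable section

namespace Groth.Agent.KRRReg

open Groth.Agent

variable {X Y : Scheme.{u}}

open KZ.LFRes in
/-- The class of a resolved module is the alternating sum of the classes of the terms. -/
theorem cl_eq_altsum [IsNoetherian Y] (hY : KRR.HasEnoughLocFree Y) {F : Y.Modules} {n : ℕ}
    {L : ChainComplex Y.Modules ℕ} {π : L ⟶ (ChainComplex.single₀ Y.Modules).obj F}
    (hres : KRR.IsLFRes F n L π) :
    KZero.clSub (P₁ Y) F = ∑ k ∈ Finset.range (n + 1), (-1 : ℤ) ^ k • KZero.clSub (P₁ Y) (L.X k) := by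
  obtain ⟨hfl, hz, hq⟩ := hres
  haveI := hq
  have hP : ∀ {M : Y.Modules} {m : ℕ}, PDLT (m + 1) M → P₁ Y M := fun {M m} h => ⟨h.1, hasLFRes hY m M h⟩
  have hP0 : P₁ Y (0 : Y.Modules) := hP ((pdlt_of_isZero (isZero_zero _)).mono (Nat.zero_le 1))
  have hex : ∀ k, L.ExactAt (k + 1) := fun k => by
    rw [← quasiIsoAt_iff_exactAt' π (k + 1) (HomologicalComplex.exactAt_single_obj _ _ _ _ (by simp))]
    infer_instance
  have key : ∀ j k, k + j = n + 1 → PDLT (j + 1) (L.opcycles k) ∧
      KZero.clSub (P₁ Y) (L.opcycles k) = ∑ i ∈ Finset.range j, (-1 : ℤ) ^ i • KZero.clSub (P₁ Y) (L.X (k + i)) := by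
    intro j
    induction j with
    | zero =>
      intro k hk
      have hz' : IsZero (L.opcycles k) := IsZero.of_epi (L.pOpcycles k) (hz k (by omega))
      refine ⟨(pdlt_of_isZero hz').mono (Nat.zero_le _), ?_⟩
      rw [Finset.sum_range_zero]
      exact KZ.clSub_isZero _ hz'
    | succ j ih =>
      intro k hk
      obtain ⟨hk1, hcl1⟩ := ih (k + 1) (by omega)
      haveI : Mono (L.fromOpcycles (k + 1) k) := by
        have h := (L.exactAt_iff' (k + 2) (k + 1) k (by simp) (by simp)).1 (hex k)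
        have := h.mono_fromOpcycles
        have e : L.fromOpcycles (k + 1) k = (L.opcyclesIsoSc' (k + 2) (k + 1) k (by simp) (by simp)).hom ≫
            (L.sc' (k + 2) (k + 1) k).fromOpcycles := by
          rw [← cancel_epi (L.pOpcycles (k + 1))]
          rw [L.p_fromOpcycles, HomologicalComplex.pOpcycles_opcyclesIsoSc'_hom_assoc, ShortComplex.p_fromOpcycles]
          rfl
        rw [e]
        infer_instance
      let S := ShortComplex.mk (L.fromOpcycles (k + 1) k) (L.pOpcycles k)
        (by rw [← cancel_epi (L.pOpcycles (k + 1))]; simp)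
      have hS : S.ShortExact := by
        refine .mk' ?_ inferInstance inferInstance
        refine ShortComplex.exact_of_g_is_cokernel _ (CokernelCofork.IsColimit.ofπ _ _
          (fun g hg => L.descOpcycles g (k + 1) (by simp) (by
            rw [← L.p_fromOpcycles, Category.assoc]
            exact (congrArg _ hg).trans comp_zero))
          (fun g hg => L.p_descOpcycles _ _ _ _) (fun g hg b hb => ?_))
        rw [← cancel_epi (L.pOpcycles k), L.p_descOpcycles]
        exact hb
      have hX : PDLT (j + 1) (L.X k) := ((pdlt_one_iff).2 (hfl k)).mono (by omega)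
      have hc : Coh.IsCoh (L.opcycles k) :=
        KZ.isClosedUnderIsomorphisms_isCoh.of_iso
          ((cokernelIsCokernel S.f).coconePointUniqueUpToIso hS.gIsCokernel)
          (QCoh.isCoh_cokernel hk1.1.1 hX.1 S.f)
      have h3 : PDLT (j + 1 + 1) (L.opcycles k) := PDLT.cokernel_of hS hc hk1 (hX.mono (Nat.le_succ _))
      refine ⟨h3, ?_⟩
      have hses : KZero.clSub (P₁ Y) (L.X k) =
          KZero.clSub (P₁ Y) (L.opcycles (k + 1)) + KZero.clSub (P₁ Y) (L.opcycles k) :=
        KZ.clSub_ses (P₁ Y) hS (hP hk1) (hP hX) (hP h3)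
      rw [Finset.sum_range_succ', pow_zero, one_smul, add_zero]
      have hneg : ∑ i ∈ Finset.range j, (-1 : ℤ) ^ (i + 1) • KZero.clSub (P₁ Y) (L.X (k + (i + 1))) =
          -KZero.clSub (P₁ Y) (L.opcycles (k + 1)) := by
        rw [hcl1, ← Finset.sum_neg_distrib]
        refine Finset.sum_congr rfl fun i _ => ?_
        rw [pow_succ, mul_neg_one, neg_smul, show k + (i + 1) = k + 1 + i by omega]
      rw [hneg, hses]
      abel
  obtain ⟨h0, hcl0⟩ := key (n + 1) 0 (zero_add _)
  let e : L.opcycles 0 ≅ F := (L.isoHomologyι₀).symm ≪≫ asIso (HomologicalComplex.homologyMap π 0) ≪≫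
    HomologicalComplex.singleObjHomologySelfIso (ComplexShape.down ℕ) 0 F
  rw [← KZ.clSub_iso (P₁ Y) e (hP h0) (hP (h0.iso e)) (isZero_zero _) hP0, hcl0]
  exact Finset.sum_congr rfl fun i _ => by rw [zero_add]

/-- Push-forward on bundle classes along a regular closed immersion. -/
theorem existsUnique_isPushCl [IsNoetherian X] [IsNoetherian Y] (hY : KRR.HasEnoughLocFree Y) {f : X ⟶ Y}
    (hf : Mor2.IsRegularClosedImmersion f) {KX : Type*} {KY : Type*} [CommRing KX] [CommRing KY]
    {φX : SGA6.Kvb X →+ KX} (hφ : Function.Bijective φX) (φY : SGA6.Kvb Y →+ KY) :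
    ∃! h : KX →+ KY, KRR.IsPushCl f φX φY h := by
  haveI := hf.1
  haveI : PreservesFiniteLimits (Scheme.Modules.pushforward f) := QCoh.preservesFiniteLimits_push _
  obtain ⟨ι, hι⟩ := KZ.exists_liftSub (G := KZero.K0sub (KZ.LFRes.P₁ Y)) (KRR.vbP Y)
    (fun M => KZero.clSub (KZ.LFRes.P₁ Y) M) fun S hS h₁ h₂ h₃ =>
      KZ.clSub_ses _ hS ((KZ.LFRes.resSetup hY).le _ h₁) ((KZ.LFRes.resSetup hY).le _ h₂)
        ((KZ.LFRes.resSetup hY).le _ h₃)
  have hb := KZ.LFRes.bijective_resolvable hY ι hι
  let eι := AddEquiv.ofBijective ι hb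
  have hP : ∀ F : X.Modules, FlatMod.IsFinLocFree F → KZ.LFRes.P₁ Y ((Scheme.Modules.pushforward f).obj F) :=
    fun F hF => ⟨(exists_pdlt_push hf hF).choose_spec.1, hasLFRes_push hY hf hF⟩
  obtain ⟨χ, hχ⟩ := KZ.exists_liftSub (G := KZero.K0sub (KZ.LFRes.P₁ Y)) (KRR.vbP X)
    (fun F => KZero.clSub (KZ.LFRes.P₁ Y) ((Scheme.Modules.pushforward f).obj F)) fun S hS h₁ h₂ h₃ => by
      haveI := hS.mono_f
      haveI hm : Mono ((Scheme.Modules.pushforward f).map S.f) := inferInstance
      haveI := hS.epi_g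
      haveI : Epi ((Scheme.Modules.pushforward f).map S.g) :=
        AmpleVan.epi_push f (QCoh.isQCoh_of_isFinLocFree h₂) (QCoh.isQCoh_of_isFinLocFree h₃) S.g
      have hS' : (S.map (Scheme.Modules.pushforward f)).ShortExact :=
        ShortComplex.ShortExact.mk' (hS.exact.map_of_mono_of_preservesKernel _ inferInstance inferInstance)
          hm ‹_›
      exact KZ.clSub_ses _ hS' (hP _ h₁) (hP _ h₂) (hP _ h₃)
  let eX := AddEquiv.ofBijective φX hφ
  refine ⟨φY.comp (eι.symm.toAddMonoidHom.comp (χ.comp eX.symm.toAddMonoidHom)), fun F hF n L π hres => ?_,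
    fun g hg => ?_⟩
  · show φY (eι.symm (χ (eX.symm (eX (KRR.cl X F))))) = _
    rw [eX.symm_apply_apply, hχ F hF, cl_eq_altsum hY hres, map_sum, map_sum]
    refine Finset.sum_congr rfl fun k _ => ?_
    rw [map_zsmul, map_zsmul]
    refine congrArg (_ • ·) (congrArg φY ?_)
    rw [← hι _ (hres.finLocFree k)]
    exact eι.symm_apply_apply _
  · refine AddMonoidHom.ext fun z => ?_
    obtain ⟨x, rfl⟩ := hφ.2 z
    refine DFunLike.congr_fun (KZ.K0sub_hom_ext (KRR.vbP X) (f := g.comp φX) (g :=
      (φY.comp (eι.symm.toAddMonoidHom.comp (χ.comp eX.symm.toAddMonoidHom))).comp φX) fun F hF => ?_) x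
    obtain ⟨n, L, π, hres⟩ := hasLFRes_push hY hf hF
    show g (φX (KRR.cl X F)) = φY (eι.symm (χ (eX.symm (eX (KRR.cl X F)))))
    rw [hg F hF n L π hres, eX.symm_apply_apply, hχ F hF, cl_eq_altsum hY hres, map_sum, map_sum]
    refine Finset.sum_congr rfl fun k _ => ?_
    rw [map_zsmul, map_zsmul, ← hι _ (hres.finLocFree k)]
    exact congrArg (_ • ·) (congrArg φY (eι.symm_apply_apply _).symm)

end Groth.Agent.KRRReg
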