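import Groth.Agent.KRRReg.FlatTail
import Groth.Agent.QCoh.CechBC
import Groth.Agent.QCoh.FlatCoh
import Mathlib.Algebra.Module.LinearMap.End

/-!
# Base change of sections of a flat module without higher cohomology
-/

set_option linter.style.haveILetI false
set_option linter.unusedSectionVars false
set_option backward.isDefEq.respectTransparency false
set_option backward.isDefEq.respectTransparency.types false
set_option maxHeartbeats 1000000
set_option autoImplicit false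

universe u

open CategoryTheory CategoryTheory.Limits AlgebraicGeometry TopologicalSpace Opposite MonoidalCategory
open scoped TensorProduct

noncomputable section

namespace Groth.Agent.KRRReg

open Groth.Agent Groth.Agent.QCoh

section Aug

variable {X : Scheme.{u}} {A : Type u} [CommRing A] (ρ : A →+* Coh.Γtop X) {ι : Type u} (U : ι → X.Opens)
  (M : X.Modules)

/-- Restriction of a global section to a zero-cochain. -/
def augC : letI := secModule ρ M ⊤; Γ(M, ⊤) →ₗ[A] (cxMod ρ U M).X 0 :=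
  letI := secModule ρ M ⊤
  { toFun := fun x => ⟨fun _ W => M.presheaf.map (homOfLE (le_top : W.1 ≤ ⊤)).op x,
      fun _ _ _ _ _ i => map_map _ _ _⟩
    map_add' := fun x y => Subtype.ext <| funext₂ fun _ W => map_add (M.presheaf.map _).hom x y
    map_smul' := fun a x => Subtype.ext <| funext₂ fun _ W => by
      let r : Γ(X, ⊤) := X.presheaf.map (homOfLE (le_top : (⊤ : X.Opens) ≤ ⊤)).op (ρ a)
      refine (map_smul' (M := M) (homOfLE (le_top : W.1 ≤ ⊤)) r x).trans ?_
      exact congrArg (fun t : Γ(X, W.1) => t • M.presheaf.map (homOfLE (le_top : W.1 ≤ ⊤)).op x)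
        (ringMap_map _ _ _) }

variable {U} {M}

theorem injective_augC (hcov : ⨆ i, U i = ⊤) : Function.Injective (augC ρ U M) := fun s t hst =>
  TopCat.Sheaf.eq_of_locally_eq' ⟨M.presheaf, M.isSheaf⟩ U ⊤ (fun _ => homOfLE le_top) hcov.ge s t
    fun i => congrFun (congrFun (congrArg Subtype.val hst) fun _ => i) ⟨U i, fun _ => le_rfl⟩

theorem exact_augC (hcov : ⨆ i, U i = ⊤) : Function.Exact (augC ρ U M) ((cxMod ρ U M).d 0 1).hom := by
  intro c
  have hd : ∀ z : (cxMod ρ U M).X 0, ((cxMod ρ U M).d 0 1).hom z = 0 ↔ Ab.d z.1 = 0 := fun z => by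
    show (Ab.natCx M.presheaf U).d 0 1 z = 0 ↔ _
    rw [Ab.natCx_d]
    exact ⟨fun h => congrArg Subtype.val h, fun h => Subtype.ext h⟩
  have hcongr : ∀ {τ τ' : Fin 1 → ι} (_ : τ = τ') (W : X.Opens) (hW : Ab.Le U τ W) (hW' : Ab.Le U τ' W),
      c.1 τ ⟨W, hW⟩ = c.1 τ' ⟨W, hW'⟩ := by rintro τ τ' rfl W hW hW'; rfl
  refine ⟨fun hc => ?_, ?_⟩
  · have hc' := (hd c).1 hc
    obtain ⟨s, hs, -⟩ := TopCat.Sheaf.existsUnique_gluing' ⟨M.presheaf, M.isSheaf⟩ U ⊤
      (fun i => homOfLE le_top) hcov.ge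
      (fun i => c.1 (fun _ => i) ⟨U i, fun _ => le_rfl⟩) (fun i j => by
        refine (c.2 (fun _ => i) (U i) (U i ⊓ U j) (fun _ => le_rfl) (fun _ => inf_le_left) _).trans
          (Eq.trans ?_ (c.2 (fun _ => j) (U j) (U i ⊓ U j) (fun _ => le_rfl)
            (fun _ => inf_le_right) _).symm)
        have hW : Ab.Le U ![i, j] (U i ⊓ U j) := Fin.forall_fin_two.2 ⟨inf_le_left, inf_le_right⟩
        have e' : Ab.d c.1 ![i, j] ⟨_, hW⟩ =
            c.1 (fun b => ![i, j] ((0 : Fin 2).succAbove b)) ⟨_, fun b => hW _⟩ -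
              c.1 (fun b => ![i, j] ((1 : Fin 2).succAbove b)) ⟨_, fun b => hW _⟩ := by
          refine (Fin.sum_univ_two _).trans ?_
          simp only [Fin.val_zero, pow_zero, one_smul, Fin.val_one, pow_one, neg_smul]
          exact (sub_eq_add_neg _ _).symm
        rw [hc'] at e'
        have h0 := sub_eq_zero.1 e'.symm
        have e0 : (fun b : Fin 1 => ![i, j] ((0 : Fin 2).succAbove b)) = fun _ => j :=
          funext fun b => by fin_cases b; rfl
        have e1 : (fun b : Fin 1 => ![i, j] ((1 : Fin 2).succAbove b)) = fun _ => i :=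
          funext fun b => by fin_cases b; rfl
        exact (hcongr e1.symm _ _ _).trans (h0.symm.trans (hcongr e0 _ _ _)))
    refine ⟨s, Subtype.ext <| funext₂ fun σ W => ?_⟩
    obtain ⟨W, hW⟩ := W
    show M.presheaf.map (homOfLE (le_top : W ≤ ⊤)).op s = c.1 σ ⟨W, hW⟩
    refine (map_map (M := M) (homOfLE (hW 0)) (homOfLE (le_top : U (σ 0) ≤ ⊤))
      (show Γ(M, ⊤) from s)).symm.trans ?_
    refine (congrArg (M.presheaf.map (homOfLE (hW 0)).op) (hs (σ 0))).trans ?_
    refine (c.2 (fun _ => σ 0) (U (σ 0)) W (fun _ => le_rfl) (fun _ => hW 0) (homOfLE (hW 0))).trans ?_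
    exact hcongr (funext fun a => by rw [Fin.fin_one_eq_zero a]) _ _ _
  · rintro ⟨s, rfl⟩
    refine (hd _).2 (funext₂ fun σ W => ?_)
    show ∑ a : Fin 2, (-1 : ℤ) ^ (a : ℕ) • M.presheaf.map (homOfLE (le_top : W.1 ≤ ⊤)).op s = 0
    simp [Fin.sum_univ_two]

end Aug

theorem adjunct_comm {A B : Type u} [CommRing A] [CommRing B] [Algebra A B] {X X' : Scheme.{u}}
    (ρ : A →+* Coh.Γtop X) (ρ' : B →+* Coh.Γtop X') {ι : Type u} (U : ι → X.Opens) (φ : X' ⟶ X)
    {M : X.Modules} {M' : X'.Modules} (η : M ⟶ (Scheme.Modules.pushforward φ).obj M')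
    (hρ : ∀ a, ρ' (algebraMap A B a) = φ.appTop (ρ a)) (i j : ℕ) (z : B ⊗[A] (cxMod ρ U M).X i) :
    ((cxMod ρ' (fun k => φ ⁻¹ᵁ U k) M').d i j).hom ((adjunct ((cxModMap ρ ρ' U φ η hρ).f i)).hom z) =
      (adjunct ((cxModMap ρ ρ' U φ η hρ).f j)).hom (((cxMod ρ U M).d i j).hom.baseChange B z) := by
  let K := cxMod ρ U M
  let K' := cxMod ρ' (fun k => φ ⁻¹ᵁ U k) M'
  let f := cxModMap ρ ρ' U φ η hρ
  let : Module A (K'.X j) := Module.compHom (K'.X j) (algebraMap A B)
  have : IsScalarTower A B (K'.X j) := .of_algebraMap_smul fun _ _ => rfl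
  show ((K'.d i j).hom.comp (adjunct (f.f i)).hom) z = ((adjunct (f.f j)).hom.comp ((K.d i j).hom.baseChange B)) z
  congr 1
  refine TensorProduct.AlgebraTensorModule.ext (R := A) (A := B) fun b m => ?_
  refine (congrArg (K'.d i j).hom (adjunct_tmul (f.f i) b m)).trans ?_
  refine ((K'.d i j).hom.map_smul b _).trans ?_
  refine Eq.trans ?_ (adjunct_tmul (f.f j) b ((K.d i j).hom m)).symm
  exact congrArg (b • ·) (ConcreteCategory.congr_hom (f.comm i j) m)

variable {A B : Type u} [CommRing A] [CommRing B] [Algebra A B] {X X' : Scheme.{u}}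
  [X.Over (Spec (CommRingCat.of A))] [X'.Over (Spec (CommRingCat.of B))] [CompactSpace X] [X.IsSeparated]
  {φ : X' ⟶ X}


/-- Exactness of the Čech complex and of all its tensors from a vanishing of cohomology. -/
theorem exact_lTensor_cechA {F : X.Modules} (hF : Coh.IsQCoh F) (hfl : FlatMod.IsFlatOver (X ↘ Spec (CommRingCat.of A)) F) {ι : Type u}
    [Finite ι] (U : ι → X.Opens) (hcov : ⨆ i, U i = ⊤)
    (hU : ∀ {p : ℕ} (σ : Fin (p + 1) → ι), IsAffineOpen (⨅ a, U (σ a))) {q : ℕ}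
    (hvan : ∀ p : ℕ, q < p → Subsingleton (Coh.HH X F p)) :
    ∀ i, q ≤ i → ∀ (M : Type u) [AddCommGroup M] [Module A M],
      Function.Exact (((cechA (A := A) F U).d i (i + 1)).hom.lTensor M)
        (((cechA (A := A) F U).d (i + 1) (i + 1 + 1)).hom.lTensor M) := by
  let C := cechA (A := A) F U
  obtain ⟨d, hd⟩ := exists_HH_bound (X := X)
  have hexact : ∀ (K : CochainComplex (ModuleCat.{u} A) ℕ) (i : ℕ), Subsingleton (K.homology (i + 1)) →
      Function.Exact (K.d i (i + 1)).hom (K.d (i + 1) (i + 1 + 1)).hom := fun K i hi => by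
    have h := (K.exactAt_iff' i (i + 1) (i + 1 + 1) (CochainComplex.prev_nat_succ i) (CochainComplex.next _ _)).1
      ((K.exactAt_iff_isZero_homology _).2 (ModuleCat.isZero_of_subsingleton _))
    exact (ShortComplex.ShortExact.moduleCat_exact_iff_function_exact _).1 h
  haveI : ∀ i, Module.Flat A (C.X i) := fun i => flat_cechA F hF hfl hU i
  refine exact_lTensor_of_eventually (D := fun i => (C.X i : Type u)) (fun i => (C.d i (i + 1)).hom) (N := d)
    (fun i => congrArg ModuleCat.Hom.hom (C.d_comp_d i (i + 1) (i + 1 + 1)))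
    (fun i hi => hexact C i ?_) fun M _ _ i hi => exact_lTensor_of_rTensor _ _ M ?_
  · haveI := hvan (i + 1) (by omega)
    obtain ⟨e⟩ := cxMod_homology_equiv (Coh.toGlobal (X ↘ Spec (CommRingCat.of A))) U hcov hU hF (i + 1)
    exact e.toEquiv.subsingleton
  · refine hexact (CohIII.tensorObj C (ModuleCat.of A M)) i ?_
    haveI := hd _ (isQCoh_tA F hF (ModuleCat.of A M)) (i + 1) (by omega)
    obtain ⟨e⟩ := cxMod_homology_equiv (Coh.toGlobal (X ↘ Spec (CommRingCat.of A))) U hcov hU (isQCoh_tA F hF (ModuleCat.of A M)) (i + 1)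
    exact (((HomologicalComplex.homologyFunctor _ _ (i + 1)).mapIso
      (thetaIso F hF hU (ModuleCat.of A M))).toLinearEquiv.trans e).toEquiv.subsingleton

variable (h : IsPullback φ (X' ↘ Spec (CommRingCat.of B)) (X ↘ Spec (CommRingCat.of A)) (Spec.map (CommRingCat.ofHom (algebraMap A B))))
  {F : X.Modules} (hF : Coh.IsQCoh F) (hfl : FlatMod.IsFlatOver (X ↘ Spec (CommRingCat.of A)) F)

include h hF in
theorem isBC_unit {ι : Type u} (U : ι → X.Opens)
    (hU : ∀ {p : ℕ} (σ : Fin (p + 1) → ι), IsAffineOpen (⨅ a, U (σ a))) :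
    IsBC (Coh.toGlobal (X ↘ Spec (CommRingCat.of A))) (Coh.toGlobal (X' ↘ Spec (CommRingCat.of B))) U φ
      (show F ⟶ (Scheme.Modules.pushforward φ).obj ((Scheme.Modules.pullback φ).obj F) from
        (Scheme.Modules.pullbackPushforwardAdjunction φ).unit.app F)
      (toGlobal_comm (X ↘ Spec (CommRingCat.of A)) (X' ↘ Spec (CommRingCat.of B)) φ h.w) := by
  intro p σ W hW hle
  obtain rfl : W = φ ⁻¹ᵁ ⨅ a, U (σ a) := by
    rw [hW, ← Finset.inf_univ_eq_iInf, ← Finset.inf_univ_eq_iInf]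
    exact (Finset.apply_inf_eq_inf_comp (fun V : X.Opens => φ ⁻¹ᵁ V) (fun _ _ => rfl) rfl).symm
  exact isAffineBC_of_isPullback h hF _ (hU σ)

include h hF hfl in
/-- Vanishing above some degree survives base change. -/
theorem subsingleton_HH_baseChange {q : ℕ} (hvan : ∀ p : ℕ, q < p → Subsingleton (Coh.HH X F p))
    (p : ℕ) (hp : q < p) : Subsingleton (Coh.HH X' ((Scheme.Modules.pullback φ).obj F) p) := by
  obtain ⟨ι, _, U, hcov, hU⟩ := exists_affine_cover (X := X)
  obtain ⟨i, rfl⟩ : ∃ i, p = i + 1 := ⟨p - 1, by omega⟩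
  let ρ := Coh.toGlobal (X ↘ Spec (CommRingCat.of A))
  let ρ' := Coh.toGlobal (X' ↘ Spec (CommRingCat.of B))
  let F' := (Scheme.Modules.pullback φ).obj F
  let η : F ⟶ (Scheme.Modules.pushforward φ).obj F' :=
    (Scheme.Modules.pullbackPushforwardAdjunction φ).unit.app F
  have hρ := toGlobal_comm (X ↘ Spec (CommRingCat.of A)) (X' ↘ Spec (CommRingCat.of B)) φ h.w
  have hbc : IsBC ρ ρ' U φ η hρ := isBC_unit h hF U hU
  let U' := fun i => φ ⁻¹ᵁ U i
  have hcov' : ⨆ i, φ ⁻¹ᵁ U i = ⊤ := by rw [← Scheme.Hom.preimage_iSup, hcov]; rfl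
  let C := cxMod ρ U F
  let C' := cxMod ρ' U' F'
  let a : ∀ i, (B ⊗[A] C.X i) →ₗ[B] C'.X i := fun i => (adjunct ((cxModMap ρ ρ' U φ η hρ).f i)).hom
  have ha : ∀ i, Function.Bijective (a i) := fun i => bijective_adjunct_cxModMap ρ ρ' U φ η hρ hbc i
  have hcomm : ∀ i j z, (C'.d i j).hom (a i z) = a j ((C.d i j).hom.baseChange B z) :=
    fun i j z => adjunct_comm ρ ρ' U φ η hρ i j z
  obtain ⟨e⟩ := cxMod_homology_equiv ρ' U' hcov' (fun σ => isAffineOpen_preimage (algebraMap A B) φ h U hU σ)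
    (isQCoh_pullback φ hF) (i + 1)
  haveI : Subsingleton (C'.homology (i + 1)) := by
    refine ModuleCat.subsingleton_of_isZero ((C'.exactAt_iff_isZero_homology _).1 ?_)
    refine (C'.exactAt_iff' i (i + 1) (i + 1 + 1) (CochainComplex.prev_nat_succ i) (CochainComplex.next _ _)).2 ?_
    refine (ShortComplex.ShortExact.moduleCat_exact_iff_function_exact _).2 fun y => ⟨fun hy => ?_, ?_⟩
    · obtain ⟨z, rfl⟩ := (ha (i + 1)).2 y
      have h0 : (C.d (i + 1) (i + 1 + 1)).hom.baseChange B z = 0 :=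
        (injective_iff_map_eq_zero _).1 (ha (i + 1 + 1)).1 _ ((hcomm _ _ z).symm.trans hy)
      obtain ⟨w, rfl⟩ := (exact_lTensor_cechA hF hfl U hcov hU hvan i (by omega) B z).1 h0
      exact ⟨a i w, hcomm _ _ w⟩
    · rintro ⟨w, rfl⟩
      exact ConcreteCategory.congr_hom (C'.d_comp_d i (i + 1) (i + 1 + 1)) w
  exact e.symm.toEquiv.subsingleton

include h hF hfl in
/-- Sections change base when the higher cohomology vanishes. -/
theorem isBaseChange_sections (hvan : ∀ p : ℕ, 1 ≤ p → Subsingleton (Coh.HH X F p)) :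
    letI := secModule (Coh.toGlobal (X ↘ Spec (CommRingCat.of A))) F ⊤
    letI := secModule (Coh.toGlobal (X' ↘ Spec (CommRingCat.of B))) ((Scheme.Modules.pullback φ).obj F) ⊤
    letI := secModule ((Coh.toGlobal (X' ↘ Spec (CommRingCat.of B))).comp (algebraMap A B)) ((Scheme.Modules.pullback φ).obj F) ⊤
    haveI : IsScalarTower A B Γ((Scheme.Modules.pullback φ).obj F, ⊤) := .of_algebraMap_smul fun _ _ => rfl
    IsBaseChange B (secLin (Coh.toGlobal (X ↘ Spec (CommRingCat.of A))) (Coh.toGlobal (X' ↘ Spec (CommRingCat.of B))) φ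
      (show F ⟶ (Scheme.Modules.pushforward φ).obj ((Scheme.Modules.pullback φ).obj F) from
        (Scheme.Modules.pullbackPushforwardAdjunction φ).unit.app F)
      (toGlobal_comm (X ↘ Spec (CommRingCat.of A)) (X' ↘ Spec (CommRingCat.of B)) φ h.w) ⊤ ⊤ le_top) := by
  let F' := (Scheme.Modules.pullback φ).obj F
  let ρ := Coh.toGlobal (X ↘ Spec (CommRingCat.of A))
  let ρ' := Coh.toGlobal (X' ↘ Spec (CommRingCat.of B))
  let η : F ⟶ (Scheme.Modules.pushforward φ).obj F' :=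
    (Scheme.Modules.pullbackPushforwardAdjunction φ).unit.app F
  have hρ := toGlobal_comm (X ↘ Spec (CommRingCat.of A)) (X' ↘ Spec (CommRingCat.of B)) φ h.w
  letI := secModule ρ F ⊤
  letI := secModule ρ' F' ⊤
  letI := secModule (ρ'.comp (algebraMap A B)) F' ⊤
  haveI : IsScalarTower A B Γ(F', ⊤) := .of_algebraMap_smul fun _ _ => rfl
  obtain ⟨ι, _, U, hcov, hU⟩ := exists_affine_cover (X := X)
  have hcov' : ⨆ i, φ ⁻¹ᵁ U i = ⊤ := by rw [← Scheme.Hom.preimage_iSup, hcov]; rfl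
  have hbc : IsBC ρ ρ' U φ η hρ := isBC_unit h hF U hU
  let U' := fun i => φ ⁻¹ᵁ U i
  let C := cxMod ρ U F
  let C' := cxMod ρ' U' F'
  let f := cxModMap ρ ρ' U φ η hρ
  let ε : Γ(F, ⊤) →ₗ[A] C.X 0 := augC ρ U F
  let ε' : Γ(F', ⊤) →ₗ[B] C'.X 0 := augC ρ' U' F'
  let d₀ : C.X 0 →ₗ[A] C.X 1 := (C.d 0 1).hom
  let d₁ : C.X 1 →ₗ[A] C.X 2 := (C.d 1 2).hom
  haveI : ∀ i, Module.Flat A (C.X i) := fun i => flat_cechA F hF hfl hU i
  have H0 := exact_lTensor_cechA hF hfl U hcov hU (q := 0) (fun p hp => hvan p hp) 0 le_rfl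
  have hdd : d₁ ∘ₗ d₀ = 0 := congrArg ModuleCat.Hom.hom (C.d_comp_d 0 1 2)
  have H1 : ∀ (M : Type u) [AddCommGroup M] [Module A M], Function.Exact (ε.lTensor M) (d₀.lTensor M) :=
    fun M _ _ => exact_lTensor_step ε d₀ d₁ (exact_augC ρ hcov) hdd (fun K _ _ => H0 K) M
  have H2 : Function.Injective (ε.lTensor B) := by
    have h0 := exact_lTensor_step (0 : PUnit.{u + 1} →ₗ[A] Γ(F, ⊤)) ε d₀ (fun x => by
      refine ⟨fun hx => ⟨PUnit.unit, ?_⟩, ?_⟩
      · rw [LinearMap.zero_apply]; exact (injective_augC ρ hcov (hx.trans (map_zero ε).symm)).symm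
      · rintro ⟨_, rfl⟩; simp) (exact_augC ρ hcov).linearMap_comp_eq_zero (fun K _ _ => H1 K) B
    refine (injective_iff_map_eq_zero _).2 fun x hx => ?_
    obtain ⟨w, rfl⟩ := (h0 x).1 hx
    simp
  let a : ∀ i, (B ⊗[A] C.X i) →ₗ[B] C'.X i := fun i => (adjunct (f.f i)).hom
  have ha : ∀ i, Function.Bijective (a i) := fun i => bijective_adjunct_cxModMap ρ ρ' U φ η hρ hbc i
  have hcomm : ∀ z, (C'.d 0 1).hom (a 0 z) = a 1 (d₀.baseChange B z) := fun z =>
    adjunct_comm ρ ρ' U φ η hρ 0 1 z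
  let l : Γ(F, ⊤) →ₗ[A] Γ(F', ⊤) := secLin ρ ρ' φ η hρ ⊤ ⊤ le_top
  let lb : B ⊗[A] Γ(F, ⊤) →ₗ[B] Γ(F', ⊤) := (TensorProduct.isBaseChange A Γ(F, ⊤) B).lift l
  have hlb : ∀ m, lb ((1 : B) ⊗ₜ m) = l m := fun m => (TensorProduct.isBaseChange A Γ(F, ⊤) B).lift_eq l m
  have hsq : ∀ z, ε' (lb z) = a 0 (ε.baseChange B z) := fun z => by
    induction z using TensorProduct.induction_on with
    | zero => simp
    | add x y hx hy => simp only [map_add, hx, hy]
    | tmul b m =>
      rw [show (b ⊗ₜ[A] m : B ⊗[A] Γ(F, ⊤)) = b • ((1 : B) ⊗ₜ m) by simp [TensorProduct.smul_tmul'],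
        map_smul, map_smul, map_smul, map_smul, hlb, LinearMap.baseChange_tmul]
      congr 1
      refine Eq.trans ?_ ((adjunct_tmul (f.f 0) 1 (ε m)).trans (one_smul _ _)).symm
      refine Subtype.ext <| funext₂ fun σ W => ?_
      refine Eq.trans ?_ (secMap_map φ η le_top (le_preimage U φ W.2) m).symm
      exact map_secMap φ η _ (homOfLE (le_top : W.1 ≤ ⊤)) m
  have hbij : Function.Bijective lb := by
    refine ⟨(injective_iff_map_eq_zero _).2 fun z hz => ?_, fun y => ?_⟩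
    · refine (injective_iff_map_eq_zero _).1 H2 z ((injective_iff_map_eq_zero _).1 (ha 0).1 _ ?_)
      exact (hsq z).symm.trans (by rw [hz, map_zero])
    · obtain ⟨z, hz⟩ := (ha 0).2 (ε' y)
      have h0 : d₀.baseChange B z = 0 := (injective_iff_map_eq_zero _).1 (ha 1).1 _ (by
        rw [← hcomm, hz]
        exact (exact_augC ρ' hcov').apply_apply_eq_zero y)
      obtain ⟨w, rfl⟩ := (H1 B z).1 h0
      exact ⟨w, injective_augC ρ' hcov' ((hsq w).trans hz)⟩
  refine IsBaseChange.of_equiv (LinearEquiv.ofBijective lb hbij) fun m => ?_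
  exact hlb m

end Groth.Agent.KRRReg
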