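import Mathlib.RingTheory.Flat.Basic
import Mathlib.RingTheory.Regular.RegularSequence
import Mathlib.LinearAlgebra.TensorProduct.RightExactness
import Mathlib.LinearAlgebra.Finsupp.LinearCombination
import Mathlib.RingTheory.QuotSMulTop
import Mathlib.LinearAlgebra.TensorProduct.Prod

/-!
# Vanishing of all higher Tor modules, by dimension shifting in the second variable
-/

set_option autoImplicit false
set_option backward.isDefEq.respectTransparency false
set_option backward.isDefEq.respectTransparency.types false
set_option linter.unusedSectionVars false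

universe u

open TensorProduct RingTheory.Sequence QuotSMulTop
open scoped Pointwise

noncomputable section

namespace Groth.Agent.KRRReg

variable {R : Type u} [CommRing R]

/-- The canonical free cover. -/
abbrev cov (B : Type u) [AddCommGroup B] [Module R B] : (B →₀ R) →ₗ[R] B := Finsupp.linearCombination R id

theorem cov_surjective (B : Type u) [AddCommGroup B] [Module R B] : Function.Surjective (cov (R := R) B) :=
  fun b => ⟨Finsupp.single b 1, by simp [cov]⟩

/-- The canonical syzygy. -/
abbrev syzB (B : Type u) [AddCommGroup B] [Module R B] : Submodule R (B →₀ R) := LinearMap.ker (cov (R := R) B)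

/-- `Tor_{i+1}(N, B) = 0`. -/
def TorV (N : Type u) [AddCommGroup N] [Module R N] :
    ℕ → ∀ (B : Type u) [AddCommGroup B] [Module R B], Prop
  | 0, B, _, _ => Function.Injective ((syzB (R := R) B).subtype.lTensor N)
  | i + 1, B, _, _ => TorV N i ↥(syzB (R := R) B)

/-- All higher Tor modules vanish. -/
def AC (N : Type u) [AddCommGroup N] [Module R N] (B : Type u) [AddCommGroup B] [Module R B] : Prop :=
  ∀ i, TorV (R := R) N i B

variable {N N' K L : Type u} [AddCommGroup N] [Module R N] [AddCommGroup N'] [Module R N']
  [AddCommGroup K] [Module R K] [AddCommGroup L] [Module R L]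

theorem AC.syz {B : Type u} [AddCommGroup B] [Module R B] (h : AC (R := R) N B) :
    AC (R := R) N ↥(syzB (R := R) B) :=
  fun i => h (i + 1)

theorem torV_of_flat [Module.Flat R N] : ∀ (i : ℕ) (B : Type u) [AddCommGroup B] [Module R B], TorV (R := R) N i B
  | 0, B, _, _ => Module.Flat.lTensor_preserves_injective_linearMap _ (syzB (R := R) B).injective_subtype
  | i + 1, B, _, _ => torV_of_flat i ↥(syzB (R := R) B)

theorem torV_congr (e : N ≃ₗ[R] N') : ∀ (i : ℕ) (B : Type u) [AddCommGroup B] [Module R B],
    TorV (R := R) N i B → TorV (R := R) N' i B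
  | 0, B, _, _, h => by
    intro a b hab
    apply (e.rTensor _).symm.injective
    refine h ?_
    apply (e.rTensor _).injective
    have key : ∀ z, (e.rTensor (B →₀ R)) ((syzB (R := R) B).subtype.lTensor N z) =
        (syzB (R := R) B).subtype.lTensor N' (e.rTensor _ z) := fun z => by
      induction z using TensorProduct.induction_on with
      | zero => simp
      | tmul m s => simp
      | add z w hz hw => simp only [map_add, hz, hw]
    rw [key, key, LinearEquiv.apply_symm_apply, LinearEquiv.apply_symm_apply]
    exact hab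
  | i + 1, B, _, _, h => torV_congr e i ↥(syzB (R := R) B) h

theorem AC.congr {B : Type u} [AddCommGroup B] [Module R B] (e : N ≃ₗ[R] N') (h : AC (R := R) N B) :
    AC (R := R) N' B :=
  fun i => torV_congr e i B (h i)

theorem AC.of_flat (B : Type u) [AddCommGroup B] [Module R B] [Module.Flat R N] : AC (R := R) N B :=
  fun i => torV_of_flat i B

theorem injective_of_subsingleton {A C : Type*} [Subsingleton A] (f : A → C) : Function.Injective f :=
  fun _ _ _ => Subsingleton.elim _ _

/-- A short exact sequence with flat middle term and Tor-acyclic quotient. -/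
theorem rTensor_injective_of_torV {f : K →ₗ[R] L} {g : L →ₗ[R] N} (hf : Function.Injective f)
    (hfg : Function.Exact f g) (hg : Function.Surjective g) [Module.Flat R L] (B : Type u) [AddCommGroup B]
    [Module R B] (h : TorV (R := R) N 0 B) : Function.Injective (f.rTensor B) := by
  let G := B →₀ R
  let j := (syzB (R := R) B).subtype
  let π := cov (R := R) B
  have hjπ : Function.Exact j π := LinearMap.exact_subtype_ker_map π
  rw [injective_iff_map_eq_zero]
  intro z hz
  obtain ⟨y, rfl⟩ := LinearMap.lTensor_surjective K (cov_surjective B) z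
  have h1 : π.lTensor L (f.rTensor G y) = 0 := by
    rw [← LinearMap.comp_apply, LinearMap.lTensor_comp_rTensor, ← LinearMap.rTensor_comp_lTensor]
    exact hz
  have hh := lTensor_exact (R := R) (M := ↥(syzB (R := R) B)) (N := B →₀ R) (P := B) (f := j) (g := π) L
  obtain ⟨w, hw⟩ := (hh hjπ (cov_surjective B) _).1 h1
  have h2 : g.rTensor (syzB (R := R) B) w = 0 := by
    refine h ?_
    rw [map_zero, ← LinearMap.comp_apply, LinearMap.lTensor_comp_rTensor, ← LinearMap.rTensor_comp_lTensor,
      LinearMap.comp_apply, hw, ← LinearMap.comp_apply, ← LinearMap.rTensor_comp, hfg.linearMap_comp_eq_zero,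
      LinearMap.rTensor_zero, LinearMap.zero_apply]
  obtain ⟨w', rfl⟩ := (rTensor_exact (R := R) (f := f) (g := g) (syzB (R := R) B) hfg hg _).1 h2
  have h3 : f.rTensor G (j.lTensor K w') = f.rTensor G y := by
    rw [← LinearMap.comp_apply, LinearMap.rTensor_comp_lTensor, ← LinearMap.lTensor_comp_rTensor,
      LinearMap.comp_apply, hw]
  have h4 : j.lTensor K w' = y := Module.Flat.rTensor_preserves_injective_linearMap (M := G) f hf h3
  rw [← h4, ← LinearMap.comp_apply, ← LinearMap.lTensor_comp, hjπ.linearMap_comp_eq_zero, LinearMap.lTensor_zero,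
    LinearMap.zero_apply]

theorem torV_kernel {f : K →ₗ[R] L} {g : L →ₗ[R] N} (hf : Function.Injective f)
    (hfg : Function.Exact f g) (hg : Function.Surjective g) [Module.Flat R L] :
    ∀ (i : ℕ) (B : Type u) [AddCommGroup B] [Module R B], TorV (R := R) N (i + 1) B → TorV (R := R) K i B
  | 0, B, _, _, h => by
    have hS : Function.Injective (f.rTensor ↥(syzB (R := R) B)) :=
      rTensor_injective_of_torV hf hfg hg ↥(syzB (R := R) B) h
    refine Function.Injective.of_comp (f := f.rTensor (B →₀ R)) ?_
    rw [← LinearMap.coe_comp, LinearMap.rTensor_comp_lTensor, ← LinearMap.lTensor_comp_rTensor, LinearMap.coe_comp]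
    exact (Module.Flat.lTensor_preserves_injective_linearMap _ (syzB (R := R) B).injective_subtype).comp hS
  | i + 1, B, _, _, h => torV_kernel hf hfg hg i ↥(syzB (R := R) B) h

theorem AC.kernel {f : K →ₗ[R] L} {g : L →ₗ[R] N} (hf : Function.Injective f)
    (hfg : Function.Exact f g) (hg : Function.Surjective g) [Module.Flat R L] {B : Type u} [AddCommGroup B]
    [Module R B] (h : AC (R := R) N B) : AC (R := R) K B :=
  fun i => torV_kernel hf hfg hg i B (h (i + 1))

/-- Cutting down by an element regular on the module and on the tensor product. -/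
theorem torV_zero_quotSMulTop {x : R} {B : Type u} [AddCommGroup B] [Module R B]
    (h : TorV (R := R) N 0 B) (hxB : IsSMulRegular (N ⊗[R] B) x) :
    TorV (R := R) (QuotSMulTop x N) 0 B := by
  let G := B →₀ R
  let j := (syzB (R := R) B).subtype
  let π := cov (R := R) B
  let q : N →ₗ[R] QuotSMulTop x N := (x • (⊤ : Submodule R N)).mkQ
  let m : N →ₗ[R] N := x • LinearMap.id
  have hmq : Function.Exact m q := by
    rw [LinearMap.exact_iff, Submodule.ker_mkQ]
    ext t
    simp [m, Submodule.mem_smul_pointwise_iff_exists]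
  have hq : Function.Surjective q := Submodule.mkQ_surjective _
  show Function.Injective (j.lTensor (QuotSMulTop x N))
  rw [injective_iff_map_eq_zero]
  intro z hz
  obtain ⟨z, rfl⟩ := LinearMap.rTensor_surjective (syzB (R := R) B) hq z
  have h1 : q.rTensor G (j.lTensor N z) = 0 := by
    rw [← LinearMap.comp_apply, LinearMap.rTensor_comp_lTensor, ← LinearMap.lTensor_comp_rTensor]
    exact hz
  obtain ⟨w, hw⟩ := (rTensor_exact (R := R) (f := m) (g := q) G hmq hq _).1 h1
  have hm : ∀ {P : Type u} [AddCommGroup P] [Module R P] (t : N ⊗[R] P), m.rTensor P t = x • t := fun t => by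
    simp [m, LinearMap.rTensor_smul]
  rw [hm] at hw
  have h2 : π.lTensor N w = 0 := by
    refine hxB ?_
    show x • π.lTensor N w = x • 0
    rw [smul_zero, ← map_smul, hw, ← LinearMap.comp_apply, ← LinearMap.lTensor_comp,
      (LinearMap.exact_subtype_ker_map π).linearMap_comp_eq_zero, LinearMap.lTensor_zero, LinearMap.zero_apply]
  have hh := lTensor_exact (R := R) (M := ↥(syzB (R := R) B)) (N := B →₀ R) (P := B) (f := j) (g := π) N
  obtain ⟨w', rfl⟩ := (hh (LinearMap.exact_subtype_ker_map π) (cov_surjective B) _).1 h2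
  have h3 : z = m.rTensor _ w' := by
    refine h ?_
    show j.lTensor N z = j.lTensor N (m.rTensor _ w')
    rw [show m.rTensor _ w' = x • w' by simp [m, LinearMap.rTensor_smul], map_smul]
    exact hw.symm
  rw [h3, ← LinearMap.comp_apply, ← LinearMap.rTensor_comp, hmq.linearMap_comp_eq_zero, LinearMap.rTensor_zero,
    LinearMap.zero_apply]

theorem isSMulRegular_tensor_flat {x : R} (G : Type u) [AddCommGroup G] [Module R G] [Module.Flat R G]
    (hx : IsSMulRegular N x) : IsSMulRegular (N ⊗[R] G) x := by
  have h := Module.Flat.rTensor_preserves_injective_linearMap (M := G) (x • (LinearMap.id : N →ₗ[R] N))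
    (fun a b hab => hx hab)
  intro a b hab
  refine h ?_
  simpa [LinearMap.rTensor_smul] using hab

theorem torV_quotSMulTop {x : R} (hx : IsSMulRegular N x) :
    ∀ (i : ℕ) (B : Type u) [AddCommGroup B] [Module R B], AC (R := R) N B → IsSMulRegular (N ⊗[R] B) x →
      TorV (R := R) (QuotSMulTop x N) i B
  | 0, _, _, _, h, hxB => torV_zero_quotSMulTop (h 0) hxB
  | i + 1, B, _, _, h, _ => torV_quotSMulTop hx i ↥(syzB (R := R) B) h.syz (fun a b hab => by
      refine h 0 (isSMulRegular_tensor_flat (B →₀ R) hx ?_)
      show x • _ = x • _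
      rw [← map_smul, ← map_smul]
      exact congrArg _ hab)

theorem AC.quotSMulTop {x : R} {B : Type u} [AddCommGroup B] [Module R B] (hx : IsSMulRegular N x)
    (h : AC (R := R) N B) (hxB : IsSMulRegular (N ⊗[R] B) x) : AC (R := R) (QuotSMulTop x N) B :=
  fun i => torV_quotSMulTop hx i B h hxB

/-- A quotient by a sequence that is weakly regular on the module and on the tensor product. -/
theorem AC.quotient_ofList {B : Type u} [AddCommGroup B] [Module R B] :
    ∀ (rs : List R) (N : Type u) [AddCommGroup N] [Module R N], IsWeaklyRegular N rs →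
      IsWeaklyRegular (N ⊗[R] B) rs → AC (R := R) N B →
      AC (R := R) (N ⧸ (Ideal.ofList rs • ⊤ : Submodule R N)) B
  | [], N, _, _, _, _, h => h.congr (Submodule.quotEquivOfEqBot _ (by simp)).symm
  | r :: rs, N, _, _, h₁, h₂, h => by
    rw [isWeaklyRegular_cons_iff] at h₁ h₂
    have h₃ : IsWeaklyRegular (QuotSMulTop r N ⊗[R] B) rs :=
      (LinearEquiv.isWeaklyRegular_congr (quotSMulTopTensorEquivQuotSMulTop r B N) rs).2 h₂.2
    exact (AC.quotient_ofList rs (QuotSMulTop r N) h₁.2 h₃ (h.quotSMulTop h₁.1 h₂.1)).congr
      (Submodule.quotOfListConsSMulTopEquivQuotSMulTopInner N r rs).symm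

theorem AC.of_ring {B : Type u} [CommRing B] [Algebra R B] (rs : List R) (h₁ : IsWeaklyRegular R rs)
    (h₂ : IsWeaklyRegular B (rs.map (algebraMap R B))) : AC (R := R) (R ⧸ Ideal.ofList rs) B := by
  have h₂' : IsWeaklyRegular (R ⊗[R] B) rs :=
    (LinearEquiv.isWeaklyRegular_congr (TensorProduct.lid R B) rs).2 ((isWeaklyRegular_map_algebraMap_iff B B rs).1 h₂)
  exact (AC.quotient_ofList rs R h₁ h₂' (AC.of_flat B)).congr
    (Submodule.quotEquivOfEq _ _ (by rw [smul_eq_mul, Ideal.mul_top]))

theorem torV_prod : ∀ (i : ℕ) (B : Type u) [AddCommGroup B] [Module R B],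
    TorV (R := R) N i B → TorV (R := R) N' i B → TorV (R := R) (N × N') i B
  | 0, B, _, _, h, h' => by
    let j := (syzB (R := R) B).subtype
    refine Function.Injective.of_comp (f := TensorProduct.prodLeft R R N N' (B →₀ R)) ?_
    have e : (TensorProduct.prodLeft R R N N' (B →₀ R) : _ → _) ∘ (j.lTensor (N × N')) =
        Prod.map (j.lTensor N) (j.lTensor N') ∘ (TensorProduct.prodLeft R R N N' ↥(syzB (R := R) B) : _ → _) := by
      funext z
      simp only [Function.comp_apply]
      induction z using TensorProduct.induction_on with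
      | zero => simp; rfl
      | tmul m s => obtain ⟨m₁, m₂⟩ := m; simp [j, Prod.map]
      | add z w hz hw => simp only [map_add, hz, hw, Prod.map, Prod.mk_add_mk, Prod.fst_add, Prod.snd_add]
    rw [e]
    exact (Function.Injective.prodMap h h').comp (LinearEquiv.injective _)
  | i + 1, B, _, _, h, h' => torV_prod i ↥(syzB (R := R) B) h h'

theorem AC.prod {B : Type u} [AddCommGroup B] [Module R B] (h : AC (R := R) N B) (h' : AC (R := R) N' B) :
    AC (R := R) (N × N') B :=
  fun i => torV_prod i B (h i) (h' i)

theorem AC.of_subsingleton (B : Type u) [AddCommGroup B] [Module R B] [Subsingleton N] : AC (R := R) N B :=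
  AC.of_flat B

theorem AC.pi {B : Type u} [AddCommGroup B] [Module R B] (h : AC (R := R) N B) :
    ∀ r : ℕ, AC (R := R) (Fin r → N) B
  | 0 => AC.of_subsingleton B
  | r + 1 => (h.prod (AC.pi h r)).congr (Fin.consLinearEquiv R fun _ : Fin (r + 1) => N)

end Groth.Agent.KRRReg
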