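import Groth.Agent.KRRReg.BaseVan
import Groth.Agent.S12131
import Groth.Agent.QCoh.PullbackBC
import Groth.Agent.ExistEasy.PP.PullSec
import Groth.Agent.KRRReg.Kernel

/-!
# Sections of modules pulled back to projective space
-/

set_option linter.style.haveILetI false
set_option linter.unusedSectionVars false
set_option backward.isDefEq.respectTransparency false
set_option backward.isDefEq.respectTransparency.types false
set_option maxHeartbeats 1000000
set_option synthInstance.maxHeartbeats 200000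
set_option autoImplicit false

universe u

open CategoryTheory CategoryTheory.Limits AlgebraicGeometry TopologicalSpace Opposite
open scoped TensorProduct
open Groth.Agent.H23.PicMul

attribute [-instance] ULift.module ULift.smulLeft ULift.mulAction ULift.smulZeroClass ULift.distribSMul
  ULift.distribMulAction ULift.smulWithZero ULift.mulActionWithZero

noncomputable section

namespace Groth.Agent.KRRReg

open Groth.Agent

/-- Degree zero homology is the kernel of the first differential. -/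
theorem nonempty_homology_zero {R : Type u} [CommRing R] (C : CochainComplex (ModuleCat.{u} R) ℕ) :
    Nonempty ((C.homology 0 : ModuleCat.{u} R) ≃ₗ[R] LinearMap.ker (C.d 0 1).hom) :=
  ⟨((CochainComplex.isoHomologyπ₀ C).symm ≪≫ C.cyclesIsoSc' 0 0 1 (CochainComplex.prev_nat_zero) (CochainComplex.next _ _) ≪≫
    (C.sc' 0 0 1).moduleCatCyclesIso).toLinearEquiv⟩

/-- A commutative algebra which is cyclic as a module is a quotient. -/
theorem surjective_of_cyclic {B G : Type u} [CommRing B] [CommRing G] (f : B →+* G) (e : G)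
    (h : ∀ z, ∃ b, f b * e = z) : Function.Surjective f := by
  obtain ⟨b₀, hb₀⟩ := h 1
  obtain ⟨c, hc⟩ := h (e * e)
  have he : e = f c := by
    calc e = (f b₀ * e) * e := by rw [hb₀, one_mul]
      _ = f b₀ * (f c * e) := by rw [mul_assoc, hc]
      _ = f c * (f b₀ * e) := by ring
      _ = f c := by rw [hb₀, mul_one]
  intro z
  obtain ⟨b, rfl⟩ := h z
  exact ⟨b * c, by rw [map_mul, ← he]⟩

variable {n : ℕ}

/-- `Γ(P^n_B, O) = B`. -/
theorem surjective_toGlobal {B : Type u} [CommRing B] (φ : Zu.{u} →+* B) {X' : Scheme.{u}}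
    [X'.Over (Spec (CommRingCat.of B))] (g : X' ⟶ Pz n)
    (h : IsPullback g (X' ↘ Spec (CommRingCat.of B)) ((Pz n) ↘ Spec (CommRingCat.of Zu.{u}))
      (Spec.map (CommRingCat.ofHom φ))) :
    Function.Surjective (Coh.toGlobal (A := B) (X' ↘ Spec (CommRingCat.of B))) := by
  let F := Twist.twistProjSpace n Zu.{u} 0
  have hF : Coh.IsQCoh F := PnCoh.isQCoh_twist_mvPolynomial _ Zu.{u} 0
  let U : ULift.{u} (Fin (n + 1)) → (Pz n).Opens := fun j => PnCoh.mOpen Zu.{u} (Finsupp.single j.down 1)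
  have hcov : ⨆ i, U i = ⊤ := top_le_iff.1 ((PnCoh.iSup_mOpen_single (ι := Fin (n + 1)) (R := Zu.{u})).ge.trans
    (iSup_le fun j => le_iSup_of_le (ULift.up j) le_rfl))
  have hU : ∀ {q : ℕ} (σ : Fin (q + 1) → ULift.{u} (Fin (n + 1))), IsAffineOpen (⨅ a, U (σ a)) := fun σ =>
    IsAffineOpen.iInf fun a => PnCoh.isAffineOpen_mOpen (Finsupp.single_ne_zero.2 one_ne_zero)
  obtain ⟨ψ⟩ := QCoh.nonempty_cechA_bc_iso φ g h hF U hU
  have hcov' : ⨆ i, g ⁻¹ᵁ U i = ⊤ := by rw [← Scheme.Hom.preimage_iSup, hcov]; rfl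
  let ρ' := Coh.toGlobal (A := B) (X' ↘ Spec (CommRingCat.of B))
  let F' := (Scheme.Modules.pullback g).obj F
  letI := QCoh.modHH ρ' F' 0
  letI := QCoh.modHH ρ' (Coh.structureModule X') 0
  obtain ⟨e'⟩ := QCoh.cxMod_homology_equiv ρ' (fun i => g ⁻¹ᵁ U i) hcov'
    (fun σ => QCoh.isAffineOpen_preimage φ g h U hU σ) (QCoh.isQCoh_pullback g hF) 0
  let ρ := Coh.toGlobal (A := Zu.{u}) ((Pz n) ↘ Spec (CommRingCat.of Zu.{u}))
  let C := QCoh.cechA (A := Zu.{u}) F U
  have htf : ∀ (i : ℕ) (a : Zu.{u}) (m : C.X i), a • m = 0 → a = 0 ∨ m = 0 := by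
    intro i a m ham
    refine or_iff_not_imp_left.2 fun ha => ?_
    rw [CohBasic.down_smul] at ham
    refine Subtype.ext (funext₂ fun σ W => ?_)
    exact CohBasic.sections_tf n 0 W.1 a.down (CohBasic.down_ne ha) _ (congrArg (fun t : C.X i => t.1 σ W) ham)
  obtain ⟨e₀⟩ := QCoh.cxMod_homology_equiv ρ U hcov hU hF 0
  obtain ⟨e₁⟩ := QCoh.cxMod_homology_equiv ρ U hcov hU hF 1
  obtain ⟨k₀⟩ := nonempty_homology_zero C
  letI := QCoh.modHH ρ F 0
  obtain ⟨t⟩ : Nonempty (Coh.HH (Pz n) F 0 ≃ₗ[Zu.{u}] MvPolynomial.homogeneousSubmodule (Fin (n + 1)) Zu.{u} 0) :=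
    S0843.result Zu.{u} n 0
  let L : LinearMap.ker (C.d 0 1).hom ≃ₗ[Zu.{u}] MvPolynomial.homogeneousSubmodule (Fin (n + 1)) Zu.{u} 0 :=
    k₀.symm.trans (e₀.trans t)
  let c₀ : LinearMap.ker (C.d 0 1).hom := L.symm ⟨1, MvPolynomial.isHomogeneous_one (Fin (n + 1)) Zu.{u}⟩
  have hgen : ∀ x : LinearMap.ker (C.d 0 1).hom, ∃ a : Zu.{u}, a • c₀ = x := fun x => by
    have hx : (L x).1.totalDegree = 0 := le_antisymm ((L x).2.totalDegree_le) (Nat.zero_le _)
    refine ⟨MvPolynomial.coeff 0 (L x).1, L.injective ?_⟩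
    rw [map_smul, LinearEquiv.apply_symm_apply]
    refine Subtype.ext ?_
    rw [Submodule.coe_smul, MvPolynomial.smul_eq_C_mul, mul_one]
    exact ((MvPolynomial.totalDegree_eq_zero_iff_eq_C).1 hx).symm
  let d₀ : Zu.{u} →ₗ[Zu.{u}] C.X 0 := LinearMap.toSpanSingleton _ _ c₀.1
  have hex : Function.Exact d₀ (C.d 0 1).hom := fun x => by
    refine ⟨fun hx => ?_, ?_⟩
    · obtain ⟨a, ha⟩ := hgen ⟨x, hx⟩
      exact ⟨a, congrArg Subtype.val ha⟩
    · rintro ⟨a, rfl⟩
      rw [LinearMap.toSpanSingleton_apply, map_smul, LinearMap.mem_ker.1 c₀.2, smul_zero]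
  letI := φ.toAlgebra
  have hbc : Function.Exact (d₀.baseChange B) ((C.d 0 1).hom.baseChange B) :=
    CohBasic.exact_bc (B := B) (htf 1) (htf 2) d₀ (C.d 0 1).hom (C.d 1 2).hom
      (congrArg ModuleCat.Hom.hom (C.d_comp_d 0 1 2)) hex fun a m hm hr => by
        rcases eq_or_ne a 0 with ha | ha
        · exact Or.inl ha
        refine Or.inr ?_
        let S := C.sc' 0 1 2
        let e := (C.homologyIsoSc' 0 1 2 (CochainComplex.prev_nat_succ 0) (CochainComplex.next _ _)) ≪≫
          S.moduleCatHomologyIso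
        let z : LinearMap.ker (C.d 1 2).hom := ⟨m, hm⟩
        have hz : a • (Submodule.Quotient.mk z : S.moduleCatLeftHomologyData.H) = 0 := by
          rw [← Submodule.Quotient.mk_smul, Submodule.Quotient.mk_eq_zero]
          obtain ⟨x, hx⟩ := hr
          exact ⟨x, Subtype.ext hx⟩
        have h' : (e.inv (Submodule.Quotient.mk z : S.moduleCatLeftHomologyData.H)) = 0 := by
          refine ((CohBasic.HH_tf n 0 1 a (e₁ (e.inv (Submodule.Quotient.mk z))) ?_).resolve_left ha |> fun q =>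
            e₁.injective (q.trans (map_zero e₁).symm))
          rw [← map_smul, ← map_smul, hz, map_zero, map_zero]
        have : (Submodule.Quotient.mk z : S.moduleCatLeftHomologyData.H) = 0 := by
          have := congrArg e.hom h'
          rwa [map_zero, Iso.inv_hom_id_apply] at this
        obtain ⟨x, hx⟩ := (Submodule.Quotient.mk_eq_zero _).1 this
        exact ⟨x, congrArg Subtype.val hx⟩
  obtain ⟨k'⟩ := nonempty_homology_zero (QCoh.cechA (A := B) F' (fun i => g ⁻¹ᵁ U i))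
  obtain ⟨kb⟩ := nonempty_homology_zero (CohIII.bcCx φ C)
  let H := ((HomologicalComplex.homologyFunctor _ _ 0).mapIso ψ).toLinearEquiv
  let e := QCoh.HHcongr ρ' ((cl_eq_iff.1 (cl_O_zero g)).some) 0
  let Θ : LinearMap.ker ((CohIII.bcCx φ C).d 0 1).hom ≃ₗ[B] Coh.HH X' (Coh.structureModule X') 0 :=
    kb.symm.trans (H.trans (e'.trans e))
  let y : LinearMap.ker ((CohIII.bcCx φ C).d 0 1).hom :=
    ⟨(1 : B) ⊗ₜ[Zu.{u}] c₀.1, (hbc _).2 ⟨(1 : B) ⊗ₜ[Zu.{u}] (1 : Zu.{u}), by simp [d₀]⟩⟩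
  letI := QCoh.secModule ρ' (Coh.structureModule X') ⊤
  let sH := QCoh.secH ρ' (Coh.structureModule X')
  refine surjective_of_cyclic (G := Γ(X', ⊤)) ρ' (show Γ(X', ⊤) from sH.symm (Θ y)) fun z => ?_
  obtain ⟨x, hx⟩ := (hbc _).1 (Θ.symm (sH (show Γ(Coh.structureModule X', ⊤) from z))).2
  obtain ⟨b, rfl⟩ : ∃ b : B, b ⊗ₜ[Zu.{u}] (1 : Zu.{u}) = x :=
    ⟨TensorProduct.rid Zu.{u} B x, (TensorProduct.rid Zu.{u} B).symm_apply_apply x⟩
  refine ⟨b, ?_⟩
  have hy : b • y = Θ.symm (sH (show Γ(Coh.structureModule X', ⊤) from z)) := by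
    refine Subtype.ext ?_
    refine Eq.trans ?_ hx
    show b • ((1 : B) ⊗ₜ[Zu.{u}] c₀.1) = b ⊗ₜ[Zu.{u}] d₀ 1
    rw [TensorProduct.smul_tmul', smul_eq_mul, mul_one, show d₀ 1 = c₀.1 from one_smul _ _]
  have hz := congrArg (fun w => sH.symm (Θ w)) hy
  simp only [map_smul, LinearEquiv.apply_symm_apply, LinearEquiv.symm_apply_apply] at hz
  refine Eq.trans ?_ hz
  show _ = (X'.presheaf.map (homOfLE (le_top : (⊤ : X'.Opens) ≤ ⊤)).op) (ρ' b) * _
  rw [show (homOfLE (le_top : (⊤ : X'.Opens) ≤ ⊤)).op = 𝟙 _ from rfl, X'.presheaf.map_id]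
  rfl

theorem leTop {X Y : Scheme.{u}} (π : X ⟶ Y) : (⊤ : X.Opens) ≤ π ⁻¹ᵁ (⊤ : Y.Opens) := le_top

theorem structure_pullSec {X Y : Scheme.{u}} (π : X ⟶ Y) :
    ∃ e : (Scheme.Modules.pullback π).obj (Coh.structureModule Y) ≅ Coh.structureModule X,
      ∀ x : Γ(Y, ⊤), e.hom.app ⊤ (QCoh.pullSec π (Coh.structureModule Y) (leTop π) x) =
        π.appTop x := by
  let φ := π.toRingCatSheafHom
  let e : (Scheme.Modules.pullback π).obj (Coh.structureModule Y) ⟶ Coh.structureModule X :=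
    SheafOfModules.pullbackObjUnitToUnit φ
  have : IsIso e := inferInstanceAs (IsIso (SheafOfModules.pullbackObjUnitToUnit φ))
  refine ⟨asIso e, fun x => ?_⟩
  have h1 : (Scheme.Modules.pullbackPushforwardAdjunction π).unit.app _ ≫ (Scheme.Modules.pushforward π).map e =
      SheafOfModules.unitToPushforwardObjUnit φ :=
    ((Scheme.Modules.pullbackPushforwardAdjunction π).homEquiv_unit _ _ e).symm.trans (Equiv.apply_symm_apply _ _)
  have h2 : e.app ⊤ (((Scheme.Modules.pullbackPushforwardAdjunction π).unit.app (Coh.structureModule Y)).app ⊤ x) =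
      π.appTop x := congrArg (fun t => Scheme.Modules.Hom.app t ⊤ x) h1
  refine Eq.trans ?_ h2
  refine congrArg (e.app ⊤) ?_
  exact QCoh.map_id' (M := (Scheme.Modules.pullback π).obj (Coh.structureModule Y)) _ _

theorem surjective_pullSec_tilde {A : CommRingCat.{u}} {P : Scheme.{u}} (π : P ⟶ Spec A) (g : P ⟶ Pz n)
    (hsq : IsPullback g π (CohB1.ProjSpace.toSpec n Zu.{u}) (specULiftZIsTerminal.from (Spec A)))
    (M : ModuleCat.{u} A) :
    Function.Surjective (QCoh.pullSec π ((tilde.functor A).obj M) (leTop π)) := by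
  letI : Module Aᵐᵒᵖ M := Module.compHom M ((RingHom.id A).fromOpposite mul_comm)
  haveI : IsCentralScalar A M := ⟨fun _ _ => rfl⟩
  let B : CommRingCat.{u} := CommRingCat.of (TrivSqZeroExt A M)
  let φ : A ⟶ B := CommRingCat.ofHom (algebraMap A (TrivSqZeroExt A M))
  let f := Spec.map φ
  let P' := pullback π f
  let f' : P' ⟶ P := pullback.fst π f
  let π' : P' ⟶ Spec B := pullback.snd π f
  haveI : IsAffineHom f' := MorphismProperty.pullback_fst (P := @IsAffineHom) _ _ inferInstance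
  letI : P'.Over (Spec (CommRingCat.of B)) := ⟨π'⟩
  have hsq' : IsPullback (f' ≫ g) π' (CohB1.ProjSpace.toSpec n Zu.{u})
      (Spec.map (CommRingCat.ofHom ((Int.castRingHom B).comp (ULift.ringEquiv (R := ℤ)).toRingHom))) := by
    have h := (IsPullback.of_hasPullback π f).paste_horiz hsq
    rwa [specULiftZIsTerminal.hom_ext (f ≫ specULiftZIsTerminal.from (Spec A))
      (Spec.map (CommRingCat.ofHom ((Int.castRingHom B).comp (ULift.ringEquiv (R := ℤ)).toRingHom)))] at h
  have hsurj := surjective_toGlobal (B := (B : Type u))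
    ((Int.castRingHom B).comp (ULift.ringEquiv (R := ℤ)).toRingHom) (f' ≫ g) hsq'
  let N := (tilde.functor A).obj M
  let NB := (Coh.push f).obj (Coh.structureModule (Spec B))
  obtain ⟨s, r, hsr⟩ : ∃ (s : N ⟶ NB) (r : NB ⟶ N), s ≫ r = 𝟙 N := exists_retract_tilde M
  haveI : Coh.IsQCoh (Coh.structureModule (Spec B)) := QCoh.isQCoh_structureModule
  let α := CohBC.bc0Adj f π f' π' (IsPullback.of_hasPullback π f).flip.w (Coh.structureModule (Spec B))
  let β := CohBC.bc0 f π f' π' (IsPullback.of_hasPullback π f).flip.w (Coh.structureModule (Spec B))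
  haveI : IsIso β := S12131.result f π π' f' (IsPullback.of_hasPullback π f).flip (Coh.structureModule (Spec B))
  obtain ⟨e, he⟩ := structure_pullSec π'
  intro z
  let z' := ((Scheme.Modules.pullback π).map s).app ⊤ z
  obtain ⟨b, hb⟩ := hsurj (e.hom.app ⊤ (β.app ⊤ z'))
  let x : Γ(Spec B, ⊤) := (Scheme.ΓSpecIso B).inv b
  have hx : β.app ⊤ z' = QCoh.pullSec π' (Coh.structureModule (Spec B)) (leTop π') x := by
    refine (ConcreteCategory.bijective_of_isIso (e.hom.app ⊤)).1 ?_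
    rw [he x]
    exact hb.symm
  have hβ : β.app ⊤ (QCoh.pullSec π NB (leTop π) x) =
      QCoh.pullSec π' (Coh.structureModule (Spec B)) (leTop π') x := by
    have h1 : (Scheme.Modules.pullbackPushforwardAdjunction π).unit.app _ ≫
        (Scheme.Modules.pushforward π).map β = α :=
      ((Scheme.Modules.pullbackPushforwardAdjunction π).homEquiv_unit _ _ β).symm.trans (Equiv.apply_symm_apply _ α)
    have h2 : β.app ⊤ (((Scheme.Modules.pullbackPushforwardAdjunction π).unit.app NB).app ⊤ x) = α.app ⊤ x :=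
      congrArg (fun t => Scheme.Modules.Hom.app t ⊤ x) h1
    refine Eq.trans (congrArg (β.app ⊤) (QCoh.map_id' (M := (Scheme.Modules.pullback π).obj NB) _ _)) (h2.trans ?_)
    refine Eq.trans ?_ (QCoh.map_id' (M := (Scheme.Modules.pullback π').obj (Coh.structureModule (Spec B))) _ _).symm
    refine Eq.trans ?_ (QCoh.map_id' (M := (Scheme.Modules.pullback π').obj (Coh.structureModule (Spec B))) (𝟙 _) _)
    rfl
  have hz' : z' = QCoh.pullSec π NB (leTop π) x :=
    (ConcreteCategory.bijective_of_isIso (β.app ⊤)).1 (hx.trans hβ.symm)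
  refine ⟨r.app ⊤ x, ?_⟩
  rw [← ExistEasy.pullSec_natural, ← hz']
  have hF : (Scheme.Modules.pullback π).map s ≫ (Scheme.Modules.pullback π).map r = 𝟙 _ := by
    rw [← CategoryTheory.Functor.map_comp, hsr]
    exact (Scheme.Modules.pullback π).map_id N
  exact congr(($hF).app ⊤ z)

theorem injective_pullSec_ι {X : Scheme.{u}} (U : X.Opens) (G : X.Modules) :
    Function.Injective (QCoh.pullSec U.ι G (U.ι_preimage_self.ge : (⊤ : U.toScheme.Opens) ≤ U.ι ⁻¹ᵁ U)) := by
  intro a b hab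
  let e := Scheme.Modules.restrictFunctorIsoPullback U.ι
  have hu := (Scheme.Modules.restrictAdjunction U.ι).unit_leftAdjointUniq_hom_app
    (Scheme.Modules.pullbackPushforwardAdjunction U.ι) G
  have key : ∀ t : Γ(G, U), (e.hom.app G).app (U.ι ⁻¹ᵁ U)
      (((Scheme.Modules.restrictAdjunction U.ι).unit.app G).app U t) =
      ((Scheme.Modules.pullbackPushforwardAdjunction U.ι).unit.app G).app U t :=
    fun t => congrArg (fun φ => Scheme.Modules.Hom.app φ U t) hu
  refine QCoh.unit_restrict_app_injective U G le_rfl ?_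
  refine (ConcreteCategory.bijective_of_isIso ((e.hom.app G).app (U.ι ⁻¹ᵁ U))).1 ?_
  rw [key, key]
  have : IsIso ((((Scheme.Modules.pullback U.ι).obj G)).presheaf.map
      (homOfLE (U.ι_preimage_self.ge : (⊤ : U.toScheme.Opens) ≤ U.ι ⁻¹ᵁ U)).op) := by
    haveI : IsIso (homOfLE (U.ι_preimage_self.ge : (⊤ : U.toScheme.Opens) ≤ U.ι ⁻¹ᵁ U)) :=
      ⟨homOfLE le_top, Subsingleton.elim _ _, Subsingleton.elim _ _⟩
    infer_instance
  exact (ConcreteCategory.bijective_of_isIso _).1 hab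

/-- Sections of a module pulled back from the base come from the base. -/
theorem surjective_pullSec_pr {T : Scheme.{u}} {N : T.Modules} (hN : Coh.IsQCoh N) (V : T.affineOpens) :
    Function.Surjective (QCoh.pullSec (KRR.pr n T) N (le_rfl : UV n V.1 ≤ KRR.pr n T ⁻¹ᵁ V.1)) := by
  intro z
  let q := V.2.fromSpec
  let π := QCoh.overSpec (KRR.pr n T) V.2
  let j := (UV n V.1).ι
  let p := KRR.pr n T
  have hw : π ≫ q = j ≫ p := QCoh.overSpec_fromSpec (f := KRR.pr n T) V.2
  obtain ⟨M, ⟨eM⟩⟩ := QCoh.isQCoh_spec_iff.1 (QCoh.isQCoh_pullback q hN)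
  let c : (Scheme.Modules.pullback π).obj ((tilde.functor _).obj M) ≅
      (Scheme.Modules.pullback j).obj ((Scheme.Modules.pullback p).obj N) :=
    (Scheme.Modules.pullback π).mapIso eM ≪≫ (Scheme.Modules.pullbackComp π q).app N ≪≫
      (Scheme.Modules.pullbackCongr hw).app N ≪≫ (Scheme.Modules.pullbackComp j p).symm.app N
  obtain ⟨w, hw'⟩ := (ConcreteCategory.bijective_of_isIso (c.hom.app ⊤)).2
    (QCoh.pullSec j _ ((UV n V.1).ι_preimage_self.ge : (⊤ : (UV n V.1).toScheme.Opens) ≤ j ⁻¹ᵁ UV n V.1) z)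
  obtain ⟨m, rfl⟩ := surjective_pullSec_tilde π (gV n V.1) (isPullback_gV V) M w
  have hq : (⊤ : (Spec Γ(T, V.1)).Opens) ≤ q ⁻¹ᵁ V.1 := V.2.fromSpec_preimage_self.ge
  have hb : Function.Bijective (q.appLE V.1 ⊤ hq) := by
    haveI : IsIso (q.appLE V.1 ⊤ hq) := by
      rw [Scheme.Hom.appLE]
      haveI : IsIso (q.app V.1) := q.isIso_app V.1 (V.2.opensRange_fromSpec.ge)
      haveI : IsIso (homOfLE hq) := ⟨homOfLE le_top, Subsingleton.elim _ _, Subsingleton.elim _ _⟩
      infer_instance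
    exact ConcreteCategory.bijective_of_isIso _
  obtain ⟨x, hx⟩ := (ExistEasy.bijective_pullSec_of_isIso q hN (isAffineOpen_top _) V.2 hq hb).2 (eM.hom.app ⊤ m)
  refine ⟨x, injective_pullSec_ι _ _ ?_⟩
  refine Eq.trans ?_ hw'
  refine (ConcreteCategory.bijective_of_isIso (((Scheme.Modules.pullbackComp j p).hom.app N).app ⊤)).1 ?_
  refine (ExistEasy.pullSec_comp j p N le_rfl (UV n V.1).ι_preimage_self.ge x).trans ?_
  have hc : c.hom ≫ (Scheme.Modules.pullbackComp j p).hom.app N =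
      (Scheme.Modules.pullback π).map eM.hom ≫ (Scheme.Modules.pullbackComp π q).hom.app N ≫
        (Scheme.Modules.pullbackCongr hw).hom.app N := by simp [c]
  refine Eq.trans ?_ (congr(($hc).app ⊤ _)).symm
  show _ = ((Scheme.Modules.pullbackCongr hw).hom.app N).app ⊤
    (((Scheme.Modules.pullbackComp π q).hom.app N).app ⊤
      (((Scheme.Modules.pullback π).map eM.hom).app ⊤ (QCoh.pullSec π _ le_rfl m)))
  rw [ExistEasy.pullSec_natural, ← hx, ExistEasy.pullSec_comp π q N hq (leTop π) x, ExistEasy.pullSec_congr hw]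

end Groth.Agent.KRRReg
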